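import Cfsg.Agent.Lib.Invol.UThreeFour.Shape
import Cfsg.Agent.Lib.SylLThreeFour.Central

/-!
If the centre of a Sylow 2-subgroup of type PSU(3,4) is not fused, that subgroup is normal.
-/

set_option autoImplicit false
set_option linter.unusedSectionVars false
set_option linter.style.haveILetI false

namespace CfsgLib.Invol.UThreeFour

open Subgroup CfsgLib.Invol

universe u

namespace UShape

variable {G : Type u} [Group G] [Finite G] {P : Sylow 2 G} {Z : Subgroup G}
  (h : UShape (P : Subgroup G) Z)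
include h

theorem normalizer_Z {n : G} (hn : n ∈ normalizer ((P : Subgroup G) : Set G)) {t : G} (ht : t ∈ Z) :
    n * t * n⁻¹ ∈ Z := by
  have hs := (mem_normalizer_iff.1 hn t).1 (h.le ht)
  refine (h.invol _ hs).1 ?_
  rw [show n * t * n⁻¹ * (n * t * n⁻¹) = n * (t * t) * n⁻¹ by group, h.mem_sq ht, mul_one,
    mul_inv_cancel]

omit h in
/-- The four elements of `Z`. -/
theorem four_elts {S : Subgroup G} (h : UShape S Z) {z a t : G} (hz : z ∈ Z) (hz1 : z ≠ 1)
    (ha : a ∈ Z) (ha1 : a ≠ 1) (haz : a ≠ z) (ht : t ∈ Z) :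
    t = 1 ∨ t = z ∨ t = a ∨ t = z * a := by
  by_contra hc
  push Not at hc
  obtain ⟨h1, h2, h3, h4⟩ := hc
  let g : Fin 5 → Z := ![1, ⟨z, hz⟩, ⟨a, ha⟩, ⟨z, hz⟩ * ⟨a, ha⟩, ⟨t, ht⟩]
  have hza : z * a ≠ 1 := fun e => haz (by
    rw [← h.inv_Z hz]; exact (inv_eq_of_mul_eq_one_right e).symm)
  have hg : Function.Injective g := by
    intro i j e
    have e' := congrArg Subtype.val e
    fin_cases i <;> fin_cases j <;> simp [g] at e' ⊢ <;>
      first
        | exact hz1 (by assumption)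
        | exact hz1 (Eq.symm (by assumption))
        | exact ha1 (by assumption)
        | exact ha1 (Eq.symm (by assumption))
        | exact haz (by assumption)
        | exact haz (Eq.symm (by assumption))
        | exact hza (by assumption)
        | exact hza (Eq.symm (by assumption))
        | exact h1 (by assumption)
        | exact h1 (Eq.symm (by assumption))
        | exact h2 (by assumption)
        | exact h2 (Eq.symm (by assumption))
        | exact h3 (by assumption)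
        | exact h3 (Eq.symm (by assumption))
        | exact h4 (by assumption)
        | exact h4 (Eq.symm (by assumption))
  have := Nat.card_le_card_of_injective g hg
  rw [Nat.card_fin, h.cardZ] at this
  omega

omit h in
/-- An element of odd order normalizing `Z` and fixing one of its involutions centralizes it. -/
theorem fix_Z {S : Subgroup G} (h : UShape S Z) {n : G} (hn : ∀ t ∈ Z, n * t * n⁻¹ ∈ Z)
    (hodd : Odd (orderOf n)) {z : G} (hz : z ∈ Z) (hz1 : z ≠ 1) (hfix : n * z = z * n) :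
    ∀ t ∈ Z, n * t = t * n := by
  intro a ha
  by_cases ha1 : a = 1
  · simp [ha1]
  by_cases haz : a = z
  · rw [haz, hfix]
  have hz' : n * z * n⁻¹ = z := by rw [hfix, mul_inv_cancel_right]
  rcases h.four_elts hz hz1 ha ha1 haz (hn a ha) with e | e | e | e
  · exact absurd (conj_eq_one_iff.1 e) ha1
  · exact absurd (mul_left_cancel (mul_right_cancel (e.trans hz'.symm))) haz
  · exact mul_inv_eq_iff_eq_mul.1 e
  · have h2 : n ^ 2 * a * (n ^ 2)⁻¹ = a := by
      rw [pow_two, mul_inv_rev, show n * n * a * (n⁻¹ * n⁻¹) = n * (n * a * n⁻¹) * n⁻¹ by group, e,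
        show n * (z * a) * n⁻¹ = (n * z * n⁻¹) * (n * a * n⁻¹) by group, hz', e, ← mul_assoc,
        h.mem_sq hz, one_mul]
    obtain ⟨j, hj⟩ := hodd
    have h3 := (show Commute (n ^ 2) a from mul_inv_eq_iff_eq_mul.1 h2).pow_left (j + 1)
    rwa [← pow_mul, show 2 * (j + 1) = orderOf n + 1 by omega, pow_succ, pow_orderOf_eq_one,
      one_mul] at h3

/-- An element of the normalizer fixing one involution of `Z` centralizes `Z`. -/
theorem normalizer_fix_Z {n z : G} (hn : n ∈ normalizer ((P : Subgroup G) : Set G)) (hz : z ∈ Z)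
    (hz1 : z ≠ 1) (hfix : n * z = z * n) : ∀ t ∈ Z, n * t = t * n := by
  obtain ⟨s, hs, e, -, hen, hodd, rfl⟩ := CfsgLib.SylL34.exists_odd_part P hn
  intro t ht
  have hez : e * z = z * e := by
    refine mul_left_cancel (a := s) ?_
    rw [← mul_assoc, hfix, ← mul_assoc, ← mul_assoc, h.cen z hz s hs]
  rw [mul_assoc, h.fix_Z (fun _ => h.normalizer_Z hen) hodd hz hz1 hez t ht, ← mul_assoc,
    ← h.cen t ht s hs, mul_assoc]

/-- Fusion inside the centre. -/
theorem conj_normalizer {z g : G} (hz : z ∈ Z) (hg : g * z * g⁻¹ ∈ Z) :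
    ∃ n ∈ normalizer ((P : Subgroup G) : Set G), n * z * n⁻¹ = g * z * g⁻¹ := by
  haveI : Fact (Nat.Prime 2) := ⟨Nat.prime_two⟩
  have hc : ∀ {y : G}, y ∈ Z → y ∈ centralizer ((P : Subgroup G) : Set G) := fun {y} hy =>
    mem_centralizer_iff.2 fun s hs => (h.cen y hy s hs).symm
  obtain ⟨n, hn, he⟩ := P.conj_eq_normalizer_conj_of_mem_centralizer z g⁻¹ (hc hz)
    (by rw [inv_inv]; exact hc hg)
  exact ⟨n⁻¹, inv_mem hn, by rw [inv_inv] at he ⊢; exact he.symm⟩

/-- Without fusion the centre is central. -/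
theorem central_of_isolated (hO : Cfsg.oddCore G = ⊥)
    (hN : ∀ n ∈ normalizer ((P : Subgroup G) : Set G), ∀ y ∈ Z, n * y = y * n) :
    Z ≤ center G := by
  intro z hz
  refine mem_center_iff.2 fun g => ?_
  by_cases hz1 : z = 1
  · simp [hz1]
  have hiso : ∀ g : G, g * z * g⁻¹ ∈ P → g * z * g⁻¹ = z := by
    intro g hg
    have hgZ : g * z * g⁻¹ ∈ Z := (h.invol _ hg).1 (by
      rw [show g * z * g⁻¹ * (g * z * g⁻¹) = g * (z * z) * g⁻¹ by group, h.mem_sq hz]; group)
    obtain ⟨n, hn, he⟩ := h.conj_normalizer hz hgZ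
    rw [← he, hN n hn z hz, mul_inv_cancel_right]
  have hz2 : orderOf z = 2 := invol_of_mul_self (h.mem_sq hz) hz1
  have := zstar G (isolated_of_sylow P hz2 (h.le hz) hiso) g
  rw [hO, mem_bot, mul_inv_eq_one, mul_inv_eq_iff_eq_mul] at this
  exact this.symm

/-- If the centre of the Sylow subgroup is central, that subgroup is normal. -/
theorem normal_of_central (hO : Cfsg.oddCore G = ⊥) (hZc : Z ≤ center G) :
    (P : Subgroup G).Normal := by
  haveI : Fact (Nat.Prime 2) := ⟨Nat.prime_two⟩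
  haveI hZn : Z.Normal := ⟨fun z hz g => by
    rw [← (mem_center_iff.1 (hZc hz) g).symm, mul_inv_cancel_right]; exact hz⟩
  let π := QuotientGroup.mk' Z
  have hπ : Function.Surjective π := QuotientGroup.mk'_surjective Z
  let T : Sylow 2 (G ⧸ Z) := P.mapSurjective hπ
  have hTe : (T : Subgroup (G ⧸ Z)) = (P : Subgroup G).map π := rfl
  have hT : ∀ {x : G}, π x ∈ (T : Subgroup (G ⧸ Z)) → x ∈ (P : Subgroup G) := by
    rintro x ⟨s, hs, e⟩
    have : s⁻¹ * x ∈ Z := QuotientGroup.eq.1 e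
    simpa using mul_mem (show s ∈ (P : Subgroup G) from hs) (h.le this)
  have hsq : ∀ x ∈ (T : Subgroup (G ⧸ Z)), x * x = 1 := by
    rintro _ ⟨s, hs, rfl⟩
    rw [← map_mul]
    exact (QuotientGroup.eq_one_iff _).2 (h.sq_mem s hs)
  have hab : ∀ a ∈ (T : Subgroup (G ⧸ Z)), ∀ b ∈ (T : Subgroup (G ⧸ Z)), a * b = b * a := by
    intro a ha b hb
    have e1 := hsq _ (mul_mem ha hb)
    calc a * b = (a * b)⁻¹ := eq_inv_of_mul_eq_one_left e1
      _ = b⁻¹ * a⁻¹ := mul_inv_rev a b
      _ = b * a := by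
        rw [inv_eq_of_mul_eq_one_left (hsq b hb), inv_eq_of_mul_eq_one_left (hsq a ha)]
  have helem : Cfsg.IsElementaryAbelian 2 (T : Subgroup (G ⧸ Z)) :=
    ⟨⟨⟨fun x y => Subtype.ext (hab x x.2 y y.2)⟩⟩, fun b hb => by rw [pow_two]; exact hsq b hb⟩
  have h16 : Nat.card (T : Subgroup (G ⧸ Z)) = 16 := by
    have e := (π.subgroupMap (P : Subgroup G)).ker.card_eq_card_quotient_mul_card_subgroup
    have hk : (π.subgroupMap (P : Subgroup G)).ker = Z.subgroupOf (P : Subgroup G) := by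
      ext x
      rw [MonoidHom.mem_ker, mem_subgroupOf, Subtype.ext_iff]
      exact QuotientGroup.eq_one_iff (x : G)
    rw [h.cardS, Nat.card_congr (QuotientGroup.quotientKerEquivOfSurjective _
      (π.subgroupMap_surjective (P : Subgroup G))).toEquiv, hk,
      Nat.card_congr (subgroupOfEquivOfLe h.le).toEquiv, h.cardZ] at e
    rw [hTe]
    omega
  have hO' : Cfsg.oddCore (G ⧸ Z) = ⊥ := by
    haveI : (Cfsg.oddCore (G ⧸ Z)).Normal := CfsgLib.Solvable.pPrimeCore_normal 2 _
    set R := Cfsg.oddCore (G ⧸ Z) with hR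
    have hM : R.comap π ≤ Z := by
      refine CfsgLib.Fusion.le_of_central_of_odd hO inferInstance (fun x hx => ?_) hZc ?_
      · show π x ∈ R
        rw [(QuotientGroup.eq_one_iff x).2 hx |> (fun e => (e : π x = 1))]
        exact one_mem R
      · have : Z.relIndex (R.comap π) = Nat.card R := by
          have hb : (⊥ : Subgroup (G ⧸ Z)).comap π = Z := QuotientGroup.ker_mk' Z
          refine (congrArg (fun K : Subgroup G => K.relIndex (R.comap π)) hb.symm).trans ?_
          show ((⊥ : Subgroup (G ⧸ Z)).comap π).relIndex (R.comap π) = _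
          rw [relIndex_comap, map_comap_eq_self_of_surjective hπ, relIndex_bot_left]
        rw [this]; exact odd_card_oddCore _
    refine eq_bot_iff.2 fun x hx => ?_
    obtain ⟨x, rfl⟩ := hπ x
    exact (QuotientGroup.eq_one_iff x).2 (hM hx)
  -- the normalizer of the quotient acts semiregularly
  have hfix : ∀ g ∈ normalizer ((T : Subgroup (G ⧸ Z)) : Set (G ⧸ Z)),
      ∀ x ∈ (T : Subgroup (G ⧸ Z)), x ≠ 1 → g * x = x * g →
      g ∈ centralizer ((T : Subgroup (G ⧸ Z)) : Set (G ⧸ Z)) := by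
    intro g hg x hx hx1 hgx
    obtain ⟨g, rfl⟩ := hπ g
    obtain ⟨y, hy, rfl⟩ := hx
    have hgP : g ∈ normalizer ((P : Subgroup G) : Set G) := mem_normalizer_iff.2 fun w =>
      ⟨fun hw => hT (by simpa using (mem_normalizer_iff.1 hg (π w)).1 ⟨w, hw, rfl⟩),
        fun hw => hT ((mem_normalizer_iff.1 hg (π w)).2 ⟨_, hw, by simp⟩)⟩
    obtain ⟨t, ht, e, -, hen, hodd, rfl⟩ := CfsgLib.SylL34.exists_odd_part P hgP
    have hab' : π t * π y = π y * π t := hab _ ⟨t, ht, rfl⟩ _ ⟨_, hy, rfl⟩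
    have h1 : π e * π y = π y * π e := by
      refine mul_left_cancel (a := π t) ?_
      rw [← mul_assoc, ← map_mul π t e, hgx, map_mul π t e, ← mul_assoc, ← hab', mul_assoc]
    have hyZ : y ∉ Z := fun e' => hx1 ((QuotientGroup.eq_one_iff _).2 e')
    have hc := h.cent_of_fix (n := e) (x := y) (fun s hs => (mem_normalizer_iff.1 hen s).1 hs) hodd
      (fun w hw => mem_center_iff.1 (hZc hw) e) hy hyZ ((QuotientGroup.eq_one_iff _).1 (by
        show π (y⁻¹ * (e * y * e⁻¹)) = 1
        rw [map_mul, map_inv, map_mul π (e * y) e⁻¹, map_mul π e y, map_inv, h1,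
          mul_inv_cancel_right, inv_mul_cancel]))
    refine mem_centralizer_iff.2 ?_
    rintro _ ⟨w, hw, rfl⟩
    rw [map_mul π t e, ← mul_assoc, hab _ ⟨_, hw, rfl⟩ _ ⟨t, ht, rfl⟩, mul_assoc, ← map_mul π w e,
      ← hc w hw, map_mul π e w, mul_assoc]
  obtain ⟨z, hz, hz1⟩ : ∃ z ∈ Z, z ≠ 1 := by
    by_contra hc
    push Not at hc
    have := Subgroup.card_le_of_le (show Z ≤ ⊥ from fun x hx => mem_bot.2 (hc x hx))
    rw [h.cardZ, Subgroup.card_bot] at this
    omega
  obtain ⟨z', hz', hz'1, hzz⟩ : ∃ z' ∈ Z, z' ≠ 1 ∧ z' ≠ z := by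
    by_contra hc
    push Not at hc
    have := Subgroup.card_le_of_le (show Z ≤ zpowers z from fun x hx => by
      by_cases hx1 : x = 1
      · exact hx1 ▸ one_mem _
      · exact hc x hx hx1 ▸ mem_zpowers z)
    rw [h.cardZ, Nat.card_zpowers, invol_of_mul_self (h.mem_sq hz) hz1] at this
    omega
  have hsqrt : ∀ w ∈ Z, w ≠ 1 → ∃ x ∈ (P : Subgroup G), x * x = w := by
    intro w hw hw1
    have : Nonempty {x : G // x ∈ (P : Subgroup G) ∧ x * x = w} :=
      (Nat.card_pos_iff.1 (by rw [h.fib w hw hw1]; norm_num)).1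
    obtain ⟨⟨x, hx⟩⟩ := this
    exact ⟨x, hx⟩
  obtain ⟨x, hx, hxx⟩ := hsqrt z hz hz1
  obtain ⟨y, hy, hyy⟩ := hsqrt z' hz' hz'1
  have hxy : ¬ IsConj (π x) (π y) := by
    intro hc
    obtain ⟨g, hg⟩ := isConj_iff.1 hc
    obtain ⟨g, rfl⟩ := hπ g
    rw [← map_inv, ← map_mul, ← map_mul] at hg
    set c := (g * x * g⁻¹)⁻¹ * y
    have hcZ : c ∈ Z := QuotientGroup.eq.1 hg
    have hy' : y = g * x * g⁻¹ * c := by simp only [c]; group
    have hcc : ∀ w : G, w * c = c * w := mem_center_iff.1 (hZc hcZ)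
    refine hzz ?_
    rw [← hyy, hy', show g * x * g⁻¹ * c * (g * x * g⁻¹ * c) =
      g * x * g⁻¹ * (c * (g * x * g⁻¹)) * c by group, ← hcc,
      show g * x * g⁻¹ * (g * x * g⁻¹ * c) * c = g * (x * x) * g⁻¹ * (c * c) by group, hxx,
      h.mem_sq hcZ, mul_one, mem_center_iff.1 (hZc hz) g, mul_inv_cancel_right]
  have hne : ∀ {w v : G}, w * w = v → v ≠ 1 → π w ≠ 1 := fun {w v} e hv h1 => hv (by
    rw [← e]; exact h.mem_sq ((QuotientGroup.eq_one_iff _).1 h1))
  haveI := CfsgLib.SylL34.abelian_sylow_normal T helem h16 hO' hfix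
    ⟨x, hx, rfl⟩ (hne hxx hz1) ⟨y, hy, rfl⟩ (hne hyy hz'1) hxy
  exact ⟨fun s hs g => hT (by
    simpa using Subgroup.Normal.conj_mem (H := (T : Subgroup (G ⧸ Z))) inferInstance _
      ⟨s, hs, rfl⟩ (π g))⟩

/-- If one involution of the centre is central, the Sylow subgroup is normal. -/
theorem central_reduce (hO : Cfsg.oddCore G = ⊥) {z : G} (hz : z ∈ Z) (hz1 : z ≠ 1)
    (hc : ∀ g : G, g * z = z * g) : (P : Subgroup G).Normal ∧ Z ≤ center G := by
  have hZc := h.central_of_isolated hO fun n hn y hy => h.normalizer_fix_Z hn hz hz1 (hc n) y hy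
  exact ⟨h.normal_of_central hO hZc, hZc⟩

end UShape

end CfsgLib.Invol.UThreeFour
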