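import Cfsg.Agent.Lib.Invol.UThreeFour.LocDefs
import Cfsg.Agent.Lib.Invol.PSUThreeFour
import Cfsg.Agent.Lib.SylLThreeFour.Weak
import Cfsg.Agent.Lib.Invol.Basic

/-!
The Sylow 2-subgroup of PSU(3,4): its shape, and odd automorphisms fixing its centre.
-/

set_option autoImplicit false
set_option linter.unusedSectionVars false
set_option linter.style.haveILetI false

namespace CfsgLib.Invol.UThreeFour

open Subgroup

universe u v w

section Model

variable {F : Type v} [Field F] [Fintype F] {hF : Fintype.card F = 16}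

theorem pow_four_root_card (hF : Fintype.card F = 16) :
    Nat.card {t : F // t ^ 4 = t} = 4 := by
  have h := UU.exists_b hF 0 (by simp)
  refine (Nat.card_congr ?_).trans h
  refine Equiv.subtypeEquivRight fun c => ⟨fun e => ?_, fun e => ?_⟩
  · rw [e]; linear_combination c * sixteen_two hF
  · linear_combination e + (-c) * sixteen_two hF

theorem fib_le (hF : Fintype.card F = 16) (c : F) :
    Nat.card {a : F // a * a ^ 4 = c} ≤ 5 := by
  classical
  have hsub : (Finset.univ.filter fun a : F => a * a ^ 4 = c) ⊆ (Polynomial.nthRoots 5 c).toFinset := by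
    intro a ha
    rw [Finset.mem_filter] at ha
    rw [Multiset.mem_toFinset, Polynomial.mem_nthRoots (by norm_num)]
    rw [← ha.2]; ring
  rw [Nat.card_eq_fintype_card, Fintype.card_subtype]
  exact (Finset.card_le_card hsub).trans
    ((Multiset.toFinset_card_le _).trans (Polynomial.card_nthRoots 5 c))

theorem fib_eq (hF : Fintype.card F = 16) {c : F} (hc : c ^ 4 = c) (hc0 : c ≠ 0) :
    Nat.card {a : F // a * a ^ 4 = c} = 5 := by
  classical
  have hmaps : ∀ a ∈ (Finset.univ.filter fun a : F => a ≠ 0),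
      a * a ^ 4 ∈ (Finset.univ.filter fun t : F => t ^ 4 = t ∧ t ≠ 0) := by
    intro a ha
    rw [Finset.mem_filter] at ha ⊢
    exact ⟨Finset.mem_univ _, by rw [mul_pow, sixteen_pow hF, mul_comm],
      mul_ne_zero ha.2 (pow_ne_zero _ ha.2)⟩
  have hsum := Finset.card_eq_sum_card_fiberwise hmaps
  have h15 : (Finset.univ.filter fun a : F => a ≠ 0).card = 15 := by
    rw [Finset.filter_ne', Finset.card_erase_of_mem (Finset.mem_univ _), Finset.card_univ, hF]
  have h3 : (Finset.univ.filter fun t : F => t ^ 4 = t ∧ t ≠ 0).card = 3 := by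
    have h4 := pow_four_root_card hF
    rw [Nat.card_eq_fintype_card, Fintype.card_subtype] at h4
    rw [show (Finset.univ.filter fun t : F => t ^ 4 = t ∧ t ≠ 0) =
        (Finset.univ.filter fun t : F => t ^ 4 = t).erase 0 by ext t; simp [and_comm]]
    rw [Finset.card_erase_of_mem (by simp), h4]
  have hle : ∀ t ∈ (Finset.univ.filter fun t : F => t ^ 4 = t ∧ t ≠ 0),
      ((Finset.univ.filter fun a : F => a ≠ 0).filter fun a => a * a ^ 4 = t).card ≤ 5 := by
    intro t _
    refine le_trans (Finset.card_le_card ?_) ((fib_le hF t).trans' (le_of_eq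
      (by rw [Nat.card_eq_fintype_card, Fintype.card_subtype])))
    intro a ha
    simp only [Finset.mem_filter, Finset.mem_univ, true_and] at ha ⊢
    exact ha.2
  by_contra hne
  have hlt : ((Finset.univ.filter fun a : F => a ≠ 0).filter fun a => a * a ^ 4 = c).card < 5 := by
    have := fib_le hF c
    rw [Nat.card_eq_fintype_card, Fintype.card_subtype] at this hne
    rw [show ((Finset.univ.filter fun a : F => a ≠ 0).filter fun a => a * a ^ 4 = c) =
      Finset.univ.filter fun a : F => a * a ^ 4 = c by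
        ext a
        simp only [Finset.mem_filter, Finset.mem_univ, true_and, and_iff_right_iff_imp]
        rintro e rfl
        exact hc0 (by rw [← e, zero_mul])]
    omega
  have hlt' := Finset.sum_lt_sum (g := fun _ => 5) hle
    ⟨c, by simp [hc, hc0], hlt⟩
  rw [← hsum, h15, Finset.sum_const, h3] at hlt'
  simp at hlt'

end Model

variable {G : Type u} [Group G]

/-- The shape from an isomorphism with the model, the centre being the intrinsic one. -/
theorem exists_shape {F : Type v} [Field F] [Fintype F] {hF : Fintype.card F = 16} {S : Subgroup G}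
    (e : S ≃* UU F hF) : ∃ Z : Subgroup G, UShape S Z ∧ Z = (Subgroup.center S).map S.subtype := by
  classical
  haveI : Finite (UU F hF) := Nat.finite_of_card_ne_zero (by rw [UU.card_eq]; norm_num)
  obtain ⟨hcard, hK, -, -, -, -⟩ := UU.properties e
  set Z := (Subgroup.center S).map S.subtype with hZdef
  have hmem : ∀ s : S, ((s : G) ∈ Z ↔ (e s).a = 0) := by
    intro s
    rw [hZdef, show (s : G) = S.subtype s from rfl,
      Subgroup.mem_map_iff_mem (f := S.subtype) S.subtype_injective, ← UU.mem_center_iff]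
    constructor
    · intro hs
      refine Subgroup.mem_center_iff.2 fun g => ?_
      obtain ⟨g, rfl⟩ := e.surjective g
      rw [← map_mul, ← map_mul, Subgroup.mem_center_iff.1 hs g]
    · intro hs
      refine Subgroup.mem_center_iff.2 fun g => e.injective ?_
      rw [map_mul, map_mul, Subgroup.mem_center_iff.1 hs (e g)]
  have hle : Z ≤ S := Subgroup.map_subtype_le _
  refine ⟨Z, ⟨hcard, ?_, hle, ?_, ?_, ?_, ?_, ?_⟩, rfl⟩
  · rw [hZdef, Subgroup.card_map_of_injective S.subtype_injective]; exact hK.card_four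
  · rintro z hz s hs
    obtain ⟨z, hzc, rfl⟩ := hz
    exact congrArg Subtype.val ((Subgroup.mem_center_iff.1 hzc ⟨s, hs⟩).symm)
  · intro s hs
    have h : (e (⟨s, hs⟩ * ⟨s, hs⟩)).a = 0 := by
      rw [map_mul, ← pow_two, UU.sq_a]
    exact (hmem _).2 h
  · intro s hs
    constructor
    · intro h1
      refine (hmem ⟨s, hs⟩).2 ?_
      have hb : (e ⟨s, hs⟩ ^ 2).b = 0 := by
        rw [pow_two, ← map_mul, show (⟨s, hs⟩ : S) * ⟨s, hs⟩ = 1 from Subtype.ext h1, map_one,
          UU.one_b]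
      rw [UU.sq_b, mul_eq_zero, pow_eq_zero_iff (by norm_num : (4 : ℕ) ≠ 0), or_self] at hb
      exact hb
    · intro h1
      have h := UU.sq_eq_one_of_center ((hmem ⟨s, hs⟩).1 h1)
      have h2 : (⟨s, hs⟩ : S) * ⟨s, hs⟩ = 1 := e.injective (by rw [map_mul, ← pow_two, h, map_one])
      exact congrArg Subtype.val h2
  · intro x hx hxZ
    have ha : (e ⟨x, hx⟩).a ≠ 0 := fun h => hxZ ((hmem _).2 h)
    set p := e ⟨x, hx⟩
    have e1 : ↥(S ⊓ centralizer ({x} : Set G)) ≃ {y : UU F hF // y * p = p * y} :=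
      { toFun := fun y => ⟨e ⟨y.1, y.2.1⟩, by
          rw [← map_mul, ← map_mul]
          exact congrArg e (Subtype.ext (mem_centralizer_singleton_iff.1 y.2.2))⟩
        invFun := fun y => ⟨((e.symm y.1 : S) : G), (e.symm y.1).2,
          mem_centralizer_singleton_iff.2 (congrArg Subtype.val
            (show e.symm y.1 * ⟨x, hx⟩ = ⟨x, hx⟩ * e.symm y.1 from e.injective (by
              rw [map_mul, map_mul, e.apply_symm_apply]; exact y.2)))⟩
        left_inv := fun y => Subtype.ext (by simp)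
        right_inv := fun y => Subtype.ext (by simp) }
    rw [Nat.card_congr e1]
    let e2 : {y : UU F hF // y * p = p * y} ≃
        Σ t : {t : F // t ^ 4 = t}, {c : F // c + c ^ 4 = (t.1 * p.a) * (t.1 * p.a) ^ 4} :=
      { toFun := fun y => ⟨⟨y.1.a / p.a, by
            have h := (UU.comm_iff _ _).1 y.2
            rw [div_pow, div_eq_div_iff (pow_ne_zero _ ha) ha]
            linear_combination -h⟩, ⟨y.1.b, by
            rw [div_mul_cancel₀ _ ha]
            linear_combination y.1.ok + (-(y.1.a * y.1.a ^ 4)) * sixteen_two hF⟩⟩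
        invFun := fun q => ⟨⟨q.1.1 * p.a, q.2.1, by
            linear_combination q.2.2 + ((q.1.1 * p.a) * (q.1.1 * p.a) ^ 4) * sixteen_two hF⟩, by
            rw [UU.comm_iff]
            show q.1.1 * p.a * p.a ^ 4 = p.a * (q.1.1 * p.a) ^ 4
            rw [mul_pow, q.1.2]; ring⟩
        left_inv := fun y => Subtype.ext (UU.ext (div_mul_cancel₀ _ ha) rfl)
        right_inv := by
          rintro ⟨⟨t, ht⟩, c, hc⟩
          have h : t * p.a / p.a = t := mul_div_cancel_right₀ t ha
          refine Sigma.subtype_ext ?_ rfl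
          exact Subtype.ext h }
    rw [Nat.card_congr e2, Nat.card_sigma, Finset.sum_congr rfl (g := fun _ => 4) fun t _ =>
      UU.exists_b hF _ (by rw [mul_pow, sixteen_pow hF, mul_comm])]
    rw [Finset.sum_const, Finset.card_univ, ← Nat.card_eq_fintype_card, pow_four_root_card hF]
    rfl
  · intro z hz hz1
    set p := e ⟨z, hle hz⟩
    have hpa : p.a = 0 := (hmem _).1 hz
    have hpb : p.b ≠ 0 := fun h => hz1 (congrArg Subtype.val (e.injective
      (show e ⟨z, hle hz⟩ = e 1 by rw [map_one]; exact UU.ext hpa h)))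
    have hfix : p.b ^ 4 = p.b := by
      have h := p.ok
      rw [hpa] at h
      linear_combination h + (-p.b) * sixteen_two hF
    have e1 : {x : G // x ∈ S ∧ x * x = z} ≃ {y : UU F hF // y * y = p} :=
      { toFun := fun x => ⟨e ⟨x.1, x.2.1⟩, by rw [← map_mul]; exact congrArg e (Subtype.ext x.2.2)⟩
        invFun := fun y => ⟨((e.symm y.1 : S) : G), (e.symm y.1).2, congrArg Subtype.val
          (show e.symm y.1 * e.symm y.1 = ⟨z, hle hz⟩ from e.injective (by
            rw [map_mul, e.apply_symm_apply]; exact y.2))⟩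
        left_inv := fun x => Subtype.ext (by simp)
        right_inv := fun y => Subtype.ext (by simp) }
    rw [Nat.card_congr e1]
    let e2 : {y : UU F hF // y * y = p} ≃
        Σ a : {a : F // a * a ^ 4 = p.b}, {c : F // c + c ^ 4 = a.1 * a.1 ^ 4} :=
      { toFun := fun y => ⟨⟨y.1.a, by rw [← UU.sq_b, pow_two, y.2]⟩, ⟨y.1.b, by
            linear_combination y.1.ok + (-(y.1.a * y.1.a ^ 4)) * sixteen_two hF⟩⟩
        invFun := fun q => ⟨⟨q.1.1, q.2.1, by
            linear_combination q.2.2 + (q.1.1 * q.1.1 ^ 4) * sixteen_two hF⟩, by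
            rw [← pow_two]
            exact UU.ext ((UU.sq_a _).trans hpa.symm) ((UU.sq_b _).trans q.1.2)⟩
        left_inv := fun _ => rfl
        right_inv := fun _ => rfl }
    rw [Nat.card_congr e2, Nat.card_sigma, Finset.sum_congr rfl (g := fun _ => 4) fun a _ =>
      UU.exists_b hF _ (by rw [mul_pow, sixteen_pow hF, mul_comm])]
    rw [Finset.sum_const, Finset.card_univ, ← Nat.card_eq_fintype_card, fib_eq hF hfix hpb]
    rfl

namespace UShape

variable {S Z : Subgroup G}

theorem map (h : UShape S Z) {H : Type w} [Group H] (f : G →* H)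
    (hf : ∀ x ∈ S, f x = 1 → x = 1) : UShape (S.map f) (Z.map f) := by
  have hinj : ∀ x ∈ S, ∀ y ∈ S, f x = f y → x = y := fun x hx y hy e => by
    refine (inv_mul_eq_one.1 (hf _ (mul_mem (inv_mem hx) hy) ?_))
    rw [map_mul, map_inv, e, inv_mul_cancel]
  have hcard : ∀ K : Subgroup G, K ≤ S → Nat.card (K.map f) = Nat.card K := fun K hK =>
    (Nat.card_congr (Equiv.ofBijective (fun x : K => (⟨f x, x, x.2, rfl⟩ : K.map f))
      ⟨fun x y e => Subtype.ext (hinj x (hK x.2) y (hK y.2) (congrArg Subtype.val e)),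
        fun ⟨_, x, hx, e⟩ => ⟨⟨x, hx⟩, Subtype.ext e⟩⟩)).symm
  constructor
  · rw [hcard S le_rfl, h.cardS]
  · rw [hcard Z h.le, h.cardZ]
  · exact map_mono h.le
  · rintro _ ⟨z, hz, rfl⟩ _ ⟨s, hs, rfl⟩
    rw [← map_mul, ← map_mul, h.cen z hz s hs]
  · rintro _ ⟨s, hs, rfl⟩
    exact ⟨s * s, h.sq_mem s hs, map_mul f s s⟩
  · rintro _ ⟨s, hs, rfl⟩
    constructor
    · intro h2
      rw [← map_mul] at h2
      exact ⟨s, (h.invol s hs).1 (hf _ (mul_mem hs hs) h2), rfl⟩
    · rintro ⟨t, ht, e⟩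
      rw [← e, ← map_mul, (h.invol t (h.le ht)).2 ht, map_one]
  · rintro _ ⟨x, hx, rfl⟩ hxZ
    have heq : S.map f ⊓ centralizer ({f x} : Set H) = (S ⊓ centralizer ({x} : Set G)).map f := by
      refine le_antisymm ?_ ?_
      · rintro _ ⟨⟨y, hy, rfl⟩, hc⟩
        refine ⟨y, ⟨hy, mem_centralizer_singleton_iff.2 (hinj _ (mul_mem hy hx) _ (mul_mem hx hy) ?_)⟩,
          rfl⟩
        rw [map_mul, map_mul]
        exact mem_centralizer_singleton_iff.1 hc
      · rintro _ ⟨y, ⟨hy, hc⟩, rfl⟩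
        refine ⟨⟨y, hy, rfl⟩, mem_centralizer_singleton_iff.2 ?_⟩
        rw [← map_mul, ← map_mul, mem_centralizer_singleton_iff.1 hc]
    rw [heq, hcard _ inf_le_left, h.cent16 x hx fun hxz => hxZ ⟨x, hxz, rfl⟩]
  · rintro _ ⟨z, hz, rfl⟩ hz1
    rw [← h.fib z hz fun e => hz1 (by rw [e, map_one])]
    refine (Nat.card_congr (Equiv.ofBijective (fun x : {x : G // x ∈ S ∧ x * x = z} =>
      (⟨f x.1, ⟨x.1, x.2.1, rfl⟩, by rw [← map_mul, x.2.2]⟩ : {y : H // y ∈ S.map f ∧ y * y = f z}))
      ⟨fun x y e => Subtype.ext (hinj _ x.2.1 _ y.2.1 (congrArg Subtype.val e)), ?_⟩)).symm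
    rintro ⟨_, ⟨x, hx, rfl⟩, e⟩
    exact ⟨⟨x, hx, hinj _ (mul_mem hx hx) _ (h.le hz) (by rw [map_mul, e])⟩, rfl⟩

theorem restrict (h : UShape S Z) (K : Subgroup G) (hSK : S ≤ K) :
    UShape (S.subgroupOf K) (Z.subgroupOf K) := by
  have hcard : ∀ L : Subgroup G, L ≤ S → Nat.card (L.subgroupOf K) = Nat.card L := fun L hL =>
    Nat.card_congr (subgroupOfEquivOfLe (hL.trans hSK)).toEquiv
  constructor
  · rw [hcard S le_rfl, h.cardS]
  · rw [hcard Z h.le, h.cardZ]
  · exact fun x hx => h.le hx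
  · exact fun z hz s hs => Subtype.ext (h.cen _ hz _ hs)
  · exact fun s hs => h.sq_mem _ hs
  · intro s hs
    exact ⟨fun e => (h.invol _ hs).1 (congrArg Subtype.val e),
      fun e => Subtype.ext ((h.invol _ hs).2 e)⟩
  · intro x hx hxZ
    have heq : S.subgroupOf K ⊓ centralizer ({x} : Set K) =
        (S ⊓ centralizer ({(x : G)} : Set G)).subgroupOf K := by
      ext y
      simp only [Subgroup.mem_inf, mem_subgroupOf, mem_centralizer_singleton_iff]
      exact and_congr_right fun _ => ⟨fun e => congrArg Subtype.val e, fun e => Subtype.ext e⟩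
    rw [heq, hcard _ inf_le_left]
    exact h.cent16 _ hx hxZ
  · intro z hz hz1
    refine Eq.trans ?_ (h.fib _ hz fun e => hz1 (Subtype.ext e))
    exact Nat.card_congr
      { toFun := fun x => ⟨(x.1 : G), x.2.1, congrArg Subtype.val x.2.2⟩
        invFun := fun x => ⟨⟨x.1, hSK x.2.1⟩, x.2.1, Subtype.ext x.2.2⟩
        left_inv := fun _ => rfl
        right_inv := fun _ => rfl }

variable (h : UShape S Z)
include h

theorem mem_sq {z : G} (hz : z ∈ Z) : z * z = 1 := (h.invol z (h.le hz)).2 hz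

theorem inv_Z {z : G} (hz : z ∈ Z) : z⁻¹ = z := inv_eq_of_mul_eq_one_left (h.mem_sq hz)

theorem conj_S {x y : G} (hx : x ∈ S) (hy : y ∈ S) : x⁻¹ * (y * x * y⁻¹) ∈ Z := by
  have h1 : x⁻¹ * (y * x * y⁻¹) = x⁻¹ * x⁻¹ * ((x * y) * (x * y)) * (y⁻¹ * y⁻¹) := by group
  rw [h1]
  refine mul_mem (mul_mem ?_ (h.sq_mem _ (mul_mem hx hy))) ?_
  · rw [← mul_inv_rev]; exact inv_mem (h.sq_mem _ hx)
  · rw [← mul_inv_rev]; exact inv_mem (h.sq_mem _ hy)

theorem conj_Z {x y : G} (hy : y ∈ S) (hx : x ∈ Z) : y * x * y⁻¹ = x := by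
  rw [← h.cen x hx y hy, mul_inv_cancel_right]

theorem sq_mul_Z {x z : G} (hx : x ∈ S) (hz : z ∈ Z) : (x * z) * (x * z) = x * x := by
  rw [show x * z * (x * z) = x * (z * x) * z by group, h.cen z hz x hx,
    show x * (x * z) * z = x * x * (z * z) by group, h.mem_sq hz, mul_one]

/-- Elements outside the centre are conjugate to all elements of their coset. -/
theorem exists_conj_mul [Finite G] {x z : G} (hx : x ∈ S) (hxZ : x ∉ Z) (hz : z ∈ Z) :
    ∃ y ∈ S, y * x * y⁻¹ = x * z := by
  classical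
  haveI : Finite S := inferInstance
  let f : S → Z := fun y => ⟨x⁻¹ * ((y : G) * x * (y : G)⁻¹), h.conj_S hx y.2⟩
  suffices hs : Function.Surjective f by
    obtain ⟨y, hy⟩ := hs ⟨z, hz⟩
    refine ⟨y, y.2, ?_⟩
    have := congrArg Subtype.val hy
    simp only [f] at this
    rw [← this, mul_inv_cancel_left]
  haveI := Fintype.ofFinite S
  haveI := Fintype.ofFinite Z
  -- the fibres are cosets of a subgroup of order 16
  have hfib : ∀ t : Z, ((Finset.univ : Finset S).filter fun y => f y = t).card ≤ 16 := by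
    intro t
    by_cases he : ∃ y0 : S, f y0 = t
    · obtain ⟨y0, rfl⟩ := he
      haveI := Fintype.ofFinite ↥(S ⊓ centralizer ({x} : Set G))
      rw [← h.cent16 x hx hxZ, Nat.card_eq_fintype_card, ← Fintype.card_subtype]
      refine Fintype.card_le_of_injective
        (fun y => (⟨(y0 : G)⁻¹ * (y.1 : G), mem_inf.2 ⟨mul_mem (inv_mem y0.2) y.1.2, ?_⟩⟩ :
          ↥(S ⊓ centralizer ({x} : Set G)))) ?_
      · have e := congrArg Subtype.val y.2
        simp only [f, mul_right_inj] at e
        refine mem_centralizer_singleton_iff.2 ?_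
        calc (y0 : G)⁻¹ * (y.1 : G) * x = (y0 : G)⁻¹ * ((y.1 : G) * x * (y.1 : G)⁻¹) * y.1 := by
              group
          _ = (y0 : G)⁻¹ * ((y0 : G) * x * (y0 : G)⁻¹) * y.1 := by rw [e]
          _ = x * ((y0 : G)⁻¹ * (y.1 : G)) := by group
      · intro y y' e
        have := congrArg Subtype.val e
        simp only [mul_right_inj] at this
        exact Subtype.ext (Subtype.ext this)
    · rw [Finset.filter_eq_empty_iff.2 fun y _ e => he ⟨y, e⟩]; simp
  intro t
  by_contra hne
  have hsum := Finset.card_eq_sum_card_fiberwise (f := f) (s := (Finset.univ : Finset S))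
    (t := (Finset.univ : Finset Z)) (fun _ _ => Finset.mem_univ _)
  rw [Finset.card_univ, ← Nat.card_eq_fintype_card, h.cardS] at hsum
  have hlt := Finset.sum_lt_sum (g := fun _ : Z => 16) (s := (Finset.univ : Finset Z))
    (fun t _ => hfib t) ⟨t, Finset.mem_univ _, by
      rw [Finset.filter_eq_empty_iff.2 fun y _ e => hne ⟨y, e⟩]; norm_num⟩
  rw [← hsum, Finset.sum_const, Finset.card_univ, ← Nat.card_eq_fintype_card, h.cardZ] at hlt
  simp at hlt

/-- An element of odd order normalizing `S`, centralizing `Z` and fixing a coset outside `Z`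
centralizes `S`. -/
theorem cent_of_fix [Finite G] {n x : G} (hn : ∀ s ∈ S, n * s * n⁻¹ ∈ S) (hodd : Odd (orderOf n))
    (hnZ : ∀ t ∈ Z, n * t = t * n) (hx : x ∈ S) (hxZ : x ∉ Z) (hfix : x⁻¹ * (n * x * n⁻¹) ∈ Z) :
    ∀ s ∈ S, n * s = s * n := by
  have hnk : ∀ (y : G) (u : G), n * y * n⁻¹ = y * u → n * u = u * n → ∀ k : ℕ,
      n ^ k * y * (n ^ k)⁻¹ = y * u ^ k := by
    intro y u hy hu k
    induction k with
    | zero => simp
    | succ k ih =>
      rw [pow_succ', mul_inv_rev, show n * n ^ k * y * ((n ^ k)⁻¹ * n⁻¹) =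
        n * (n ^ k * y * (n ^ k)⁻¹) * n⁻¹ by group, ih,
        show n * (y * u ^ k) * n⁻¹ = (n * y * n⁻¹) * (n * u ^ k * n⁻¹) by group, hy,
        (Commute.pow_right (show Commute n u from hu) k).eq, mul_inv_cancel_right, mul_assoc,
        ← pow_succ']
  -- a stabilised coset is centralised
  have hkill : ∀ y u : G, n * y * n⁻¹ = y * u → n * u = u * n → u * u = 1 ∨ u * u * (u * u) = 1 →
      n * y = y * n := by
    intro y u hy hu h4
    have h1 := hnk y u hy hu (orderOf n)
    rw [pow_orderOf_eq_one, one_mul, inv_one, mul_one, left_eq_mul] at h1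
    have h2 : orderOf u ∣ 4 := by
      refine orderOf_dvd_of_pow_eq_one ?_
      rcases h4 with e | e
      · rw [pow_succ, pow_succ, pow_two, mul_assoc (u * u), e, one_mul]
      · rw [pow_succ, pow_succ, pow_two, mul_assoc (u * u), e]
    have hu1 : u = 1 := orderOf_eq_one_iff.1 (Nat.eq_one_of_dvd_coprimes
      (show Nat.Coprime 4 (orderOf n) from Nat.Coprime.pow_left 2 (Nat.coprime_two_left.2 hodd))
      h2 (orderOf_dvd_of_pow_eq_one h1))
    rw [hu1, mul_one, mul_inv_eq_iff_eq_mul] at hy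
    exact hy
  set A := S ⊓ centralizer ({x} : Set G)
  have hxA : x ∈ A := ⟨hx, mem_centralizer_singleton_iff.2 rfl⟩
  have hZA : Z ≤ A := fun t ht =>
    ⟨h.le ht, mem_centralizer_singleton_iff.2 (h.cen t ht x hx)⟩
  have hnA : ∀ y ∈ A, n * y * n⁻¹ ∈ A := by
    intro y hy
    refine ⟨hn y hy.1, mem_centralizer_singleton_iff.2 ?_⟩
    have e : x = n * x * n⁻¹ * (x⁻¹ * (n * x * n⁻¹))⁻¹ := by group
    have hc : n * y * n⁻¹ * (n * x * n⁻¹) = n * x * n⁻¹ * (n * y * n⁻¹) := by
      rw [show n * y * n⁻¹ * (n * x * n⁻¹) = n * (y * x) * n⁻¹ by group,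
        mem_centralizer_singleton_iff.1 hy.2]; group
    have hz : n * y * n⁻¹ * (x⁻¹ * (n * x * n⁻¹))⁻¹ = (x⁻¹ * (n * x * n⁻¹))⁻¹ * (n * y * n⁻¹) :=
      (h.cen _ (inv_mem hfix) _ (hn y hy.1)).symm
    generalize x⁻¹ * (n * x * n⁻¹) = t at e hz
    rw [e, ← mul_assoc, hc, mul_assoc, hz, ← mul_assoc]
  have hsqA : ∀ {u : G}, u ∈ Z → u * u = 1 ∨ u * u * (u * u) = 1 := fun hu => Or.inl (h.mem_sq hu)
  have hnx : n * x = x * n :=
    hkill x _ (by rw [mul_inv_cancel_left]) (hnZ _ hfix) (hsqA hfix)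
  -- the subgroup `A` is centralised
  have hA : ∀ y ∈ A, n * y = y * n := by
    intro y hy
    set W : Subgroup G := A ⊓ centralizer ({n} : Set G) with hWdef
    have hWA : W ≤ A := inf_le_left
    have hWn : ∀ w ∈ W, n * w = w * n := fun w hw => (mem_centralizer_singleton_iff.1 hw.2).symm
    have hmemW : ∀ w ∈ A, n * w = w * n → w ∈ W := fun w hw e =>
      ⟨hw, mem_centralizer_singleton_iff.2 e.symm⟩
    have hZW : Z ≤ W := fun t ht => hmemW t (hZA ht) (hnZ t ht)
    have hcard : Nat.card A = 16 := h.cent16 x hx hxZ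
    have hW4 : 4 < Nat.card W := by
      refine lt_of_le_of_ne (h.cardZ ▸ Subgroup.card_le_of_le hZW) fun e => hxZ ?_
      rw [Subgroup.eq_of_le_of_card_ge hZW (by rw [h.cardZ, ← e])]
      exact hmemW x hxA hnx
    by_contra hyn
    have hyW : y ∉ W := fun e => hyn (hWn y e)
    have hidx : (W.subgroupOf A).index = 2 := by
      have h1 := (W.subgroupOf A).card_mul_index
      rw [Nat.card_congr (subgroupOfEquivOfLe hWA).toEquiv, hcard] at h1
      have hne : Nat.card W ≠ 16 := fun e => hyW (by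
        rw [Subgroup.eq_of_le_of_card_ge hWA (by rw [e, hcard])]; exact hy)
      have hdvd : Nat.card W ∣ 2 ^ 4 := Dvd.intro _ h1
      obtain ⟨k, hk, hk'⟩ := (Nat.dvd_prime_pow Nat.prime_two).1 hdvd
      rw [hk'] at h1 hne hW4
      interval_cases k <;> simp at hne hW4 h1 ⊢
      omega
    have hnyW : n * y * n⁻¹ ∉ W := fun e => hyn (by
      have e1 := hWn _ e
      rw [inv_mul_cancel_right] at e1
      exact mul_inv_eq_iff_eq_mul.1 (mul_left_cancel e1))
    have huW : y⁻¹ * (n * y * n⁻¹) ∈ W := by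
      have := (Subgroup.mul_mem_iff_of_index_two hidx (a := (⟨y, hy⟩ : A)⁻¹)
        (b := ⟨n * y * n⁻¹, hnA y hy⟩)).2 (by simp [mem_subgroupOf, hyW, hnyW])
      simpa [mem_subgroupOf] using this
    exact hyn (hkill y _ (by rw [mul_inv_cancel_left]) (hWn _ huW)
      (Or.inr (h.mem_sq (h.sq_mem _ (hWA huW).1))))
  intro s hs
  set u := s⁻¹ * (n * s * n⁻¹)
  have huS : u ∈ S := mul_mem (inv_mem hs) (hn s hs)
  have hu : u ∈ A := by
    refine ⟨huS, mem_centralizer_singleton_iff.2 ?_⟩
    have hc := h.conj_S hx hs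
    set c := x⁻¹ * (s * x * s⁻¹)
    have e1 : n * s * n⁻¹ * x * (n * s * n⁻¹)⁻¹ = s * x * s⁻¹ := by
      rw [show n * s * n⁻¹ * x * (n * s * n⁻¹)⁻¹ = n * (s * (n⁻¹ * x * n) * s⁻¹) * n⁻¹ by group,
        show n⁻¹ * x * n = x by rw [mul_assoc, ← hnx, inv_mul_cancel_left],
        show s * x * s⁻¹ = x * c by simp only [c]; group, ← mul_assoc, hnx,
        mul_assoc x n, hnZ c hc, ← mul_assoc, mul_inv_cancel_right]
    have e2 : u * x * u⁻¹ = x := by
      rw [show u * x * u⁻¹ = s⁻¹ * (n * s * n⁻¹ * x * (n * s * n⁻¹)⁻¹) * s by simp only [u]; group,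
        e1]
      group
    exact mul_inv_eq_iff_eq_mul.1 e2
  exact hkill s u (by simp only [u]; group) (hA u hu) (Or.inr (h.mem_sq (h.sq_mem u huS)))

end UShape

end CfsgLib.Invol.UThreeFour
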