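import Cfsg.Agent.Lib.Invol.UThreeFour.Recog.Action
import Cfsg.Agent.Lib.Invol.UThreeFour.Shape
import Cfsg.Agent.Lib.Invol.UThreeFour.Central
import Cfsg.Agent.Lib.PLocal.Order320Model
import Cfsg.Agent.Lib.Classical.UnitaryGen

/-!
A group with trivial odd core of order 62400 whose Sylow 2-subgroup, involution classes and
involution centralizers are those of PSU(3,4) is isomorphic to PSU(3,4).
-/

set_option autoImplicit false
set_option linter.unusedSectionVars false

namespace CfsgLib.Invol.UThreeFour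

open Subgroup

universe u v

variable {F : Type v} [Field F] [Fintype F]

theorem card_psu_four (hF : Fintype.card F = 16) : Nat.card (Cfsg.PSU 3 F 4) = 62400 := by
  have h := CfsgLib.Classical.card_psu_mul (F := F) (q := 4) (by rw [hF]; norm_num) (n := 3)
    (by norm_num)
  rw [Cfsg.Agent.S0277.result (by rw [hF]; norm_num) 3] at h
  norm_num [Finset.prod_range_succ, Nat.even_iff] at h
  omega

/-- PSU(3,4) satisfies the hypotheses of the recognition. -/
theorem hyp_psu (hF : Fintype.card F = 16) :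
    ∃ (S : Sylow 2 (Cfsg.PSU 3 F 4)) (Z : Subgroup (Cfsg.PSU 3 F 4)),
      Recog.Hyp (Cfsg.PSU 3 F 4) S Z := by
  classical
  haveI : Fact (Nat.Prime 2) := ⟨Nat.prime_two⟩
  have hcard := card_psu_four hF
  haveI hsim : IsSimpleGroup (Cfsg.PSU 3 F 4) :=
    CfsgLib.Classical.isSimpleGroup_psu (q := 4) (by rw [hF]; norm_num) le_rfl (by norm_num)
  have hO : Cfsg.oddCore (Cfsg.PSU 3 F 4) = ⊥ := by
    refine le_antisymm (sSup_le fun N hN => ?_) bot_le
    obtain ⟨hN, hcop⟩ := hN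
    rcases hN.eq_bot_or_eq_top with h | h
    · exact h.le
    · rw [h, Subgroup.card_top, hcard] at hcop
      norm_num at hcop
  let S : Sylow 2 (Cfsg.PSU 3 F 4) := default
  obtain ⟨e⟩ := UU.sylow_equiv hF S
  obtain ⟨Z, hS, -⟩ := exists_shape e
  have hnZ : ¬ Z ≤ center (Cfsg.PSU 3 F 4) := by
    intro hle
    rcases (inferInstance : (center (Cfsg.PSU 3 F 4)).Normal).eq_bot_or_eq_top with h | h
    · rw [h, le_bot_iff] at hle
      have := hS.cardZ
      rw [hle, Subgroup.card_bot] at this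
      omega
    · -- an abelian simple group has prime order
      letI : CommGroup (Cfsg.PSU 3 F 4) :=
        { (inferInstance : Group (Cfsg.PSU 3 F 4)) with
          mul_comm := fun a b => Subgroup.mem_center_iff.1 (by rw [h]; trivial) a }
      have := IsSimpleGroup.prime_card (α := Cfsg.PSU 3 F 4)
      rw [hcard] at this
      exact absurd this (by norm_num)
  -- an element of odd order of the normalizer moving the centre
  obtain ⟨n, hn, hodd, hfree⟩ : ∃ n ∈ normalizer ((S : Subgroup (Cfsg.PSU 3 F 4)) : Set _),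
      Odd (orderOf n) ∧ ∀ z ∈ Z, z ≠ 1 → n * z ≠ z * n := by
    by_contra hc
    push Not at hc
    refine hnZ (hS.central_of_isolated hO fun g hg y hy => ?_)
    obtain ⟨s, hs, m, -, hm, hmodd, rfl⟩ := CfsgLib.SylL34.exists_odd_part S hg
    obtain ⟨z, hz, hz1, hmz⟩ := hc m hm hmodd
    rw [mul_assoc, hS.normalizer_fix_Z hm hz hz1 hmz y hy, ← mul_assoc, ← hS.cen y hy s hs,
      mul_assoc]
  have hnormZ : ∀ z ∈ Z, n * z * n⁻¹ ∈ Z := fun z hz => hS.normalizer_Z hn hz
  have htrans : ∀ z ∈ Z, z ≠ 1 → ∀ t ∈ Z, t ≠ 1 → IsConj z t := by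
    intro z hz hz1 t ht ht1
    have hconj : ∀ x : Cfsg.PSU 3 F 4, IsConj x (n * x * n⁻¹) := fun x => isConj_iff.2 ⟨n, rfl⟩
    set a := n * z * n⁻¹ with ha
    have ha1 : a ≠ 1 := fun e => hz1 (conj_eq_one_iff.1 e)
    have haz : a ≠ z := fun e => hfree z hz hz1 (mul_inv_eq_iff_eq_mul.1 e)
    have haZ : a ∈ Z := hnormZ z hz
    rcases hS.four_elts hz hz1 haZ ha1 haz ht with e | e | e | e
    · exact absurd e ht1
    · rw [e]
    · rw [e]; exact hconj z
    · rcases hS.four_elts hz hz1 haZ ha1 haz (hnormZ a haZ) with f | f | f | f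
      · exact absurd (conj_eq_one_iff.1 f) ha1
      · have h2 : Commute (n ^ 2) z := mul_inv_eq_iff_eq_mul.1 (by
          rw [pow_two, mul_inv_rev, ← mul_assoc, mul_assoc n n z, mul_assoc n (n * z) n⁻¹]
          exact f)
        obtain ⟨j, hj⟩ := hodd
        have h3 := h2.pow_left (j + 1)
        rw [← pow_mul, show 2 * (j + 1) = orderOf n + 1 by omega, pow_succ, pow_orderOf_eq_one,
          one_mul] at h3
        exact absurd h3.eq (hfree z hz hz1)
      · exact absurd (mul_inv_eq_iff_eq_mul.1 f) (hfree a haZ ha1)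
      · rw [e, ← f]
        exact (hconj z).trans (hconj a)
  have hinto : ∀ s : Cfsg.PSU 3 F 4, orderOf s = 2 → ∃ z ∈ Z, z ≠ 1 ∧ IsConj s z := by
    intro s hs
    obtain ⟨Q, hQ⟩ := (IsPGroup.of_card (n := 1) (by rw [Nat.card_zpowers, hs, pow_one]) :
      IsPGroup 2 (zpowers s)).exists_le_sylow
    obtain ⟨g, hg⟩ := MulAction.exists_smul_eq (Cfsg.PSU 3 F 4) Q S
    have hsS : g * s * g⁻¹ ∈ (S : Subgroup (Cfsg.PSU 3 F 4)) := by
      rw [← hg]
      exact Subgroup.smul_mem_pointwise_smul s (MulAut.conj g) _ (hQ (mem_zpowers s))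
    have hs2 : s * s = 1 := by rw [← pow_two, ← hs, pow_orderOf_eq_one]
    refine ⟨g * s * g⁻¹, (hS.invol _ hsS).1 ?_, fun e => ?_, isConj_iff.2 ⟨g, rfl⟩⟩
    · rw [show g * s * g⁻¹ * (g * s * g⁻¹) = g * (s * s) * g⁻¹ by group, hs2]; group
    · rw [conj_eq_one_iff] at e
      rw [e, orderOf_one] at hs
      omega
  have hall : ∀ s t : Cfsg.PSU 3 F 4, orderOf s = 2 → orderOf t = 2 → IsConj s t := by
    intro s t hs ht
    obtain ⟨a, ha, ha1, hsa⟩ := hinto s hs
    obtain ⟨b, hb, hb1, htb⟩ := hinto t ht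
    exact (hsa.trans (htrans a ha ha1 b hb hb1)).trans htb.symm
  obtain ⟨t, ht, ⟨fr⟩⟩ := CfsgLib.PLocal.Order320.exists_frame_psu (F := F) hF
  refine ⟨S, Z, ⟨hcard, hO, hS, hall, fun z hz hz1 => ?_⟩⟩
  have hz2 : orderOf z = 2 := orderOf_eq_prime (by rw [pow_two]; exact hS.mem_sq hz) hz1
  obtain ⟨g, hg⟩ := isConj_iff.1 (hall z t hz2 ht)
  set C := centralizer ({z} : Set (Cfsg.PSU 3 F 4)) with hC
  set Ct := centralizer ({t} : Set (Cfsg.PSU 3 F 4)) with hCt
  have hmem : ∀ c, c ∈ C ↔ MulAut.conj g c ∈ Ct := by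
    intro c
    rw [hC, hCt, mem_centralizer_singleton_iff, mem_centralizer_singleton_iff, ← hg,
      ← MulAut.conj_apply, ← map_mul, ← map_mul, (MulAut.conj g).injective.eq_iff]
  have hC320 : Nat.card C = 320 := by
    rw [← fr.hG]
    exact Nat.card_congr ((MulAut.conj g).toEquiv.subtypeEquiv hmem)
  refine ⟨?_, hC320⟩
  set M := (fr.D.map Ct.subtype).comap (MulAut.conj g).toMonoidHom with hM
  have hMcard : Nat.card M = 2 ^ 6 := by
    rw [show (2 : ℕ) ^ 6 = Nat.card fr.D by rw [fr.hD]; norm_num,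
      ← Subgroup.card_map_of_injective (K := fr.D) Ct.subtype_injective]
    exact Nat.card_congr ((MulAut.conj g).toEquiv.subtypeEquiv fun x => Iff.rfl)
  have hnorm : ∀ c ∈ C, ∀ x ∈ M, c * x * c⁻¹ ∈ M := by
    intro c hc x hx
    rw [hM, mem_comap] at hx ⊢
    obtain ⟨d, hd, he⟩ := hx
    refine ⟨⟨_, (hmem c).1 hc⟩ * d * ⟨_, (hmem c).1 hc⟩⁻¹, fr.normal.conj_mem d hd _, ?_⟩
    simp only [MulEquiv.coe_toMonoidHom, map_mul, map_inv] at he ⊢
    rw [← he]
    rfl
  have hCN : C ≤ normalizer (M : Set (Cfsg.PSU 3 F 4)) := by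
    intro c hc
    refine mem_normalizer_iff.2 fun x => ⟨hnorm c hc x, fun h => ?_⟩
    have := hnorm c⁻¹ (inv_mem hc) _ h
    rwa [inv_inv, show c⁻¹ * (c * x * c⁻¹) * c = x by group] at this
  have hSC : (S : Subgroup (Cfsg.PSU 3 F 4)) ≤ C := fun s hs =>
    mem_centralizer_singleton_iff.2 (hS.cen z hz s hs).symm
  have hsup : IsPGroup 2 ↥((S : Subgroup (Cfsg.PSU 3 F 4)) ⊔ M) :=
    IsPGroup.to_sup_of_normal_right' S.2 (IsPGroup.of_card hMcard) (hSC.trans hCN)
  have hMS : M ≤ (S : Subgroup (Cfsg.PSU 3 F 4)) := by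
    rw [← S.3 hsup le_sup_left]
    exact le_sup_right
  have hEq : M = (S : Subgroup (Cfsg.PSU 3 F 4)) :=
    Subgroup.eq_of_le_of_card_ge hMS (by rw [hMcard, hS.cardS]; norm_num)
  exact hEq ▸ hCN

/-- Recognition of PSU(3,4) by its order and 2-local structure. -/
theorem recognition {F : Type v} [Field F] [Fintype F] (hF : Fintype.card F = 16) {G : Type u}
    [Group G] [Finite G] (hcard : Nat.card G = 62400) (hO : Cfsg.oddCore G = ⊥) (S : Sylow 2 G)
    (Z : Subgroup G) (hS : UShape (S : Subgroup G) Z)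
    (hconj : ∀ s t : G, orderOf s = 2 → orderOf t = 2 → IsConj s t)
    (hC : ∀ z, z ∈ Z → z ≠ 1 →
      centralizer ({z} : Set G) ≤ normalizer ((S : Subgroup G) : Set G) ∧
        Nat.card (centralizer ({z} : Set G)) = 320) :
    Nonempty (G ≃* Cfsg.PSU 3 F 4) := by
  obtain ⟨e⟩ := (Recog.Hyp.mk hcard hO hS hconj hC).equiv_model
  obtain ⟨S', Z', h'⟩ := hyp_psu hF
  obtain ⟨e'⟩ := h'.equiv_model
  exact ⟨e.trans e'.symm⟩

end CfsgLib.Invol.UThreeFour
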