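import Cfsg.Agent.Lib.Invol.UThreeFour.Local

/-!
The passage from the local data with trivial cores to the hypotheses of the recognition theorem.
-/

set_option autoImplicit false
set_option linter.unusedSectionVars false

namespace CfsgLib.Invol.UThreeFour

open Subgroup

universe u

variable {G : Type u} [Group G] [Finite G]

/-- All involutions are conjugate. -/
theorem Loc.conj_all (D : Loc G) (s t : G) (hs : orderOf s = 2) (ht : orderOf t = 2) : IsConj s t :=
  (D.conj_invol s hs).symm.trans (D.conj_invol t ht)

/-- With trivial core the centralizers of the involutions of `Z` lie in the normalizer of `S`. -/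
theorem Loc.centralizer_Z (D : Loc G) (hcore : Cfsg.centralizerPPrimeCore 2 D.z = ⊥)
    (t : G) (ht : t ∈ D.Z) (ht1 : t ≠ 1) :
    centralizer ({t} : Set G) ≤ normalizer ((D.S : Subgroup G) : Set G) ∧
      Nat.card (centralizer ({t} : Set G)) = 320 := by
  obtain ⟨k, hk, rfl⟩ := D.conj_Z t ht ht1
  have hmem : ∀ g : G, g ∈ centralizer ({k * D.z * k⁻¹} : Set G) ↔
      k⁻¹ * g * k ∈ centralizer ({D.z} : Set G) := fun g => by
    simp only [mem_centralizer_singleton_iff]
    constructor
    · intro h
      calc k⁻¹ * g * k * D.z = k⁻¹ * (g * (k * D.z * k⁻¹)) * k := by group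
        _ = k⁻¹ * ((k * D.z * k⁻¹) * g) * k := by rw [h]
        _ = D.z * (k⁻¹ * g * k) := by group
    · intro h
      calc g * (k * D.z * k⁻¹) = k * (k⁻¹ * g * k * D.z) * k⁻¹ := by group
        _ = k * (D.z * (k⁻¹ * g * k)) * k⁻¹ := by rw [h]
        _ = k * D.z * k⁻¹ * g := by group
  constructor
  · intro g hg
    have h := D.cent_le ((hmem g).1 hg)
    rw [hcore, bot_sup_eq] at h
    rw [show g = k * (k⁻¹ * g * k) * k⁻¹ by group]
    exact mul_mem (mul_mem hk h.1) (inv_mem hk)
  · have e : Nat.card (centralizer ({k * D.z * k⁻¹} : Set G)) =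
        Nat.card (centralizer ({D.z} : Set G)) :=
      Nat.card_congr ((MulAut.conj k⁻¹).toEquiv.subtypeEquiv fun g => by simpa using hmem g)
    rw [e, D.core_normal_card, hcore, Subgroup.card_bot]

end CfsgLib.Invol.UThreeFour
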