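import Cfsg.Agent.Lib.Invol.UThreeFour.CertOrbit

/-!
Completeness of the classes, checked by evaluation.
-/

set_option autoImplicit false

namespace CfsgLib.Invol.UThreeFour.Cert

theorem classes_1 : ∀ b ∈ ints 3, classesCheck (1) b = true := by decide +kernel

theorem classes_2 : ∀ b ∈ ints 3, classesCheck (2) b = true := by decide +kernel

end CfsgLib.Invol.UThreeFour.Cert
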