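import Cfsg.Agent.Lib.Invol.UThreeFour.CertData

/-!
Checked searches for the shapes 0 to 7.
-/

set_option autoImplicit false

namespace CfsgLib.Invol.UThreeFour.Cert

theorem checked_0 : runAll (casesOf (varsOf 0)) (codesOf 0) = true := by decide +kernel

theorem checked_1 : runAll (casesOf (varsOf 1)) (codesOf 1) = true := by decide +kernel

theorem checked_2 : runAll (casesOf (varsOf 2)) (codesOf 2) = true := by decide +kernel

theorem checked_3 : runAll (casesOf (varsOf 3)) (codesOf 3) = true := by decide +kernel

theorem checked_4 : runAll (casesOf (varsOf 4)) (codesOf 4) = true := by decide +kernel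

theorem checked_5 : runAll (casesOf (varsOf 5)) (codesOf 5) = true := by decide +kernel

theorem checked_6 : runAll (casesOf (varsOf 6)) (codesOf 6) = true := by decide +kernel

theorem checked_7 : runAll (casesOf (varsOf 7)) (codesOf 7) = true := by decide +kernel

end CfsgLib.Invol.UThreeFour.Cert
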