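import Cfsg.Agent.Lib.Invol.UThreeFour.CertData

/-!
Checked searches for the shapes 8 to 26.
-/

set_option autoImplicit false

namespace CfsgLib.Invol.UThreeFour.Cert

theorem checked_8 : runAll (casesOf (varsOf 8)) (codesOf 8) = true := by decide +kernel

theorem checked_9 : runAll (casesOf (varsOf 9)) (codesOf 9) = true := by decide +kernel

theorem checked_10 : runAll (casesOf (varsOf 10)) (codesOf 10) = true := by decide +kernel

theorem checked_11 : runAll (casesOf (varsOf 11)) (codesOf 11) = true := by decide +kernel

theorem checked_12 : runAll (casesOf (varsOf 12)) (codesOf 12) = true := by decide +kernel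

theorem checked_13 : runAll (casesOf (varsOf 13)) (codesOf 13) = true := by decide +kernel

theorem checked_14 : runAll (casesOf (varsOf 14)) (codesOf 14) = true := by decide +kernel

theorem checked_15 : runAll (casesOf (varsOf 15)) (codesOf 15) = true := by decide +kernel

theorem checked_16 : runAll (casesOf (varsOf 16)) (codesOf 16) = true := by decide +kernel

theorem checked_17 : runAll (casesOf (varsOf 17)) (codesOf 17) = true := by decide +kernel

theorem checked_18 : runAll (casesOf (varsOf 18)) (codesOf 18) = true := by decide +kernel

theorem checked_19 : runAll (casesOf (varsOf 19)) (codesOf 19) = true := by decide +kernel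

theorem checked_20 : runAll (casesOf (varsOf 20)) (codesOf 20) = true := by decide +kernel

theorem checked_21 : runAll (casesOf (varsOf 21)) (codesOf 21) = true := by decide +kernel

theorem checked_22 : runAll (casesOf (varsOf 22)) (codesOf 22) = true := by decide +kernel

theorem checked_23 : runAll (casesOf (varsOf 23)) (codesOf 23) = true := by decide +kernel

theorem checked_24 : runAll (casesOf (varsOf 24)) (codesOf 24) = true := by decide +kernel

theorem checked_25 : runAll (casesOf (varsOf 25)) (codesOf 25) = true := by decide +kernel

theorem checked_26 : runAll (casesOf (varsOf 26)) (codesOf 26) = true := by decide +kernel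

end CfsgLib.Invol.UThreeFour.Cert
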