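import Cfsg.Agent.Lib.Invol.UThreeFour.CertData

/-!
The list of shapes is complete.
-/

set_option autoImplicit false

namespace CfsgLib.Invol.UThreeFour.Cert

theorem shapes_eq : shapesOf classesOne classesTwo classesThree = shapes := by decide +kernel

end CfsgLib.Invol.UThreeFour.Cert
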