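import Cfsg.Agent.Lib.Invol.UThreeFour.CertOrbit
import Cfsg.Agent.Lib.Invol.UThreeFour.CertCasesA
import Cfsg.Agent.Lib.Invol.UThreeFour.CertCasesB
import Cfsg.Agent.Lib.Invol.UThreeFour.CertShapes

/-!
The degree certificate for lists of orbits.
-/

set_option autoImplicit false

namespace CfsgLib.Invol.UThreeFour.Cert

variable {α : Type*}

/-- the sum of the invariants -/
def total (wt : α → Inv) : List α → Inv
  | [] => Inv.zero
  | x :: xs => (wt x).add (total wt xs)

theorem sub_zero' (r : Inv) : r.sub Inv.zero = r := by simp [Inv.sub, Inv.zero]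

theorem consume_eq (wt : α → Inv) : ∀ (M : List α) (r : Inv), consume wt r M = r.sub (total wt M) := by
  intro M
  induction M with
  | nil => intro r; exact (sub_zero' r).symm
  | cons x M ih =>
    intro r
    rw [consume, ih, total]
    simp only [Inv.sub, Inv.add, Inv.mk.injEq]
    omega

theorem total_append (wt : α → Inv) : ∀ (A B : List α), total wt (A ++ B) = (total wt A).add (total wt B) := by
  intro A B
  induction A with
  | nil => simp [total, Inv.add, Inv.zero]
  | cons x A ih =>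
    simp only [List.cons_append, total, ih, Inv.add, Inv.mk.injEq]
    omega

theorem add_sub_self' (a b : Inv) : (a.add b).sub a = b := by
  obtain ⟨a0, a1, a2, a3, a4, a5, a6, a7, a8, a9, a10⟩ := a
  obtain ⟨b0, b1, b2, b3, b4, b5, b6, b7, b8, b9, b10⟩ := b
  simp [Inv.sub, Inv.add]

theorem total_induction {wt : α → Inv} {P : Inv → Prop} (h0 : P Inv.zero) (hadd : ∀ a b, P a → P b → P (a.add b)) :
    ∀ {M : List α}, (∀ x ∈ M, P (wt x)) → P (total wt M) := by
  intro M
  induction M with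
  | nil => exact fun _ => h0
  | cons x M ih =>
    exact fun h => hadd _ _ (h x List.mem_cons_self) (ih fun y hy => h y (List.mem_cons_of_mem _ hy))

theorem pos_add (a b : Inv) (ha : a.pos = true) (hb : b.pos = true) : (a.add b).pos = true := by
  rw [Inv.pos_iff] at ha hb ⊢
  simp only [Inv.add]
  omega

/-- the weight bounding the length -/
def size (r : Inv) : ℤ := r.q00 + r.q11 + r.q55

theorem length_le_size {wt : α → Inv} : ∀ {M : List α}, (∀ x ∈ M, 1 ≤ size (wt x)) → (M.length : ℤ) ≤ size (total wt M) := by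
  intro M
  induction M with
  | nil => intro _; simp [total, size, Inv.zero]
  | cons x M ih =>
    intro h
    have h1 := h x List.mem_cons_self
    have h2 := ih fun y hy => h y (List.mem_cons_of_mem _ hy)
    simp only [List.length_cons, total, size, Inv.add, Nat.cast_succ] at h1 h2 ⊢
    omega

/-- the conditions on the three lists of a staged enumeration -/
def stagesOK (wt : α → Inv) (f₁ f₂ : Inv → Bool) (T₁ T₂ T₃ : List α) : Bool :=
  (T₁.all fun x => (wt x).pos && decide (0 < (wt x).q00)) &&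
  (T₂.all fun x => (wt x).pos && f₁ (wt x) && decide (0 < (wt x).q11)) &&
  (T₃.all fun x => (wt x).pos && f₂ (wt x) && decide (0 < (wt x).q55)) &&
  decide (T₁.length < 370) && decide (T₂.length < 370) && decide (T₃.length < 370)

theorem staged_complete [DecidableEq α] (wt : α → Inv) {f₁ f₂ : Inv → Bool}
    (hf₁ : ∀ r, f₁ r = true → r.q00 = 0 ∧ r.pos = true) (hf₂ : ∀ r, f₂ r = true → f₁ r = true ∧ r.q11 = 0)
    (h01 : f₁ Inv.zero = true) (hadd₁ : ∀ a b, f₁ a = true → f₁ b = true → f₁ (a.add b) = true)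
    (h02 : f₂ Inv.zero = true) (hadd₂ : ∀ a b, f₂ a = true → f₂ b = true → f₂ (a.add b) = true)
    {T₁ T₂ T₃ : List α} (hok : stagesOK wt f₁ f₂ T₁ T₂ T₃ = true) {M : List α}
    (hM : ∀ x ∈ M, x ∈ T₁ ++ (T₂ ++ T₃)) {r : Inv} (hz : consume wt r M = Inv.zero) (hr : size r ≤ 25) :
    ∃ L ∈ staged wt f₁ f₂ T₁ T₂ T₃ r, L.Perm M := by
  simp only [stagesOK, Bool.and_eq_true, List.all_eq_true, decide_eq_true_eq] at hok
  obtain ⟨⟨⟨⟨⟨h1, h2⟩, h3⟩, l1⟩, l2⟩, l3⟩ := hok
  let p₁ : α → Bool := fun x => decide (0 < (wt x).q00)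
  let p₂ : α → Bool := fun x => decide (0 < (wt x).q11)
  set M₁ := M.filter p₁ with hM₁
  set N := M.filter (fun x => !p₁ x) with hN
  set M₂ := N.filter p₂ with hM₂
  set M₃ := N.filter (fun x => !p₂ x) with hM₃
  have hperm : (M₁ ++ (M₂ ++ M₃)).Perm M :=
    ((List.filter_append_perm p₂ N).append_left M₁).trans (List.filter_append_perm p₁ M)
  have hzero : ∀ x, x ∈ T₂ → (wt x).q00 = 0 := fun x hx => (hf₁ _ (h2 x hx).1.2).1
  have hzero₃ : ∀ x, x ∈ T₃ → (wt x).q00 = 0 ∧ (wt x).q11 = 0 := fun x hx =>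
    ⟨(hf₁ _ (hf₂ _ (h3 x hx).1.2).1).1, (hf₂ _ (h3 x hx).1.2).2⟩
  have hm1 : ∀ x ∈ M₁, x ∈ T₁ := fun x hx => by
    obtain ⟨hxM, hp⟩ := List.mem_filter.1 hx
    have hp : 0 < (wt x).q00 := by simpa [p₁] using hp
    rcases List.mem_append.1 (hM x hxM) with h | h
    · exact h
    · rcases List.mem_append.1 h with h | h
      · have := hzero x h; omega
      · have := (hzero₃ x h).1; omega
  have hN' : ∀ x ∈ N, x ∈ T₂ ++ T₃ := fun x hx => by
    obtain ⟨hxM, hp⟩ := List.mem_filter.1 hx
    have hp : ¬ 0 < (wt x).q00 := by simpa [p₁] using hp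
    rcases List.mem_append.1 (hM x hxM) with h | h
    · exact absurd (h1 x h).2 hp
    · exact h
  have hm2 : ∀ x ∈ M₂, x ∈ T₂ := fun x hx => by
    obtain ⟨hxN, hp⟩ := List.mem_filter.1 hx
    have hp : 0 < (wt x).q11 := by simpa [p₂] using hp
    rcases List.mem_append.1 (hN' x hxN) with h | h
    · exact h
    · have := (hzero₃ x h).2; omega
  have hm3 : ∀ x ∈ M₃, x ∈ T₃ := fun x hx => by
    obtain ⟨hxN, hp⟩ := List.mem_filter.1 hx
    have hp : ¬ 0 < (wt x).q11 := by simpa [p₂] using hp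
    rcases List.mem_append.1 (hN' x hxN) with h | h
    · exact absurd (h2 x h).2 hp
    · exact h
  have htot : r = total wt (M₁ ++ (M₂ ++ M₃)) := by
    have h := consume_perm wt hperm r
    rw [hz, consume_eq] at h
    simp only [Inv.sub, Inv.zero, Inv.mk.injEq] at h
    obtain ⟨a0, a1, a2, a3, a4, a5, a6, a7, a8, a9, a10⟩ := h
    obtain ⟨r0, r1, r2, r3, r4, r5, r6, r7, r8, r9, r10⟩ := r
    set t := total wt (M₁ ++ (M₂ ++ M₃))
    obtain ⟨t0, t1, t2, t3, t4, t5, t6, t7, t8, t9, t10⟩ := t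
    simp only [Inv.mk.injEq] at a0 a1 a2 a3 a4 a5 a6 a7 a8 a9 a10 ⊢
    omega
  have hsize : ∀ x ∈ M₁ ++ (M₂ ++ M₃), 1 ≤ size (wt x) := fun x hx => by
    rcases List.mem_append.1 hx with h | h
    · have := h1 x (hm1 x h)
      have := Inv.pos_iff.1 this.1
      unfold size; omega
    · rcases List.mem_append.1 h with h | h
      · have := h2 x (hm2 x h)
        have := Inv.pos_iff.1 this.1.1
        unfold size; omega
      · have := h3 x (hm3 x h)
        have := Inv.pos_iff.1 this.1.1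
        unfold size; omega
  have hlen := length_le_size hsize
  rw [← htot, List.length_append, List.length_append] at hlen
  have hc1 : consume wt r M₁ = total wt (M₂ ++ M₃) := by
    rw [consume_eq, htot, total_append, add_sub_self']
  have hc2 : consume wt (total wt (M₂ ++ M₃)) M₂ = total wt M₃ := by
    rw [consume_eq, total_append, add_sub_self']
  have hc3 : consume wt (total wt M₃) M₃ = Inv.zero := by
    rw [consume_eq]
    simp [Inv.sub, Inv.zero]
  have g1 : f₁ (total wt (M₂ ++ M₃)) = true :=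
    total_induction (P := fun i => f₁ i = true) h01 hadd₁ fun x hx => by
      rcases List.mem_append.1 hx with h | h
      · exact (h2 x (hm2 x h)).1.2
      · exact (hf₂ _ (h3 x (hm3 x h)).1.2).1
  have g2 : f₂ (total wt M₃) = true :=
    total_induction (P := fun i => f₂ i = true) h02 hadd₂ fun x hx => (h3 x (hm3 x hx)).1.2
  obtain ⟨L₁, hL₁, p1⟩ := go_complete wt stopOne f₁ (fun s hs => ⟨by simp [stopOne, (hf₁ s hs).1], (hf₁ s hs).2⟩)
    400 T₁ M₁ r (fun x hx => (h1 x hx).1) (fun s x hs hx => by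
      have := (h1 x hx).2
      simp only [stopOne, decide_eq_true_eq] at hs
      rw [Bool.eq_false_iff, ne_eq, Inv.pos_iff]
      simp only [Inv.sub]; omega) (by unfold size at hr hlen; omega) hm1 (hc1 ▸ g1)
  rw [hc1] at hL₁
  obtain ⟨L₂, hL₂, p2⟩ := go_complete wt stopTwo f₂ (fun s hs => ⟨by
      simp [stopTwo, (hf₁ s (hf₂ s hs).1).1, (hf₂ s hs).2], (hf₁ s (hf₂ s hs).1).2⟩)
    400 T₂ M₂ (total wt (M₂ ++ M₃)) (fun x hx => (h2 x hx).1.1) (fun s x hs hx => by
      have := (h2 x hx).2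
      simp only [stopTwo, Bool.and_eq_true, decide_eq_true_eq] at hs
      rw [Bool.eq_false_iff, ne_eq, Inv.pos_iff]
      simp only [Inv.sub]; omega) (by unfold size at hr hlen; omega) hm2 (hc2 ▸ g2)
  rw [hc2] at hL₂
  obtain ⟨L₃, hL₃, p3⟩ := go_complete wt stopAll finAll (fun s hs => by
      simp only [finAll, decide_eq_true_eq] at hs
      subst hs; decide)
    400 T₃ M₃ (total wt M₃) (fun x hx => (h3 x hx).1.1) (fun s x hs hx => by
      have := (h3 x hx).2
      simp only [stopAll, Bool.and_eq_true, decide_eq_true_eq] at hs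
      rw [Bool.eq_false_iff, ne_eq, Inv.pos_iff]
      simp only [Inv.sub]; omega) (by unfold size at hr hlen; omega) hm3 (by rw [hc3]; simp [finAll])
  refine ⟨L₁ ++ (L₂ ++ L₃), ?_, (p1.append (p2.append p3)).trans hperm⟩
  simp only [staged, List.mem_flatMap, List.mem_map]
  exact ⟨_, hL₁, _, hL₂, _, hL₃, rfl⟩

/-- lifting a permutation along a map -/
theorem exists_perm_map {β γ : Type*} (f : β → γ) :
    ∀ {k l : List γ}, k.Perm l → ∀ {M : List β}, M.map f = k → ∃ M' : List β, M'.Perm M ∧ M'.map f = l := by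
  intro k l h
  induction h with
  | nil => exact fun {M} hM => ⟨M, List.Perm.refl _, hM⟩
  | cons x _ ih =>
    intro M hM
    cases M with
    | nil => simp at hM
    | cons a M =>
      simp only [List.map_cons, List.cons.injEq] at hM
      obtain ⟨M', hp, hm⟩ := ih hM.2
      exact ⟨a :: M', hp.cons a, by simp [hm, hM.1]⟩
  | swap x y l =>
    intro M hM
    match M, hM with
    | a :: b :: M, hM =>
      simp only [List.map_cons, List.cons.injEq] at hM
      exact ⟨b :: a :: M, List.Perm.swap _ _ _, by simp [hM.1, hM.2.1, hM.2.2]⟩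
  | trans _ _ ih ih' =>
    intro M hM
    obtain ⟨M', hp, hm⟩ := ih hM
    obtain ⟨M'', hp', hm'⟩ := ih' hm
    exact ⟨M'', hp'.trans hp, hm'⟩

theorem finOne_props : (∀ r, finOne r = true → r.q00 = 0 ∧ r.pos = true) ∧
    (∀ r, finTwo r = true → finOne r = true ∧ r.q11 = 0) ∧
    (∀ a b, finOne a = true → finOne b = true → finOne (a.add b) = true) ∧
    (∀ a b, finTwo a = true → finTwo b = true → finTwo (a.add b) = true) := by
  refine ⟨fun r h => ?_, fun r h => ?_, fun a b ha hb => ?_, fun a b ha hb => ?_⟩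
  · simp only [finOne, Bool.and_eq_true, decide_eq_true_eq] at h
    exact ⟨h.1.1.1, h.2⟩
  · simp only [finTwo, finOne, Bool.and_eq_true, decide_eq_true_eq] at h ⊢
    obtain ⟨⟨⟨⟨⟨⟨⟨h1, h2⟩, h3⟩, h4⟩, -⟩, -⟩, -⟩, h5⟩ := h
    exact ⟨⟨⟨⟨h1, h2⟩, h3⟩, h5⟩, h4⟩
  · simp only [finOne, Bool.and_eq_true, decide_eq_true_eq] at ha hb ⊢
    obtain ⟨⟨⟨a1, a2⟩, a3⟩, a4⟩ := ha
    obtain ⟨⟨⟨b1, b2⟩, b3⟩, b4⟩ := hb
    exact ⟨⟨⟨by simp [Inv.add, a1, b1], by simp [Inv.add, a2, b2]⟩, by simp [Inv.add, a3, b3]⟩, pos_add _ _ a4 b4⟩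
  · simp only [finTwo, Bool.and_eq_true, decide_eq_true_eq] at ha hb ⊢
    obtain ⟨⟨⟨⟨⟨⟨⟨a1, a2⟩, a3⟩, a4⟩, a5⟩, a6⟩, a7⟩, a8⟩ := ha
    obtain ⟨⟨⟨⟨⟨⟨⟨b1, b2⟩, b3⟩, b4⟩, b5⟩, b6⟩, b7⟩, b8⟩ := hb
    exact ⟨⟨⟨⟨⟨⟨⟨by simp [Inv.add, a1, b1], by simp [Inv.add, a2, b2]⟩, by simp [Inv.add, a3, b3]⟩,
      by simp [Inv.add, a4, b4]⟩, by simp [Inv.add, a5, b5]⟩, by simp [Inv.add, a6, b6]⟩,
      by simp [Inv.add, a7, b7]⟩, pos_add _ _ a8 b8⟩

theorem finC_props : (∀ r, finOneC r = true → r.q00 = 0 ∧ r.pos = true) ∧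
    (∀ r, finTwoC r = true → finOneC r = true ∧ r.q11 = 0) ∧
    (∀ a b, finOneC a = true → finOneC b = true → finOneC (a.add b) = true) ∧
    (∀ a b, finTwoC a = true → finTwoC b = true → finTwoC (a.add b) = true) := by
  obtain ⟨p1, p2, p3, p4⟩ := finOne_props
  refine ⟨fun r h => ?_, fun r h => ?_, fun a b ha hb => ?_, fun a b ha hb => ?_⟩
  · simp only [finOneC, Bool.and_eq_true] at h
    exact p1 r h.1
  · simp only [finTwoC, finOneC, Bool.and_eq_true, decide_eq_true_eq] at h ⊢
    exact ⟨⟨(p2 r h.1.1).1, h.1.2⟩, (p2 r h.1.1).2⟩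
  · simp only [finOneC, Bool.and_eq_true, decide_eq_true_eq] at ha hb ⊢
    exact ⟨p3 a b ha.1 hb.1, by simp [Inv.add, ha.2, hb.2]⟩
  · simp only [finTwoC, Bool.and_eq_true, decide_eq_true_eq] at ha hb ⊢
    exact ⟨⟨p4 a b ha.1.1 hb.1.1, by simp [Inv.add, ha.1.2, hb.1.2]⟩, by simp [Inv.add, ha.2, hb.2]⟩

/-- the possibilities over the shapes are consistent -/
def varsCheck (k : ℕ) : Bool :=
  let T := varsOf k
  stagesOK Var.inv finOneC finTwoC T.1 T.2.1 T.2.2 &&
    (shapes.getD k []).all fun t => (variants t).all fun v => decide (v ∈ T.1 ++ (T.2.1 ++ T.2.2))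

theorem vars_checked : ∀ k ∈ List.range 27, varsCheck k = true := by decide +kernel

theorem shape_classes_ok : stagesOK W.quad finOne finTwo classesOne classesTwo classesThree = true := by decide +kernel

theorem shapes_length : shapes.length = 27 := by decide +kernel

theorem checked (k : ℕ) (hk : k < 27) : runAll (casesOf (varsOf k)) (codesOf k) = true := by
  interval_cases k
  exacts [checked_0, checked_1, checked_2, checked_3, checked_4, checked_5, checked_6, checked_7, checked_8,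
    checked_9, checked_10, checked_11, checked_12, checked_13, checked_14, checked_15, checked_16, checked_17,
    checked_18, checked_19, checked_20, checked_21, checked_22, checked_23, checked_24, checked_25, checked_26]

theorem lv_map (l : V3) : ∀ (M : List (Var × ℤ)),
    lv l ((M.map fun x => x.1.item).map fun p => (p, p.a.natAbs)) (M.map Prod.snd) =
      (M.map fun x => l.dot x.1.item.c * x.2).sum := by
  intro M
  induction M with
  | nil => simp [lv]
  | cons x M ih => simp only [List.map_cons, lv, List.sum_cons, ih]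

theorem qv_map (l : V3) : ∀ (M : List (Var × ℤ)),
    qv l ((M.map fun x => x.1.item).map fun p => (p, p.a.natAbs)) (M.map Prod.snd) =
      (M.map fun x => (l.dot x.1.item.c : ℚ) * x.1.item.a * x.1.item.a / x.2).sum := by
  intro M
  induction M with
  | nil => simp [qv]
  | cons x M ih => simp only [List.map_cons, qv, List.sum_cons, ih]

/-- classes with multiplicity -/
def classList (M : List Var) : List W := M.flatMap fun x => List.replicate x.m x.t

theorem total_classList : ∀ {M : List Var}, (∀ x ∈ M, x ∈ variants x.t) →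
    total W.quad (classList M) = { total Var.inv M with n0 := 0, n1 := 0, n5 := 0 } := by
  intro M
  induction M with
  | nil => intro _; rfl
  | cons x M ih =>
    intro h
    have h' := ih fun y hy => h y (List.mem_cons_of_mem _ hy)
    have hx := h x List.mem_cons_self
    have hm : x.m = 1 ∨ x.m = 2 := by
      unfold variants at hx
      split_ifs at hx <;> simp only [List.mem_cons, List.not_mem_nil, or_false] at hx
      · rw [hx]; exact Or.inl rfl
      · rcases hx with hx | hx | hx <;> rw [hx] <;> simp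
    rw [classList, List.flatMap_cons, total_append, ← classList, h', total]
    rcases hm with hm | hm <;>
      (simp [hm, total, List.replicate, Inv.add, Inv.zero, Var.inv, W.quad, Inv.mk.injEq]; try omega)

/-- **The certificate for lists of orbits.** -/
theorem solved_of_vars {M : List (Var × ℤ)} {Q : ℚ} (hQ : Q < 0)
    (hcl : ∀ x ∈ M, x.1.t ∈ classes) (hvar : ∀ x ∈ M, x.1 ∈ variants x.1.t)
    (hok : ∀ x ∈ M, x.1.item.ok 0 x.2 = true)
    (hinv : total Var.inv (M.map Prod.fst) = targetCase)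
    (hL : ∀ l : V3, l.dot ⟨1, 0, 1⟩ + (M.map fun x => l.dot x.1.item.c * x.2).sum = 0)
    (hR : ∀ l : V3, (l.dot ⟨1, 0, 1⟩ : ℚ) + (M.map fun x => (l.dot x.1.item.c : ℚ) * x.1.item.a * x.1.item.a / x.2).sum
      = ((l.x + l.y : ℤ) : ℚ) * Q) :
    Q = -32 / 195 ∧ ∃ x ∈ M, x.2.natAbs = 12 ∧ x.1.item.val x.2 = -4 := by
  classical
  set V := M.map Prod.fst with hV
  have hvV : ∀ v ∈ V, v ∈ variants v.t ∧ v.t ∈ classes := by
    intro v hv
    obtain ⟨x, hx, rfl⟩ := List.mem_map.1 hv
    exact ⟨hvar x hx, hcl x hx⟩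
  -- the shape
  obtain ⟨p1, p2, p3, p4⟩ := finOne_props
  have hz : consume W.quad target (classList V) = Inv.zero := by
    rw [consume_eq, total_classList fun v hv => (hvV v hv).1, hinv]
    rfl
  obtain ⟨S, hS, hSp⟩ := staged_complete W.quad p1 p2 (by decide) p3 (by decide) p4 shape_classes_ok
    (M := classList V) (fun t ht => by
      obtain ⟨v, hv, ht⟩ := List.mem_flatMap.1 ht
      rw [(List.mem_replicate.1 ht).2]
      exact (hvV v hv).2) hz (by decide)
  rw [← shapesOf, shapes_eq] at hS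
  obtain ⟨k, hk, rfl⟩ := List.mem_iff_getElem.1 hS
  have hk27 : k < 27 := shapes_length ▸ hk
  -- the case
  have hvc := vars_checked k (List.mem_range.2 hk27)
  simp only [varsCheck, Bool.and_eq_true, List.all_eq_true, decide_eq_true_eq] at hvc
  obtain ⟨q1, q2, q3, q4⟩ := finC_props
  obtain ⟨C, hC, hCp⟩ := staged_complete Var.inv q1 q2 (by decide) q3 (by decide) q4 hvc.1 (M := V)
    (fun v hv => by
      refine hvc.2 v.t ?_ v (hvV v hv).1
      rw [List.getD_eq_getElem _ _ hk]
      refine hSp.mem_iff.2 (List.mem_flatMap.2 ⟨v, hv, List.mem_replicate.2 ⟨?_, rfl⟩⟩)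
      have h := (hvV v hv).1
      unfold variants at h
      split_ifs at h <;> simp only [List.mem_cons, List.not_mem_nil, or_false] at h
      · rw [h]; exact one_ne_zero
      · rcases h with h | h | h <;> rw [h] <;> norm_num)
    (r := targetCase) (by rw [consume_eq, hinv]; rfl) (by decide)
  obtain ⟨cs, hrun⟩ := runAll_mem (checked k hk27) C hC
  obtain ⟨M', hM', hM'C⟩ := exists_perm_map Prod.fst hCp.symm (M := M) rfl
  rw [← hM'C, List.map_map, show (Var.item ∘ Prod.fst : Var × ℤ → PI) = fun x => x.1.item from rfl] at hrun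
  obtain ⟨hQ', ⟨q, D⟩, hq, hq'⟩ := run_sound hrun hQ (Ds := M'.map Prod.snd)
    (List.forall₂_map_left_iff.2 (List.forall₂_map_right_iff.2
      (List.forall₂_same.2 fun x hx => hok x (hM'.mem_iff.1 hx))))
    (fun l => by rw [lv_map, (hM'.map _).sum_eq]; exact hL l)
    (fun l => by rw [qv_map, (hM'.map _).sum_eq]; exact hR l)
  refine ⟨hQ', ?_⟩
  rw [List.zip_map', List.mem_map] at hq
  obtain ⟨x, hx, he⟩ := hq
  simp only [Prod.mk.injEq] at he
  obtain ⟨rfl, rfl⟩ := he
  exact ⟨x, hM'.mem_iff.1 hx, hq'⟩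

end CfsgLib.Invol.UThreeFour.Cert
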