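import Cfsg.Agent.Lib.Invol.UThreeFour.Defs
import Cfsg.Agent.Lib.Invol.UThreeFour.CertPure
import Cfsg.Agent.Lib.Invol.UThreeFour.CertClassesA
import Cfsg.Agent.Lib.Invol.UThreeFour.CertClassesB

/-!
Every degree system of `U3(4)` type is the one of `U3(4)`.
-/

set_option autoImplicit false

namespace CfsgLib.Invol.UThreeFour

universe u

namespace Cert

/-- a coefficient function as a vector -/
def W.ofFn (v : Fin 6 → ℤ) : W := ⟨v 0, v 1, v 2, v 3, v 4, v 5⟩

theorem W.ofFn_galShift (v : Fin 6 → ℤ) : W.ofFn (galShift v) = (W.ofFn v).g := rfl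

theorem W.ofFn_val (v : Fin 6 → ℤ) : (W.ofFn v).val = zval v := rfl

theorem W.ofFn_inj {v w : Fin 6 → ℤ} (h : W.ofFn v = W.ofFn w) : v = w := by
  simp only [W.ofFn, W.mk.injEq] at h
  funext k
  fin_cases k
  exacts [h.1, h.2.1, h.2.2.1, h.2.2.2.1, h.2.2.2.2.1, h.2.2.2.2.2]

/-- the sum over an orbit -/
def orbSum {R : Type*} [AddCommMonoid R] (f : W → R) (w : W) : R := (w.orb.map f).sum

theorem orbSum_eq {R : Type*} [AddCommMonoid R] (f : W → R) (w : W) :
    orbSum f w = ∑ k ∈ Finset.range w.per, f (W.g^[k] w) := by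
  rw [orbSum, W.orb_eq, List.map_map]
  rfl

theorem orbSum_neg {R : Type*} [AddCommMonoid R] (f : W → R) (w : W) :
    orbSum f w.neg = orbSum (fun u => f u.neg) w := by
  rw [orbSum, W.orb_neg, List.map_map]
  rfl

theorem coef_dot (l : V3) (w : W) :
    orbSum (fun u => l.x * u.w0 + l.y * u.w1 + l.z * u.w5) w = l.dot w.coef := by
  unfold orbSum W.coef W.orb
  split_ifs <;> simp [V3.dot] <;> ring

theorem coef_neg (w : W) : w.neg.coef = ⟨-w.coef.x, -w.coef.y, -w.coef.z⟩ := by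
  unfold W.coef
  rw [W.orb_neg]
  unfold W.orb
  split_ifs <;> simp [W.neg] <;> omega

theorem quad_neg (w : W) : w.neg.quad = w.quad := by
  unfold W.quad
  rw [W.orb_neg]
  simp only [List.map_map, Function.comp_def, W.neg, neg_mul_neg]

theorem classes_check {a b : ℤ} (ha : a ∈ ints 2) (hb : b ∈ ints 3) : classesCheck a b = true := by
  have : a = -2 ∨ a = -1 ∨ a = 0 ∨ a = 1 ∨ a = 2 := by
    obtain ⟨i, hi, rfl⟩ := List.mem_map.1 ha
    rw [List.mem_range] at hi
    omega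
  rcases this with rfl | rfl | rfl | rfl | rfl
  exacts [classes_m2 b hb, classes_m1 b hb, classes_0 b hb, classes_1 b hb, classes_2 b hb]

theorem two_bound {z : ℤ} (h : z * z ≤ 5) : -2 ≤ z ∧ z ≤ 2 := ⟨by nlinarith, by nlinarith⟩

/-- a representative is a class or the negative of one -/
theorem mem_classes {w : W} (hrep : w.rep = w) (hval : w.val ≠ 0) (h0 : w.w0 * w.w0 ≤ 5) (h1 : w.w1 * w.w1 ≤ 5)
    (h2 : w.w2 * w.w2 ≤ 5) (h3 : w.w3 * w.w3 ≤ 5) (h4 : w.w4 * w.w4 ≤ 5) (h5 : w.w5 * w.w5 ≤ 15)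
    (q0 : w.quad.q00 ≤ 4) (q1 : w.quad.q11 ≤ 5) (q5 : w.quad.q55 ≤ 15) : w ∈ classes ∨ w.neg ∈ classes := by
  obtain ⟨a, x1, x2, x3, x4, b⟩ := w
  have ha := two_bound h0
  have hb : -3 ≤ b ∧ b ≤ 3 := ⟨by nlinarith, by nlinarith⟩
  have h := classes_check (mem_ints (n := 2) ha.1 ha.2) (mem_ints (n := 3) hb.1 hb.2)
  simp only [classesCheck, List.all_eq_true] at h
  have h' := h x1 (mem_ints (two_bound h1).1 (two_bound h1).2) x2 (mem_ints (two_bound h2).1 (two_bound h2).2)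
    x3 (mem_ints (two_bound h3).1 (two_bound h3).2) x4 (mem_ints (two_bound h4).1 (two_bound h4).2)
  simp only [Bool.or_eq_true, decide_eq_true_eq] at h'
  rcases h' with ((((((h' | h') | h') | h') | h') | h') | h')
  · exact absurd h' hval
  · exact absurd h' (not_lt.2 q0)
  · exact absurd h' (not_lt.2 q1)
  · exact absurd h' (not_lt.2 q5)
  · exact absurd hrep h'
  · exact Or.inl h'
  · exact Or.inr h'

end Cert

open Cert

variable {ι : Type u} [Fintype ι] (C : Sys ι)

/-- the vector of a row -/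
def Sys.vec (i : ι) : W := W.ofFn (C.v i)

theorem Sys.vec_sym (i : ι) : C.vec (C.sym i) = (C.vec i).g := by
  rw [Sys.vec, C.v_sym, W.ofFn_galShift, Sys.vec]

theorem Sys.vec_conj (i : ι) : C.vec (C.conj i) = (C.vec i).g.g := by
  rw [Sys.vec, C.v_conj, W.ofFn_galShift, W.ofFn_galShift, Sys.vec]

theorem Sys.iterate_sym (i : ι) (k : ℕ) : C.vec (C.sym^[k] i) = W.g^[k] (C.vec i) ∧ C.d (C.sym^[k] i) = C.d i ∧
    C.nu (C.sym^[k] i) = C.nu i := by
  induction k with
  | zero => exact ⟨rfl, rfl, rfl⟩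
  | succ k ih =>
    obtain ⟨h1, h2, h3⟩ := ih
    rw [Function.iterate_succ_apply', C.vec_sym, C.d_sym, C.nu_sym, Function.iterate_succ_apply', h1, h2, h3]
    exact ⟨rfl, rfl, rfl⟩

/-- the representatives -/
noncomputable def Sys.reps : Finset ι := Finset.univ.filter fun i => (C.vec i).rep = C.vec i

theorem Sys.sum_reps {R : Type*} [AddCommMonoid R] (f : W → ℤ → ℤ → R) :
    ∑ i, f (C.vec i) (C.d i) (C.nu i) = ∑ i ∈ C.reps, orbSum (fun u => f u (C.d i) (C.nu i)) (C.vec i) := by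
  classical
  simp only [orbSum_eq]
  rw [Finset.sum_sigma' C.reps (fun i => Finset.range (C.vec i).per)
    (fun i k => f (W.g^[k] (C.vec i)) (C.d i) (C.nu i))]
  refine (Finset.sum_bij (fun x _ => C.sym^[x.2] x.1) (fun x _ => Finset.mem_univ _) ?_ ?_ ?_).symm
  · rintro ⟨i, k⟩ hik ⟨j, l⟩ hjl h
    simp only [Finset.mem_sigma, Sys.reps, Finset.mem_filter, Finset.mem_univ, true_and, Finset.mem_range] at hik hjl
    have hv : W.g^[k] (C.vec i) = W.g^[l] (C.vec j) := by
      rw [← (C.iterate_sym i k).1, ← (C.iterate_sym j l).1, show C.sym^[k] i = C.sym^[l] j from h]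
    have hij : C.vec i = C.vec j := by
      have := congrArg W.rep hv
      rwa [W.rep_iterate, W.rep_iterate, hik.1, hjl.1] at this
    obtain rfl : k = l := W.iterate_inj (C.vec i) hik.2 (by rw [hij]; exact hjl.2) (by rw [hv, hij])
    obtain rfl : i = j := (C.sym.injective.iterate k) h
    rfl
  · intro i _
    obtain ⟨l, hl, hli⟩ := W.exists_from_rep (C.vec i)
    obtain ⟨j, hj⟩ := (C.sym.surjective.iterate l) i
    have hvj : C.vec j = (C.vec i).rep := by
      apply W.g_injective.iterate l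
      rw [hli, ← (C.iterate_sym j l).1, hj]
    refine ⟨⟨j, l⟩, ?_, hj⟩
    simp only [Finset.mem_sigma, Sys.reps, Finset.mem_filter, Finset.mem_univ, true_and, Finset.mem_range, hvj]
    have hrr := W.rep_iterate (C.vec i).rep l
    rw [hli] at hrr
    exact ⟨hrr.symm, hl⟩
  · rintro ⟨i, k⟩ _
    obtain ⟨h1, h2, h3⟩ := C.iterate_sym i k
    show f (W.g^[k] (C.vec i)) (C.d i) (C.nu i) = f (C.vec (C.sym^[k] i)) _ _
    rw [h1, h2, h3]

/-- a conjugate pair over a fixed vector -/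
def Sys.paired (i : ι) : Prop := C.nu i = 0 ∧ (C.vec i).per ≠ 4

/-- the multiplicity of a kept representative -/
def Sys.mult (i : ι) : ℕ := if C.nu i = 0 ∧ (C.vec i).per ≠ 4 then 2 else 1

/-- the kept representatives -/
noncomputable def Sys.kept : Finset ι :=
  open Classical in
  C.reps.filter fun i => C.paired i → Fintype.equivFin ι i < Fintype.equivFin ι (C.conj i)

theorem Sys.gg_of_per {i : ι} (h : (C.vec i).per ≠ 4) : (C.vec i).g.g = C.vec i := by
  unfold W.per at h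
  split_ifs at h with h1 h2
  · rw [h1, h1]
  · exact h2
  · exact absurd rfl h

theorem Sys.vec_conj_paired {i : ι} (h : C.paired i) : C.vec (C.conj i) = C.vec i := by
  rw [C.vec_conj, C.gg_of_per h.2]

theorem Sys.nu_zero_of_per {i : ι} (h : (C.vec i).per = 4) : C.nu i = 0 := by
  refine (C.nu_zero_iff i).2 fun hc => ?_
  have h2 : (C.vec i).g.g = C.vec i := by rw [← C.vec_conj, hc]
  unfold W.per at h
  split_ifs at h
  all_goals omega

theorem Sys.sum_kept {R : Type*} [CommRing R] (f : W → ℤ → ℤ → R) :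
    ∑ i, f (C.vec i) (C.d i) (C.nu i) =
      ∑ i ∈ C.kept, (C.mult i : R) * orbSum (fun u => f u (C.d i) (C.nu i)) (C.vec i) := by
  classical
  rw [C.sum_reps]
  set O : ι → R := fun i => orbSum (fun u => f u (C.d i) (C.nu i)) (C.vec i) with hO
  set e := Fintype.equivFin ι
  have hsplit : ∀ i ∈ C.reps, C.paired i → C.conj i ∈ C.reps ∧ C.paired (C.conj i) ∧ O (C.conj i) = O i := by
    intro i hi hp
    have hv := C.vec_conj_paired hp
    simp only [Sys.reps, Finset.mem_filter, Finset.mem_univ, true_and] at hi ⊢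
    exact ⟨by rw [hv, hi], ⟨by rw [C.nu_conj, hp.1], by rw [hv]; exact hp.2⟩,
      by simp only [hO, hv, C.d_conj, C.nu_conj]⟩
  set S := C.reps.filter C.paired with hS
  set T := C.reps.filter fun i => ¬ C.paired i
  set S₁ := S.filter fun i => e i < e (C.conj i)
  set S₂ := S.filter fun i => ¬ e i < e (C.conj i)
  have hS₂ : ∑ i ∈ S₂, O i = ∑ i ∈ S₁, O i := by
    refine Finset.sum_bij' (fun i _ => C.conj i) (fun i _ => C.conj i) ?_ ?_ (fun i _ => C.conj_conj i)
      (fun i _ => C.conj_conj i) ?_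
    · intro i hi
      simp only [S₂, S₁, S, Finset.mem_filter] at hi ⊢
      obtain ⟨h1, h2, -⟩ := hsplit i hi.1.1 hi.1.2
      refine ⟨⟨h1, h2⟩, ?_⟩
      rw [C.conj_conj]
      exact lt_of_le_of_ne (not_lt.1 hi.2) fun h => (C.nu_zero_iff i).1 hi.1.2.1 (e.injective h)
    · intro i hi
      simp only [S₂, S₁, S, Finset.mem_filter] at hi ⊢
      obtain ⟨h1, h2, -⟩ := hsplit i hi.1.1 hi.1.2
      refine ⟨⟨h1, h2⟩, ?_⟩
      rw [C.conj_conj]
      exact not_lt.2 hi.2.le
    · intro i hi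
      simp only [S₂, S, Finset.mem_filter] at hi
      exact (hsplit i hi.1.1 hi.1.2).2.2.symm
  have hkept : C.kept = S₁ ∪ T := by
    ext i
    simp only [Sys.kept, S₁, S, T, Finset.mem_union, Finset.mem_filter, e]
    tauto
  rw [hkept, Finset.sum_union (by
    rw [Finset.disjoint_left]
    intro i h1 h2
    simp only [S₁, S, T, Finset.mem_filter] at h1 h2
    exact h2.2 h1.1.2),
    ← Finset.sum_filter_add_sum_filter_not C.reps C.paired O,
    ← Finset.sum_filter_add_sum_filter_not S (fun i => e i < e (C.conj i)) O]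
  rw [show ∑ i ∈ S.filter (fun i => ¬ e i < e (C.conj i)), O i = ∑ i ∈ S₁, O i from hS₂]
  congr 1
  · rw [← Finset.sum_add_distrib]
    refine Finset.sum_congr rfl fun i hi => ?_
    simp only [S₁, S, Finset.mem_filter] at hi
    rw [Sys.mult, if_pos (show C.nu i = 0 ∧ (C.vec i).per ≠ 4 from hi.1.2)]
    show O i + O i = (2 : ℕ) * O i
    push_cast; ring
  · refine Finset.sum_congr rfl fun i hi => ?_
    simp only [T, Finset.mem_filter] at hi
    rw [Sys.mult, if_neg (show ¬(C.nu i = 0 ∧ (C.vec i).per ≠ 4) from hi.2), Nat.cast_one, one_mul]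

theorem Sys.vec_triv : C.vec C.triv = ⟨1, 0, 0, 0, 0, 1⟩ := by
  rw [Sys.vec, C.v_triv]; rfl

theorem Sys.triv_kept : C.triv ∈ C.kept := by
  classical
  simp only [Sys.kept, Sys.reps, Finset.mem_filter, Finset.mem_univ, true_and]
  refine ⟨by rw [C.vec_triv]; decide, fun h => ?_⟩
  have := h.1
  rw [C.nu_triv] at this
  exact absurd this (by norm_num)

/-- the sum over everything, trivial row apart -/
theorem Sys.sum_split {R : Type*} [CommRing R] [DecidableEq ι] (f : W → ℤ → ℤ → R) :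
    ∑ i, f (C.vec i) (C.d i) (C.nu i) = f ⟨1, 0, 0, 0, 0, 1⟩ 1 1 +
      ∑ i ∈ C.kept.erase C.triv, (C.mult i : R) * orbSum (fun u => f u (C.d i) (C.nu i)) (C.vec i) := by
  rw [C.sum_kept, ← Finset.add_sum_erase _ _ C.triv_kept]
  congr 1
  rw [Sys.mult, if_neg (by rw [C.nu_triv]; simp), Nat.cast_one, one_mul, C.vec_triv, C.d_triv, C.nu_triv]
  rw [orbSum, show (⟨1, 0, 0, 0, 0, 1⟩ : W).orb = [⟨1, 0, 0, 0, 0, 1⟩] by decide]
  simp

/-- the sign of a representative -/
def Sys.sgn (i : ι) : ℤ := if C.vec i ∈ classes then 1 else -1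

/-- the class of a representative -/
def Sys.cls (i : ι) : W := if C.vec i ∈ classes then C.vec i else (C.vec i).neg

/-- the orbit of rows of a representative -/
def Sys.var (i : ι) : Var := ⟨C.cls i, C.mult i, C.sgn i * C.nu i⟩

theorem Sys.cls_facts (i : ι) :
    C.sgn i = 1 ∧ C.cls i = C.vec i ∨ C.sgn i = -1 ∧ C.cls i = (C.vec i).neg := by
  by_cases h : C.vec i ∈ classes
  · exact Or.inl ⟨if_pos h, if_pos h⟩
  · exact Or.inr ⟨if_neg h, if_neg h⟩

theorem Sys.row_bounds (i : ι) : (C.v i 0) * (C.v i 0) ≤ 5 ∧ (C.v i 1) * (C.v i 1) ≤ 5 ∧ (C.v i 2) * (C.v i 2) ≤ 5 ∧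
    (C.v i 3) * (C.v i 3) ≤ 5 ∧ (C.v i 4) * (C.v i 4) ≤ 5 ∧ (C.v i 5) * (C.v i 5) ≤ 15 := by
  classical
  have key : ∀ k, C.v i k * C.v i k ≤ gramMat k k := fun k => by
    rw [← C.gram k k]
    exact Finset.single_le_sum (f := fun j => C.v j k * C.v j k) (fun j _ => mul_self_nonneg _) (Finset.mem_univ i)
  refine ⟨key 0, key 1, key 2, key 3, key 4, ?_⟩
  by_cases hi : i = C.triv
  · subst hi; rw [C.v_triv]; show (1 : ℤ) * 1 ≤ 15; norm_num
  · have h := C.gram 5 5
    rw [← Finset.add_sum_erase _ _ (Finset.mem_univ C.triv)] at h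
    have h2 := Finset.single_le_sum (f := fun j => C.v j 5 * C.v j 5) (fun j _ => mul_self_nonneg _)
      (Finset.mem_erase.2 ⟨hi, Finset.mem_univ i⟩)
    have e : C.v C.triv 5 * C.v C.triv 5 = 1 := by rw [C.v_triv]; rfl
    have g : gramMat 5 5 = 16 := rfl
    linarith

/-- **The degree certificate.** -/
theorem Sys.solved : C.Solved := by
  classical
  set K := C.kept.erase C.triv with hK
  have hKrep : ∀ i ∈ K, (C.vec i).rep = C.vec i := fun i hi => by
    have h := (Finset.mem_erase.1 hi).2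
    simp only [Sys.kept, Sys.reps, Finset.mem_filter, Finset.mem_univ, true_and] at h
    exact h.1
  -- the quadratic invariants
  have hgram : ∀ k l : Fin 6, ∀ p : W → ℤ, (∀ i, p (C.vec i) = C.v i k * C.v i l) →
      p ⟨1, 0, 0, 0, 0, 1⟩ + ∑ i ∈ K, (C.mult i : ℤ) * orbSum p (C.vec i) = gramMat k l := fun k l p hp => by
    rw [← C.gram k l, ← C.sum_split (fun u _ _ => p u)]
    exact Finset.sum_congr rfl fun i _ => hp i
  have g00 := hgram 0 0 (fun u => u.w0 * u.w0) fun i => rfl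
  have g11 := hgram 1 1 (fun u => u.w1 * u.w1) fun i => rfl
  have g55 := hgram 5 5 (fun u => u.w5 * u.w5) fun i => rfl
  have g01 := hgram 0 1 (fun u => u.w0 * u.w1) fun i => rfl
  have g05 := hgram 0 5 (fun u => u.w0 * u.w5) fun i => rfl
  have g15 := hgram 1 5 (fun u => u.w1 * u.w5) fun i => rfl
  have g12 := hgram 1 2 (fun u => u.w1 * u.w2) fun i => rfl
  have g14 := hgram 1 4 (fun u => u.w1 * u.w4) fun i => rfl
  simp only [show gramMat 0 0 = 5 from rfl, show gramMat 1 1 = 5 from rfl, show gramMat 5 5 = 16 from rfl,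
    show gramMat 0 1 = 1 from rfl, show gramMat 0 5 = 4 from rfl, show gramMat 1 5 = 4 from rfl,
    show gramMat 1 2 = 1 from rfl, show gramMat 1 4 = 1 from rfl, mul_one, mul_zero,
    zero_add] at g00 g11 g55 g01 g05 g15 g12 g14
  have hquad : ∀ i, (C.cls i).quad = (C.vec i).quad := fun i => by
    rcases C.cls_facts i with ⟨-, h⟩ | ⟨-, h⟩ <;> rw [h]
    exact quad_neg _
  have hmult1 : ∀ i, 1 ≤ C.mult i := fun i => by unfold Sys.mult; split_ifs <;> norm_num
  have hsq : ∀ p : W → ℤ, ∀ i, 0 ≤ orbSum (fun u => p u * p u) (C.vec i) := fun p i =>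
    List.sum_nonneg fun x hx => by
      obtain ⟨u, -, rfl⟩ := List.mem_map.1 hx
      exact mul_self_nonneg _
  have hle : ∀ (p : W → ℤ) (N : ℤ), ∑ i ∈ K, (C.mult i : ℤ) * orbSum (fun u => p u * p u) (C.vec i) = N →
      ∀ i ∈ K, orbSum (fun u => p u * p u) (C.vec i) ≤ N := fun p N hN i hi => by
    rw [← hN]
    refine le_trans ?_ (Finset.single_le_sum (f := fun j => (C.mult j : ℤ) * orbSum (fun u => p u * p u) (C.vec j))
      (fun j _ => mul_nonneg (by positivity) (hsq p j)) hi)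
    exact le_mul_of_one_le_left (hsq p i) (by exact_mod_cast hmult1 i)
  have hcl : ∀ i ∈ K, C.cls i ∈ classes := fun i hi => by
    obtain ⟨b0, b1, b2, b3, b4, b5⟩ := C.row_bounds i
    by_cases h : C.vec i ∈ classes
    · rwa [Sys.cls, if_pos h]
    · rw [Sys.cls, if_neg h]
      refine (mem_classes (hKrep i hi) ?_ b0 b1 b2 b3 b4 b5 ?_ ?_ ?_).resolve_left h
      · rw [Sys.vec, W.ofFn_val]; exact C.zval_ne i
      · exact hle W.w0 4 (by linarith [g00]) i hi
      · exact hle W.w1 5 (by linarith [g11]) i hi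
      · exact hle W.w5 15 (by linarith [g55]) i hi
  let M : List (Var × ℤ) := K.toList.map fun i => (C.var i, C.sgn i * C.d i)
  have hmem : ∀ x ∈ M, ∃ i ∈ K, x = (C.var i, C.sgn i * C.d i) := fun x hx => by
    obtain ⟨i, hi, rfl⟩ := List.mem_map.1 hx
    exact ⟨i, Finset.mem_toList.1 hi, rfl⟩
  have hsum : ∀ {R : Type} [AddCommMonoid R] (F : Var × ℤ → R),
      (M.map F).sum = ∑ i ∈ K, F (C.var i, C.sgn i * C.d i) := fun F => by
    simp only [M, List.map_map]
    exact Finset.sum_map_toList _ _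
  have hper : ∀ i, (C.cls i).per = (C.vec i).per := fun i => by
    rcases C.cls_facts i with ⟨-, h⟩ | ⟨-, h⟩ <;> rw [h]
    exact W.per_neg _
  have hvar : ∀ i ∈ K, C.var i ∈ variants (C.cls i) := fun i _ => by
    unfold variants Sys.var
    rw [hper i]
    by_cases h4 : (C.vec i).per = 4
    · rw [if_pos h4, Sys.mult, if_neg (by simp [h4]), C.nu_zero_of_per h4, mul_zero]
      simp
    · rw [if_neg h4]
      rcases C.nu_cases i with hn | hn | hn <;> rcases C.cls_facts i with ⟨hs, -⟩ | ⟨hs, -⟩ <;>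
        simp [Sys.mult, hn, hs, h4]
  have hcoef : ∀ i (l : V3), l.dot (C.cls i).coef = C.sgn i * l.dot (C.vec i).coef := fun i l => by
    rcases C.cls_facts i with ⟨hs, h⟩ | ⟨hs, h⟩ <;> rw [hs, h]
    · rw [one_mul]
    · rw [coef_neg]; simp only [V3.dot]; ring
  have hsg2 : ∀ i, C.sgn i * C.sgn i = 1 := fun i => by
    rcases C.cls_facts i with ⟨hs, -⟩ | ⟨hs, -⟩ <;> rw [hs] <;> norm_num
  have hval : ∀ i, (C.cls i).val = C.sgn i * zval (C.v i) := fun i => by
    rcases C.cls_facts i with ⟨hs, h⟩ | ⟨hs, h⟩ <;> rw [hs, h]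
    · rw [one_mul]; exact W.ofFn_val _
    · rw [W.val_neg, Sys.vec, W.ofFn_val, neg_one_mul]
  have hw5 : ∀ i, (C.cls i).w5 = C.sgn i * C.v i 5 := fun i => by
    rcases C.cls_facts i with ⟨hs, h⟩ | ⟨hs, h⟩ <;> rw [hs, h] <;> simp [W.neg, Sys.vec, W.ofFn]
  have hitemval : ∀ i, (C.var i).item.val (C.sgn i * C.d i) = zval (C.v i) := fun i => by
    show (if 0 < C.sgn i * C.d i then (C.cls i).val else -(C.cls i).val) = _
    have hd := C.d_pos i
    rcases C.cls_facts i with ⟨hs, -⟩ | ⟨hs, -⟩ <;> rw [hval i, hs] <;> split_ifs with h <;> omega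
  have habs : ∀ i, ((C.sgn i * C.d i).natAbs : ℤ) = C.d i := fun i => by
    have := C.d_pos i
    rcases C.cls_facts i with ⟨hs, -⟩ | ⟨hs, -⟩ <;> rw [hs] <;> omega
  have hok : ∀ i ∈ K, (C.var i).item.ok 0 (C.sgn i * C.d i) = true := fun i hi => by
    have hd := C.d_pos i
    have hcong := C.cong i
    rw [PI.ok_iff, hitemval i, habs i]
    refine ⟨?_, ?_, Nat.zero_le _, C.zval_ge i, C.zval_lt i (Finset.mem_erase.1 hi).1, ?_⟩
    · rcases C.cls_facts i with ⟨hs, -⟩ | ⟨hs, -⟩ <;> rw [hs] <;> omega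
    · show (C.sgn i * C.d i - (-3 * (C.cls i).val - 60 * (C.cls i).w5) % 64) % 64 = 0
      rcases C.cls_facts i with ⟨hs, -⟩ | ⟨hs, -⟩ <;> rw [hval i, hw5 i, hs] <;> omega
    · show (if (C.cls i).val % 2 = 0 then (0 : ℤ) else C.sgn i * C.nu i) = 0 ∨
        0 < (if (C.cls i).val % 2 = 0 then (0 : ℤ) else C.sgn i * C.nu i) * (C.sgn i * C.d i)
      split_ifs with hpar
      · exact Or.inl rfl
      rcases C.nu_cases i with hn | hn | hn
      · exact Or.inr (by rw [hn, mul_one, ← mul_assoc, hsg2 i, one_mul]; exact hd)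
      · exact Or.inl (by rw [hn, mul_zero])
      · exfalso
        obtain ⟨r, hr⟩ := C.nu_neg i hn
        rcases C.cls_facts i with ⟨hs, -⟩ | ⟨hs, -⟩ <;> rw [hval i, hs] at hpar <;> omega
  -- the sums
  have hinv : total Var.inv (M.map Prod.fst) = targetCase := by
    have key : ∀ F : Inv → ℤ, (∀ a b, F (a.add b) = F a + F b) → F Inv.zero = 0 →
        F (total Var.inv (M.map Prod.fst)) = ∑ i ∈ K, F (C.var i).inv := by
      intro F hadd h0
      rw [← hsum fun x => F x.1.inv]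
      have : ∀ L : List (Var × ℤ), F (total Var.inv (L.map Prod.fst)) = (L.map fun x => F x.1.inv).sum := by
        intro L
        induction L with
        | nil => simpa [total] using h0
        | cons x xs ih => simp [total, hadd, ih]
      exact this M
    have hn : ∀ (k : Fin 6) (p : W → ℤ) (l : V3), (∀ i, p (C.vec i) = C.v i k) →
        (∀ u : W, p u = l.x * u.w0 + l.y * u.w1 + l.z * u.w5) →
        ∑ i ∈ K, C.sgn i * C.nu i * l.dot (C.cls i).coef = ![-1, -1, -1, -1, -1, 0] k - p ⟨1, 0, 0, 0, 0, 1⟩ := by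
      intro k p l hp hpl
      have h := C.sum_split (fun u _ n => p u * n)
      rw [Finset.sum_congr rfl (fun i _ => by rw [hp i] : ∀ i ∈ Finset.univ, p (C.vec i) * C.nu i = C.v i k * C.nu i),
        C.sum_nu k] at h
      rw [h, mul_one, add_sub_cancel_left]
      refine Finset.sum_congr rfl fun i _ => ?_
      rw [hcoef i l, ← coef_dot l]
      have e : orbSum (fun u => p u * C.nu i) (C.vec i) =
          orbSum (fun u => l.x * u.w0 + l.y * u.w1 + l.z * u.w5) (C.vec i) * C.nu i := by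
        simp only [orbSum, hpl, List.sum_map_mul_right]
      rw [e]
      by_cases hz : C.nu i = 0
      · rw [hz]; ring
      · rw [Sys.mult, if_neg (fun h => hz h.1), Nat.cast_one, one_mul]
        linear_combination
          (orbSum (fun u => l.x * u.w0 + l.y * u.w1 + l.z * u.w5) (C.vec i) * C.nu i) * hsg2 i
    have hq : ∀ p : W → ℤ, ∀ F : Inv → ℤ, (∀ a b, F (a.add b) = F a + F b) → F Inv.zero = 0 →
        (∀ v : Var, F v.inv = v.m * orbSum p v.t) → (∀ u : W, p u.neg = p u) →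
        F (total Var.inv (M.map Prod.fst)) = ∑ i ∈ K, (C.mult i : ℤ) * orbSum p (C.vec i) := by
      intro p F hadd h0 hF hp
      rw [key F hadd h0]
      refine Finset.sum_congr rfl fun i _ => ?_
      rw [hF]
      show (C.mult i : ℤ) * orbSum p (C.cls i) = _
      rcases C.cls_facts i with ⟨-, h⟩ | ⟨-, h⟩ <;> rw [h]
      rw [orbSum_neg]
      simp only [hp]
    have a0 := (key Inv.n0 (fun _ _ => rfl) rfl).trans ((Finset.sum_congr rfl fun i _ => by
      show _ = C.sgn i * C.nu i * (⟨1, 0, 0⟩ : V3).dot (C.cls i).coef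
      simp [Var.inv, Sys.var, V3.dot]).trans (hn 0 W.w0 ⟨1, 0, 0⟩ (fun i => rfl) (fun u => by simp)))
    have a1 := (key Inv.n1 (fun _ _ => rfl) rfl).trans ((Finset.sum_congr rfl fun i _ => by
      show _ = C.sgn i * C.nu i * (⟨0, 1, 0⟩ : V3).dot (C.cls i).coef
      simp [Var.inv, Sys.var, V3.dot]).trans (hn 1 W.w1 ⟨0, 1, 0⟩ (fun i => rfl) (fun u => by simp)))
    have a5 := (key Inv.n5 (fun _ _ => rfl) rfl).trans ((Finset.sum_congr rfl fun i _ => by
      show _ = C.sgn i * C.nu i * (⟨0, 0, 1⟩ : V3).dot (C.cls i).coef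
      simp [Var.inv, Sys.var, V3.dot]).trans (hn 5 W.w5 ⟨0, 0, 1⟩ (fun i => rfl) (fun u => by simp)))
    have b00 := hq (fun u => u.w0 * u.w0) Inv.q00 (fun _ _ => rfl) rfl (fun _ => rfl) (fun u => by simp [W.neg])
    have b11 := hq (fun u => u.w1 * u.w1) Inv.q11 (fun _ _ => rfl) rfl (fun _ => rfl) (fun u => by simp [W.neg])
    have b55 := hq (fun u => u.w5 * u.w5) Inv.q55 (fun _ _ => rfl) rfl (fun _ => rfl) (fun u => by simp [W.neg])
    have b01 := hq (fun u => u.w0 * u.w1) Inv.q01 (fun _ _ => rfl) rfl (fun _ => rfl) (fun u => by simp [W.neg])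
    have b05 := hq (fun u => u.w0 * u.w5) Inv.q05 (fun _ _ => rfl) rfl (fun _ => rfl) (fun u => by simp [W.neg])
    have b15 := hq (fun u => u.w1 * u.w5) Inv.q15 (fun _ _ => rfl) rfl (fun _ => rfl) (fun u => by simp [W.neg])
    have b12 := hq (fun u => u.w1 * u.w2) Inv.q12 (fun _ _ => rfl) rfl (fun _ => rfl) (fun u => by simp [W.neg])
    have b14 := hq (fun u => u.w1 * u.w4) Inv.q14 (fun _ _ => rfl) rfl (fun _ => rfl) (fun u => by simp [W.neg])
    generalize total Var.inv (M.map Prod.fst) = T at a0 a1 a5 b00 b11 b55 b01 b05 b15 b12 b14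
    obtain ⟨t0, t1, t2, t3, t4, t5, t6, t7, t8, t9, t10⟩ := T
    simp only [Matrix.cons_val, Matrix.cons_val_zero, Matrix.cons_val_one] at a0 a1 a5
    simp only [targetCase, Inv.mk.injEq] at a0 a1 a5 b00 b11 b55 b01 b05 b15 b12 b14 ⊢
    omega
  -- the linear equations
  have hL : ∀ l : V3, l.dot ⟨1, 0, 1⟩ + (M.map fun x => l.dot x.1.item.c * x.2).sum = 0 := fun l => by
    rw [hsum]
    have h := C.sum_split (fun u d _ => (l.x * u.w0 + l.y * u.w1 + l.z * u.w5) * d)
    have hz : ∑ i, (l.x * (C.vec i).w0 + l.y * (C.vec i).w1 + l.z * (C.vec i).w5) * C.d i = 0 := by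
      simp only [add_mul, mul_assoc, Finset.sum_add_distrib, ← Finset.mul_sum]
      show l.x * ∑ i, C.v i 0 * C.d i + l.y * ∑ i, C.v i 1 * C.d i + l.z * ∑ i, C.v i 5 * C.d i = 0
      rw [C.sum_deg, C.sum_deg, C.sum_deg]; ring
    rw [hz] at h
    refine Eq.trans ?_ h.symm
    congr 1
    · simp [V3.dot]
    refine Finset.sum_congr rfl fun i _ => ?_
    have e : l.dot (C.var i).item.c = C.mult i * l.dot (C.cls i).coef := by
      simp only [Var.item, Sys.var, V3.dot]; ring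
    rw [show orbSum (fun u => (l.x * u.w0 + l.y * u.w1 + l.z * u.w5) * C.d i) (C.vec i) =
      l.dot (C.vec i).coef * C.d i by rw [← coef_dot]; simp only [orbSum, List.sum_map_mul_right]]
    rw [e, hcoef i l]
    linear_combination ((C.mult i : ℤ) * l.dot (C.vec i).coef * C.d i) * hsg2 i
  have hR : ∀ l : V3, (l.dot ⟨1, 0, 1⟩ : ℚ) +
      (M.map fun x => (l.dot x.1.item.c : ℚ) * x.1.item.a * x.1.item.a / x.2).sum = ((l.x + l.y : ℤ) : ℚ) * C.Q :=
    fun l => by
    rw [hsum]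
    have h := C.sum_split (fun u d _ => ((l.x * u.w0 + l.y * u.w1 + l.z * u.w5 : ℤ) : ℚ) * ((u.val : ℚ) ^ 2 / d))
    have hz : ∑ i, (((l.x * (C.vec i).w0 + l.y * (C.vec i).w1 + l.z * (C.vec i).w5 : ℤ) : ℚ) *
        (((C.vec i).val : ℚ) ^ 2 / C.d i)) = ((l.x + l.y : ℤ) : ℚ) * C.Q := by
      have e : ∀ k, ∑ i, (C.v i k : ℚ) * (((C.vec i).val : ℚ) ^ 2 / C.d i) = ![C.Q, C.Q, C.Q, C.Q, C.Q, 0] k := fun k => by
        rw [← C.sum_quot k]
        refine Finset.sum_congr rfl fun i _ => ?_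
        rw [Sys.vec, W.ofFn_val, mul_div_assoc]
      push_cast
      simp only [add_mul, mul_assoc, Finset.sum_add_distrib, ← Finset.mul_sum]
      show (l.x : ℚ) * ∑ i, (C.v i 0 : ℚ) * (((C.vec i).val : ℚ) ^ 2 / C.d i) +
        (l.y : ℚ) * ∑ i, (C.v i 1 : ℚ) * (((C.vec i).val : ℚ) ^ 2 / C.d i) +
        (l.z : ℚ) * ∑ i, (C.v i 5 : ℚ) * (((C.vec i).val : ℚ) ^ 2 / C.d i) = _
      rw [e, e, e]
      simp
    rw [hz] at h
    refine Eq.trans ?_ h.symm
    congr 1
    · simp [V3.dot, W.val]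
    refine Finset.sum_congr rfl fun i _ => ?_
    have hvalI : ∀ u ∈ (C.vec i).orb, u.val = (C.vec i).val := fun u hu => by
      unfold W.orb at hu
      split_ifs at hu <;> simp only [List.mem_cons, List.not_mem_nil, or_false] at hu
      · rw [hu]
      · rcases hu with rfl | rfl <;> simp [W.val_g]
      · rcases hu with rfl | rfl | rfl | rfl <;> simp [W.val_g]
    have e1 : orbSum (fun u => ((l.x * u.w0 + l.y * u.w1 + l.z * u.w5 : ℤ) : ℚ) * ((u.val : ℚ) ^ 2 / C.d i))
        (C.vec i) = (l.dot (C.vec i).coef : ℚ) * (((C.vec i).val : ℚ) ^ 2 / C.d i) := by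
      unfold orbSum
      rw [List.map_congr_left (g := fun u : W => ((l.x * u.w0 + l.y * u.w1 + l.z * u.w5 : ℤ) : ℚ) *
        (((C.vec i).val : ℚ) ^ 2 / C.d i)) fun u hu => by rw [hvalI u hu], List.sum_map_mul_right, ← coef_dot]
      congr 1
      unfold orbSum
      rw [Int.cast_list_sum, List.map_map]
      rfl
    have e2 : l.dot (C.var i).item.c = C.mult i * l.dot (C.cls i).coef := by
      simp only [Var.item, Sys.var, V3.dot]; ring
    rw [e1, e2, hcoef i l]
    show (((C.mult i : ℤ) * (C.sgn i * l.dot (C.vec i).coef) : ℤ) : ℚ) * ((C.cls i).val : ℚ) * ((C.cls i).val : ℚ) /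
      ((C.sgn i * C.d i : ℤ) : ℚ) = _
    rw [hval i, Sys.vec, W.ofFn_val]
    have hd : (C.d i : ℚ) ≠ 0 := by exact_mod_cast (C.d_pos i).ne'
    rcases C.cls_facts i with ⟨hs, -⟩ | ⟨hs, -⟩ <;> rw [hs] <;> push_cast <;> field_simp
  obtain ⟨hQ, x, hx, h12, hx4⟩ := solved_of_vars C.Q_neg
    (fun x hx => by obtain ⟨i, hi, rfl⟩ := hmem x hx; exact hcl i hi)
    (fun x hx => by obtain ⟨i, hi, rfl⟩ := hmem x hx; exact hvar i hi)
    (fun x hx => by obtain ⟨i, hi, rfl⟩ := hmem x hx; exact hok i hi) hinv hL hR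
  obtain ⟨i, hi, rfl⟩ := hmem x hx
  refine ⟨hQ, i, ?_, ?_⟩
  · rw [← habs i, h12]; rfl
  · rw [← hitemval i]; exact hx4

end CfsgLib.Invol.UThreeFour
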