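import Cfsg.Agent.Lib.Invol.UThreeFour.CharsKill
import Cfsg.Agent.Lib.Invol.UThreeFour.Cert

/-!
The core is trivial and the order is 62400.
-/

set_option autoImplicit false

namespace CfsgLib.Invol.UThreeFour

universe u

variable {G : Type u} [Group G] [Finite G]

/-- The odd core of the centralizer of an involution is trivial. -/
theorem Loc.core_eq_bot (D : Loc G) : Cfsg.centralizerPPrimeCore 2 D.z = ⊥ := by
  have := Fintype.ofFinite G
  exact Chars.core_eq_bot D fun C => C.solved

/-- The order of the group. -/
theorem Loc.card_eq (D : Loc G) : Nat.card G = 62400 := by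
  have := Fintype.ofFinite G
  exact Chars.card_eq D fun C => C.solved

end CfsgLib.Invol.UThreeFour
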