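import Mathlib

/-!
The degree system in the case `C(z) = O(C(z)) * S` for a Sylow 2-subgroup of type PSU(3,4) has no
solution: five vectors of norm three with inner products two have a common core of two rows, and
the congruences make the reciprocal sum too small.
-/

set_option autoImplicit false
set_option linter.unusedSectionVars false

namespace CfsgLib.Invol.UThreeFour

open Finset

universe u

variable {ι : Type u} [DecidableEq ι]

theorem sq_le_three {x : ℤ} (h : x ^ 2 ≤ 3) : x = -1 ∨ x = 0 ∨ x = 1 := by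
  have h1 : -2 < x := by nlinarith
  have h2 : x < 2 := by nlinarith
  omega

theorem bound_quot {k D : ℤ} {m : ℕ} (hk : 0 ≤ k) (hm : 0 < m) (hD : (m : ℤ) ≤ |D|) :
    -((k : ℚ) / m) ≤ (k : ℚ) / D := by
  have hD0 : (D : ℚ) ≠ 0 := by
    intro h
    have : D = 0 := by exact_mod_cast h
    subst this
    simp at hD
    omega
  have h1 : |(k : ℚ) / D| ≤ (k : ℚ) / m := by
    rw [abs_div, abs_of_nonneg (show (0 : ℚ) ≤ k by exact_mod_cast hk)]
    refine div_le_div_of_nonneg_left (by exact_mod_cast hk) (by exact_mod_cast hm) ?_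
    exact_mod_cast hD
  exact (abs_le.1 h1).1

/-- Five vectors of norm three with mutual inner products two share two rows. -/
theorem five_sunflower (s : Finset ι) (A : Fin 5 → ι → ℤ)
    (hg : ∀ j k, ∑ i ∈ s, A j i * A k i = if j = k then 3 else 2) :
    ∃ p ∈ s, ∃ q ∈ s, ∃ e : Fin 5 → ι, (∀ j, e j ∈ s) ∧ Function.Injective e ∧ p ≠ q ∧
      (∀ j, e j ≠ p ∧ e j ≠ q) ∧ (∀ j, A j p = A 0 p ∧ A j q = A 0 q) ∧
      (∀ j, (A j p = 1 ∨ A j p = -1) ∧ (A j q = 1 ∨ A j q = -1) ∧
        (A j (e j) = 1 ∨ A j (e j) = -1)) ∧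
      ∀ j, ∀ i ∈ s, i ≠ p → i ≠ q → i ≠ e j → A j i = 0 := by
  classical
  have hval : ∀ j, ∀ i ∈ s, A j i = -1 ∨ A j i = 0 ∨ A j i = 1 := fun j i hi => by
    refine sq_le_three ?_
    have h := hg j j
    rw [if_pos rfl] at h
    rw [← h, pow_two]
    exact Finset.single_le_sum (f := fun i => A j i * A j i) (fun i _ => mul_self_nonneg _) hi
  set S : Fin 5 → Finset ι := fun j => s.filter fun i => A j i ≠ 0 with hS
  have hmem : ∀ j i, i ∈ S j ↔ i ∈ s ∧ A j i ≠ 0 := fun j i => by simp [hS]
  have hcard : ∀ j, (S j).card = 3 := fun j => by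
    have h := hg j j
    rw [if_pos rfl, ← Finset.sum_filter_of_ne (p := fun i => A j i ≠ 0)
      (fun i _ hne => left_ne_zero_of_mul hne), Finset.sum_congr rfl (g := fun _ => (1 : ℤ))
      (fun i hi => by
        rcases hval j i (Finset.mem_filter.1 hi).1 with e | e | e
        · rw [e]; norm_num
        · exact absurd e (Finset.mem_filter.1 hi).2
        · rw [e]; norm_num), Finset.sum_const, nsmul_eq_mul, mul_one] at h
    exact_mod_cast h
  -- two supports share exactly two rows with equal signs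
  have hinter : ∀ j k, j ≠ k → (S j ∩ S k).card = 2 ∧ ∀ i ∈ S j ∩ S k, A j i = A k i := by
    intro j k hjk
    set T := S j ∩ S k
    have hsum : ∑ i ∈ T, A j i * A k i = 2 := by
      rw [← if_neg hjk (t := (3 : ℤ)) (e := (2 : ℤ)), ← hg j k]
      refine Finset.sum_subset (fun i hi => ((hmem j i).1 (Finset.mem_inter.1 hi).1).1) fun i hi hn => ?_
      by_contra h0
      exact hn (Finset.mem_inter.2 ⟨(hmem j i).2 ⟨hi, left_ne_zero_of_mul h0⟩,
        (hmem k i).2 ⟨hi, right_ne_zero_of_mul h0⟩⟩)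
    have hpm : ∀ i ∈ T, A j i * A k i = 1 ∨ A j i * A k i = -1 := fun i hi => by
      obtain ⟨h1, h2⟩ := Finset.mem_inter.1 hi
      obtain ⟨his, hj⟩ := (hmem j i).1 h1
      obtain ⟨-, hk⟩ := (hmem k i).1 h2
      rcases hval j i his with e | e | e <;> rcases hval k i his with e' | e' | e' <;>
        simp_all
    have hsplit : ∑ i ∈ T, A j i * A k i =
        (T.card : ℤ) - 2 * ((T.filter fun i => A j i * A k i = -1).card : ℤ) := by
      rw [Finset.sum_congr rfl (g := fun i => (1 : ℤ) - 2 * (if A j i * A k i = -1 then 1 else 0))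
        (fun i hi => by rcases hpm i hi with e | e <;> simp [e]),
        Finset.sum_sub_distrib, ← Finset.mul_sum, Finset.sum_boole]
      simp
    have hle : T.card ≤ 3 := hcard j ▸ Finset.card_le_card Finset.inter_subset_left
    rw [hsum] at hsplit
    have hm0 : (T.filter fun i => A j i * A k i = -1).card = 0 := by omega
    refine ⟨by omega, fun i hi => ?_⟩
    have h1 : A j i * A k i = 1 := (hpm i hi).resolve_right fun e => by
      have : 0 < (T.filter fun i => A j i * A k i = -1).card :=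
        Finset.card_pos.2 ⟨i, Finset.mem_filter.2 ⟨hi, e⟩⟩
      omega
    rcases Int.mul_eq_one_iff_eq_one_or_neg_one.1 h1 with ⟨e, e'⟩ | ⟨e, e'⟩ <;> rw [e, e']
  set P := S 0 ∩ S 1
  have hP : P.card = 2 := (hinter 0 1 (by decide)).1
  -- all supports contain the same two rows
  have hall : ∀ j, P ⊆ S j := by
    by_contra hc
    push Not at hc
    obtain ⟨l, hl⟩ := hc
    have hl0 : l ≠ 0 := fun e => hl (e ▸ Finset.inter_subset_left)
    have hl1 : l ≠ 1 := fun e => hl (e ▸ Finset.inter_subset_right)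
    have hne : S 0 ∩ S l ≠ P := fun e => hl (e ▸ Finset.inter_subset_right)
    -- everything lies in a set of four rows
    set W := S 0 ∪ S 1
    have hW : W.card = 4 := by
      have := Finset.card_union_add_card_inter (S 0) (S 1)
      rw [hcard, hcard] at this
      change W.card + P.card = 3 + 3 at this
      omega
    have hsubl : S l ⊆ W := by
      intro i hi
      by_contra hiW
      -- the other two rows of `S l` lie in both
      have h0 := (hinter 0 l (Ne.symm hl0)).1
      have h1 := (hinter 1 l (Ne.symm hl1)).1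
      have hsub0 : S 0 ∩ S l ⊆ (S l).erase i := fun x hx => Finset.mem_erase.2
        ⟨fun e => hiW (Finset.mem_union_left _ (e ▸ (Finset.mem_inter.1 hx).1)), (Finset.mem_inter.1 hx).2⟩
      have hsub1 : S 1 ∩ S l ⊆ (S l).erase i := fun x hx => Finset.mem_erase.2
        ⟨fun e => hiW (Finset.mem_union_right _ (e ▸ (Finset.mem_inter.1 hx).1)), (Finset.mem_inter.1 hx).2⟩
      have hc2 : ((S l).erase i).card = 2 := by rw [Finset.card_erase_of_mem hi, hcard]
      have e0 := Finset.eq_of_subset_of_card_le hsub0 (by rw [hc2, h0])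
      have e1 := Finset.eq_of_subset_of_card_le hsub1 (by rw [hc2, h1])
      refine hne (Finset.eq_of_subset_of_card_le (fun x hx => ?_) (by rw [h0, hP]))
      refine Finset.mem_inter.2 ⟨(Finset.mem_inter.1 hx).1, ?_⟩
      rw [e0, ← e1] at hx
      exact (Finset.mem_inter.1 hx).1
    have hsub : ∀ m, S m ⊆ W := by
      intro m
      by_cases hm0 : m = 0
      · exact hm0 ▸ Finset.subset_union_left
      by_cases hm1 : m = 1
      · exact hm1 ▸ Finset.subset_union_right
      by_cases hml : m = l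
      · exact hml ▸ hsubl
      intro i hi
      by_contra hiW
      have h0 := (hinter 0 m (Ne.symm hm0)).1
      have h1 := (hinter 1 m (Ne.symm hm1)).1
      have h2 := (hinter l m (Ne.symm hml)).1
      have hsub : ∀ n, S n ⊆ W → (S n ∩ S m) = (S m).erase i ∨ (S n ∩ S m).card ≠ 2 := by
        intro n hn
        by_cases hcn : (S n ∩ S m).card = 2
        · refine Or.inl (Finset.eq_of_subset_of_card_le (fun x hx => Finset.mem_erase.2
            ⟨fun e => hiW (hn (e ▸ (Finset.mem_inter.1 hx).1)), (Finset.mem_inter.1 hx).2⟩) ?_)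
          rw [Finset.card_erase_of_mem hi, hcard, hcn]
        · exact Or.inr hcn
      have e0 := (hsub 0 Finset.subset_union_left).resolve_right (fun h => h h0)
      have e1 := (hsub 1 Finset.subset_union_right).resolve_right (fun h => h h1)
      have e2 := (hsub l hsubl).resolve_right (fun h => h h2)
      have hE : (S m).erase i = P := Finset.eq_of_subset_of_card_le (fun x hx => by
          refine Finset.mem_inter.2 ⟨?_, ?_⟩
          · rw [← e0] at hx; exact (Finset.mem_inter.1 hx).1
          · rw [← e1] at hx; exact (Finset.mem_inter.1 hx).1)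
        (by rw [hP, Finset.card_erase_of_mem hi, hcard])
      exact hl (hE ▸ e2 ▸ Finset.inter_subset_left)
    obtain ⟨j, -, k, -, hjk, he⟩ := Finset.exists_ne_map_eq_of_card_lt_of_maps_to
      (s := (Finset.univ : Finset (Fin 5))) (t := W.powersetCard 3) (f := S)
      (by rw [Finset.card_powersetCard, hW]; decide)
      (fun m _ => Finset.mem_powersetCard.2 ⟨hsub m, hcard m⟩)
    have := (hinter j k hjk).1
    rw [he, Finset.inter_self, hcard] at this
    omega
  obtain ⟨p, q, hpq, hPeq⟩ := Finset.card_eq_two.1 hP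
  have hextra : ∀ j, ∃ i, S j \ P = {i} := fun j => Finset.card_eq_one.1 (by
    rw [Finset.card_sdiff_of_subset (hall j), hcard, hP])
  choose e he using hextra
  have hp : p ∈ P := by rw [hPeq]; exact Finset.mem_insert_self _ _
  have hq : q ∈ P := by rw [hPeq]; exact Finset.mem_insert_of_mem (Finset.mem_singleton_self _)
  have hej : ∀ j, e j ∈ S j ∧ e j ∉ P := fun j => Finset.mem_sdiff.1 (he j ▸ Finset.mem_singleton_self _)
  have hpm : ∀ j i, i ∈ S j → A j i = 1 ∨ A j i = -1 := fun j i hi => by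
    obtain ⟨his, hne⟩ := (hmem j i).1 hi
    rcases hval j i his with e | e | e
    · exact Or.inr e
    · exact absurd e hne
    · exact Or.inl e
  have heq : ∀ j, ∀ i ∈ P, A j i = A 0 i := fun j i hi => by
    by_cases hj : j = 0
    · rw [hj]
    · exact (hinter j 0 hj).2 i (Finset.mem_inter.2 ⟨hall j hi, hall 0 hi⟩)
  refine ⟨p, ((hmem 0 p).1 (hall 0 hp)).1, q, ((hmem 0 q).1 (hall 0 hq)).1, e,
    fun j => ((hmem j _).1 (hej j).1).1, ?_, hpq,
    fun j => ⟨fun h => (hej j).2 (h ▸ hp), fun h => (hej j).2 (h ▸ hq)⟩,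
    fun j => ⟨heq j p hp, heq j q hq⟩,
    fun j => ⟨hpm j p (hall j hp), hpm j q (hall j hq), hpm j _ (hej j).1⟩, ?_⟩
  · intro j k hjk
    by_contra hne
    have hcrd := (hinter j k hne).1
    have hsub : insert (e j) P ⊆ S j ∩ S k := Finset.insert_subset
      (Finset.mem_inter.2 ⟨(hej j).1, hjk ▸ (hej k).1⟩) (Finset.subset_inter (hall j) (hall k))
    have := Finset.card_le_card hsub
    rw [Finset.card_insert_of_notMem (hej j).2, hP, hcrd] at this
    omega
  · intro j i his hip hiq hie
    by_contra h0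
    have hi : i ∈ S j \ P := Finset.mem_sdiff.2 ⟨(hmem j i).2 ⟨his, h0⟩, fun hP' => by
      rw [hPeq] at hP'
      simp [hip, hiq] at hP'⟩
    rw [he j, Finset.mem_singleton] at hi
    exact hie hi

theorem sum_three {R : Type*} [AddCommMonoid R] (s : Finset ι) (f : ι → R) {p q r : ι} (hp : p ∈ s)
    (hq : q ∈ s) (hr : r ∈ s) (hpq : p ≠ q) (hrp : r ≠ p) (hrq : r ≠ q)
    (h0 : ∀ i ∈ s, i ≠ p → i ≠ q → i ≠ r → f i = 0) : ∑ i ∈ s, f i = f p + f q + f r := by
  rw [← Finset.sum_subset (s₁ := {p, q, r}) (by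
    intro i hi
    simp only [Finset.mem_insert, Finset.mem_singleton] at hi
    rcases hi with rfl | rfl | rfl <;> assumption) (fun i hi hn => by
    simp only [Finset.mem_insert, Finset.mem_singleton, not_or] at hn
    exact h0 i hi hn.1 hn.2.1 hn.2.2)]
  rw [Finset.sum_insert (by simp [hpq, Ne.symm hrp]), Finset.sum_pair (Ne.symm hrq), add_assoc]

/-- The two numerical cases. -/
theorem one_final {Dp Dq De : ℤ} {k : Fin 2}
    (hp : (![1, 3] k : ℤ) < |Dp|) (hq : 1 < |Dq|) (he : (![3, 1] k : ℤ) < |De|)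
    (cp : (64 : ℤ) ∣ Dp + ![63, 51] k) (cq : (64 : ℤ) ∣ Dq + 63)
    (ce : (64 : ℤ) ∣ De + ![3, 15] k)
    (h : 1 + ((![1, 9] k : ℤ) : ℚ) / Dp + 1 / (Dq : ℚ) + ((![9, 1] k : ℤ) : ℚ) / De = 0) :
    False := by
  have hq' : (63 : ℤ) ≤ |Dq| := by
    rcases abs_cases Dq with ⟨e, -⟩ | ⟨e, -⟩ <;> rw [e] at hq ⊢ <;> omega
  have b2 := bound_quot (k := 1) (D := Dq) (m := 63) (by norm_num) (by norm_num) (by exact_mod_cast hq')
  fin_cases k
  · simp at hp he cp ce h
    have h1 : (63 : ℤ) ≤ |Dp| := by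
      rcases abs_cases Dp with ⟨e, -⟩ | ⟨e, -⟩ <;> rw [e] at hp ⊢ <;> omega
    have h3 : (61 : ℤ) ≤ |De| := by
      rcases abs_cases De with ⟨e, -⟩ | ⟨e, -⟩ <;> rw [e] at he ⊢ <;> omega
    have b1 := bound_quot (k := 1) (D := Dp) (m := 63) (by norm_num) (by norm_num) (by exact_mod_cast h1)
    have b3 := bound_quot (k := 9) (D := De) (m := 61) (by norm_num) (by norm_num) (by exact_mod_cast h3)
    simp only [one_div, Int.cast_one, Nat.cast_ofNat, Int.cast_ofNat] at b1 b2 b3 h
    linarith
  · simp at hp he cp ce h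
    have h1 : (13 : ℤ) ≤ |Dp| := by
      rcases abs_cases Dp with ⟨e, -⟩ | ⟨e, -⟩ <;> rw [e] at hp ⊢ <;> omega
    have h3 : (15 : ℤ) ≤ |De| := by
      rcases abs_cases De with ⟨e, -⟩ | ⟨e, -⟩ <;> rw [e] at he ⊢ <;> omega
    have b1 := bound_quot (k := 9) (D := Dp) (m := 13) (by norm_num) (by norm_num) (by exact_mod_cast h1)
    have b3 := bound_quot (k := 1) (D := De) (m := 15) (by norm_num) (by norm_num) (by exact_mod_cast h3)
    simp only [one_div, Int.cast_one, Nat.cast_ofNat, Int.cast_ofNat] at b1 b2 b3 h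
    linarith

set_option maxHeartbeats 1000000 in
/-- The system of the case `C(z) = O * S` has no solution: `a` is the column of the involution,
`c` the five columns of elements of order four, `d` the degrees. -/
theorem one_arith [Fintype ι] (t : ι) (a d : ι → ℤ) (c : Fin 5 → ι → ℤ)
    (ht : a t = 1 ∧ d t = 1 ∧ ∀ j, c j t = 1)
    (hlt : ∀ i, i ≠ t → |a i| < d i)
    (hcc : ∀ j k, ∑ i, c j i * c k i = if j = k then 16 else 0)
    (haa : ∑ i, a i * a i = 64) (hac : ∀ j, ∑ i, a i * c j i = 0)
    (h64 : ∀ i, (64 : ℤ) ∣ d i + 3 * a i + 12 * ∑ j, c j i)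
    (h16 : ∀ i, (16 : ℤ) ∣ d i - a i)
    (h4 : ∀ i j, (4 : ℤ) ∣ (∑ l, c l i) - c j i)
    (hquot : ∀ j, ∑ i, (c j i : ℚ) * (a i : ℚ) ^ 2 / (d i : ℚ) = 0) : False := by
  classical
  set C : ι → ℤ := fun i => ∑ l, c l i with hCdef
  have hU4 : ∀ i, (4 : ℤ) ∣ C i - a i := fun i => by
    have h1 := h64 i
    have h2 := h16 i
    change (64 : ℤ) ∣ d i + 3 * a i + 12 * C i at h1
    omega
  choose U hU using hU4
  choose A hA using fun j i => h4 i j
  have hA' : ∀ j i, 4 * A j i = C i - c j i := fun j i => (hA j i).symm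
  have hU' : ∀ i, 4 * U i = C i - a i := fun i => (hU i).symm
  have hCc : ∀ j, ∑ i, C i * c j i = 16 := fun j => by
    simp only [hCdef, Finset.sum_mul]
    rw [Finset.sum_comm, Finset.sum_congr rfl fun l _ => hcc l j]
    simp
  have hCC : ∑ i, C i * C i = 80 := by
    calc ∑ i, C i * C i = ∑ i, ∑ j, C i * c j i :=
          Finset.sum_congr rfl fun i _ => by rw [← Finset.mul_sum]
      _ = 80 := by rw [Finset.sum_comm, Finset.sum_congr rfl fun j _ => hCc j]; simp
  have hCa : ∑ i, C i * a i = 0 := by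
    calc ∑ i, C i * a i = ∑ i, ∑ j, a i * c j i :=
          Finset.sum_congr rfl fun i _ => by rw [← Finset.mul_sum, mul_comm]
      _ = 0 := by rw [Finset.sum_comm, Finset.sum_congr rfl fun j _ => hac j]; simp
  have hAA : ∀ j k, ∑ i, A j i * A k i = if j = k then 4 else 3 := by
    intro j k
    have h : 16 * ∑ i, A j i * A k i = (80 : ℤ) - 16 - 16 + if j = k then 16 else 0 := by
      calc 16 * ∑ i, A j i * A k i = ∑ i, (C i * C i - C i * c j i - C i * c k i + c j i * c k i) := by
            rw [Finset.mul_sum]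
            refine Finset.sum_congr rfl fun i _ => ?_
            linear_combination (4 * A k i) * hA' j i + (C i - c j i) * hA' k i
        _ = _ := by
            rw [Finset.sum_add_distrib, Finset.sum_sub_distrib, Finset.sum_sub_distrib, hCC, hCc,
              hCc, hcc]
    split_ifs at h ⊢ <;> omega
  have hAU : ∀ j, ∑ i, A j i * U i = 4 := by
    intro j
    have h : 16 * ∑ i, A j i * U i = (80 : ℤ) - 16 - 0 + 0 := by
      calc 16 * ∑ i, A j i * U i = ∑ i, (C i * C i - C i * c j i - C i * a i + a i * c j i) := by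
            rw [Finset.mul_sum]
            refine Finset.sum_congr rfl fun i _ => ?_
            linear_combination (4 * U i) * hA' j i + (C i - c j i) * hU' i
        _ = _ := by
            rw [Finset.sum_add_distrib, Finset.sum_sub_distrib, Finset.sum_sub_distrib, hCC, hCc,
              hCa, hac]
    omega
  have hUU : ∑ i, U i * U i = 9 := by
    have h : 16 * ∑ i, U i * U i = (80 : ℤ) - 0 - 0 + 64 := by
      calc 16 * ∑ i, U i * U i = ∑ i, (C i * C i - C i * a i - C i * a i + a i * a i) := by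
            rw [Finset.mul_sum]
            refine Finset.sum_congr rfl fun i _ => ?_
            linear_combination (4 * U i + (C i - a i)) * hU' i
        _ = _ := by
            rw [Finset.sum_add_distrib, Finset.sum_sub_distrib, Finset.sum_sub_distrib, hCC, hCa, haa]
    omega
  have hCt : C t = 5 := by simp [hCdef, ht.2.2]
  have hAt : ∀ j, A j t = 1 := fun j => by have := hA' j t; rw [hCt, ht.2.2] at this; omega
  have hUt : U t = 1 := by have := hU' t; rw [hCt, ht.1] at this; omega
  set s := (Finset.univ : Finset ι).erase t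
  have hts : ∀ f : ι → ℤ, ∑ i, f i = f t + ∑ i ∈ s, f i := fun f =>
    (Finset.add_sum_erase _ f (Finset.mem_univ t)).symm
  obtain ⟨p, hps, q, hqs, e, hes, hinj, hpq, hne, hsame, hpm, hzero⟩ := five_sunflower s A (by
    intro j k
    have h := hAA j k
    rw [hts, hAt, hAt] at h
    split_ifs at h ⊢ <;> omega)
  set X := A 0 p * U p
  set Y := A 0 q * U q
  have hAU' : ∀ j, X + Y + A j (e j) * U (e j) = 3 := by
    intro j
    have h := hAU j
    rw [hts, hAt, hUt] at h
    rw [sum_three s _ hps hqs (hes j) hpq (hne j).1 (hne j).2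
      (fun i hi h1 h2 h3 => by rw [hzero j i hi h1 h2 h3, zero_mul]), (hsame j).1, (hsame j).2] at h
    simp only [X, Y]
    linarith
  set τ := A 0 (e 0) * U (e 0)
  have htau : ∀ j, A j (e j) * U (e j) = τ := fun j => by have := hAU' j; have := hAU' 0; omega
  have hsq : ∀ {x y : ℤ}, (x = 1 ∨ x = -1) → (x * y) * (x * y) = y * y := by
    intro x y hx; rcases hx with rfl | rfl <;> ring
  have hnorm : X * X + Y * Y + 5 * (τ * τ) ≤ 8 := by
    have h := hUU
    rw [hts, hUt] at h
    set T : Finset ι := insert p (insert q (Finset.univ.image e))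
    have hTs : T ⊆ s := by
      intro i hi
      simp only [T, Finset.mem_insert, Finset.mem_image, Finset.mem_univ, true_and] at hi
      rcases hi with rfl | rfl | ⟨j, rfl⟩
      exacts [hps, hqs, hes j]
    have hle := Finset.sum_le_sum_of_subset_of_nonneg (f := fun i => U i * U i) hTs
      (fun i _ _ => mul_self_nonneg _)
    rw [Finset.sum_insert (by simp [hpq, fun j => (hne j).1]),
      Finset.sum_insert (by simp [fun j => (hne j).2]), Finset.sum_image hinj.injOn,
      Finset.sum_congr rfl (g := fun _ => τ * τ) (fun j _ => by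
        rw [← htau j, hsq (hpm j).2.2]), Finset.sum_const] at hle
    simp at hle
    rw [show X * X = U p * U p from hsq (hpm 0).1, show Y * Y = U q * U q from hsq (hpm 0).2.1]
    linarith
  have hτ : τ = -1 ∨ τ = 0 ∨ τ = 1 := sq_le_three (by
    nlinarith [mul_self_nonneg X, mul_self_nonneg Y])
  have hXY : X + Y + τ = 3 := hAU' 0
  -- the reciprocal equation
  have hrec : (1 : ℚ) + ((A 0 p : ℚ) * (a p : ℚ) ^ 2 / d p) + ((A 0 q : ℚ) * (a q : ℚ) ^ 2 / d q) +
      ((A 0 (e 0) : ℚ) * (a (e 0) : ℚ) ^ 2 / d (e 0)) = 0 := by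
    have h : ∑ i, (A 0 i : ℚ) * (a i : ℚ) ^ 2 / (d i : ℚ) = 0 := by
      have e4 : ∀ i, (A 0 i : ℚ) = (1 / 4) * ((∑ l, (c l i : ℚ)) - (c 0 i : ℚ)) := fun i => by
        have := congrArg (fun x : ℤ => (x : ℚ)) (hA' 0 i)
        simp only [hCdef, Int.cast_mul, Int.cast_ofNat, Int.cast_sub, Int.cast_sum] at this
        linarith
      calc ∑ i, (A 0 i : ℚ) * (a i : ℚ) ^ 2 / (d i : ℚ)
          = ∑ i, (1 / 4 : ℚ) * ((∑ l, (c l i : ℚ) * (a i : ℚ) ^ 2 / (d i : ℚ)) -
              (c 0 i : ℚ) * (a i : ℚ) ^ 2 / (d i : ℚ)) := Finset.sum_congr rfl fun i _ => by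
            rw [e4, ← Finset.sum_div, ← Finset.sum_mul]; ring
        _ = 0 := by
            rw [← Finset.mul_sum, Finset.sum_sub_distrib, Finset.sum_comm,
              Finset.sum_congr rfl fun l _ => hquot l, hquot 0]
            simp
    rw [← Finset.add_sum_erase _ _ (Finset.mem_univ t), hAt, ht.1, ht.2.1,
      sum_three s _ hps hqs (hes 0) hpq (hne 0).1 (hne 0).2
        (fun i hi h1 h2 h3 => by rw [hzero 0 i hi h1 h2 h3]; simp)] at h
    push_cast at h
    linarith
  -- the values in the three rows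
  have hCp : ∀ i, C i = ∑ j, A j i := fun i => by
    have h : 4 * ∑ j, A j i = 5 * C i - C i := by
      calc 4 * ∑ j, A j i = ∑ j, (C i - c j i) := by
            rw [Finset.mul_sum]; exact Finset.sum_congr rfl fun j _ => hA' j i
        _ = _ := by rw [Finset.sum_sub_distrib]; simp [hCdef]
    omega
  have hrowP : ∀ r, (r = p ∨ r = q) → C r = 5 * A 0 r := by
    intro r hr
    rw [hCp r, Finset.sum_congr rfl (g := fun _ => A 0 r) (fun j _ => by
      rcases hr with rfl | rfl
      exacts [(hsame j).1, (hsame j).2])]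
    simp
  have hrowE : C (e 0) = A 0 (e 0) := by
    rw [hCp, Finset.sum_eq_single (0 : Fin 5)]
    · intro j _ hj
      exact hzero j _ (hes 0) (hne 0).1 (hne 0).2 fun h => hj (hinj h).symm
    · simp
  have hsgn : ∀ {x y : ℤ}, (x = 1 ∨ x = -1) → x * (x * y) = y := by
    intro x y hx; rcases hx with rfl | rfl <;> ring
  -- signed degrees
  have key : ∀ r ∈ s, ∀ (m K : ℤ), (A 0 r = 1 ∨ A 0 r = -1) → C r = m * A 0 r →
      A 0 r * U r = K → |m - 4 * K| < |A 0 r * d r| ∧
        (64 : ℤ) ∣ A 0 r * d r + 3 * (m - 4 * K) + 12 * m ∧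
        (A 0 r : ℚ) * (a r : ℚ) ^ 2 / d r = (((m - 4 * K) ^ 2 : ℤ) : ℚ) / ((A 0 r * d r : ℤ) : ℚ) := by
    intro r hr m K hx hC hK
    have hrt : r ≠ t := (Finset.mem_erase.1 hr).1
    have ha : a r = A 0 r * (m - 4 * K) := by
      have h := hU' r
      rw [hC] at h
      rcases hx with e | e <;> rw [e] at h hK ⊢ <;> linarith
    have h := hlt r hrt
    have h' := h64 r
    change (64 : ℤ) ∣ d r + 3 * a r + 12 * C r at h'
    rw [hC, ha] at h'
    rw [ha, abs_mul] at h
    rcases hx with e | e <;> rw [e] at h h' ha ⊢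
    · refine ⟨by rw [one_mul]; simpa using lt_of_lt_of_le h (le_abs_self _), by
        simpa using h', ?_⟩
      rw [ha]; push_cast; ring
    · refine ⟨by
        rw [neg_one_mul, abs_neg]
        simpa using lt_of_lt_of_le h (le_abs_self _), ?_, ?_⟩
      · have := h'.neg_right
        refine (Int.dvd_iff_emod_eq_zero).2 ?_
        omega
      · rw [ha]; push_cast; ring
  obtain ⟨hp1, hp2, hp3⟩ := key p hps 5 X (hpm 0).1 (hrowP p (Or.inl rfl)) rfl
  obtain ⟨hq1, hq2, hq3⟩ := key q hqs 5 Y (hpm 0).2.1 (hrowP q (Or.inr rfl)) rfl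
  obtain ⟨he1, he2, he3⟩ := key (e 0) (hes 0) 1 τ (hpm 0).2.2 (by rw [hrowE, one_mul]) rfl
  rw [hp3, hq3, he3] at hrec
  rcases hτ with hτ | hτ | hτ
  · nlinarith [mul_self_nonneg (X - Y)]
  · have hX2 : X * X ≤ 8 := by nlinarith [mul_self_nonneg Y]
    have hXl : -3 < X ∧ X < 3 := ⟨by nlinarith, by nlinarith⟩
    have hY2 : Y * Y ≤ 8 := by nlinarith [mul_self_nonneg X]
    have hYl : -3 < Y ∧ Y < 3 := ⟨by nlinarith, by nlinarith⟩
    have : X = 2 ∧ Y = 1 ∨ X = 1 ∧ Y = 2 := by omega
    rcases this with ⟨hX, hY⟩ | ⟨hX, hY⟩ <;>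
      rw [hX] at hp1 hp2 hrec <;> rw [hY] at hq1 hq2 hrec <;> rw [hτ] at he1 he2 hrec
    · refine one_final (k := 1) (Dp := A 0 p * d p) (Dq := A 0 q * d q) (De := A 0 (e 0) * d (e 0))
        (by simpa using hp1) (by simpa using hq1) (by simpa using he1) (by simp; omega)
        (by omega) (by simp; omega) ?_
      simp at hrec ⊢
      linarith
    · refine one_final (k := 1) (Dp := A 0 q * d q) (Dq := A 0 p * d p) (De := A 0 (e 0) * d (e 0))
        (by simpa using hq1) (by simpa using hp1) (by simpa using he1) (by simp; omega)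
        (by omega) (by simp; omega) ?_
      simp at hrec ⊢
      linarith
  · have hX2 : X * X ≤ 3 := by nlinarith [mul_self_nonneg Y]
    have hXl : -2 < X ∧ X < 2 := ⟨by nlinarith, by nlinarith⟩
    have hY2 : Y * Y ≤ 3 := by nlinarith [mul_self_nonneg X]
    have hYl : -2 < Y ∧ Y < 2 := ⟨by nlinarith, by nlinarith⟩
    have hX : X = 1 := by omega
    have hY : Y = 1 := by omega
    rw [hX] at hp1 hp2 hrec
    rw [hY] at hq1 hq2 hrec
    rw [hτ] at he1 he2 hrec
    refine one_final (k := 0) (Dp := A 0 p * d p) (Dq := A 0 q * d q) (De := A 0 (e 0) * d (e 0))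
      (by simpa using hp1) (by simpa using hq1) (by simpa using he1) (by simp; omega)
      (by omega) (by simp; omega) ?_
    simp at hrec ⊢
    linarith

end CfsgLib.Invol.UThreeFour
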