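import Cfsg.Agent.Lib.Invol.UThreeFour.OneLocal
import Cfsg.Agent.Lib.Invol.UThreeFour.OneArith
import Cfsg.Agent.Lib.Invol.SectionChar
import Cfsg.Agent.Lib.Block.PrincipalSection
import Cfsg.Agent.Lib.Block.Orthogonality
import Cfsg.Agent.Lib.BlockB.PModular
import Cfsg.Agent.Lib.BlockB.ClassMul
import Cfsg.Agent.Lib.BlockB.FrobPrincipalThree
import Cfsg.Agent.Lib.InvChar.LThreeFour.Count
import Cfsg.Agent.Lib.Char.Diag

/-!
The case `C(z) = O(C(z)) * S` for a Sylow 2-subgroup of type PSU(3,4) is impossible.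
-/

set_option autoImplicit false
set_option linter.unusedSectionVars false
set_option linter.style.haveILetI false

namespace CfsgLib.Invol.UThreeFour

universe u

open Cfsg Subgroup
open scoped ComplexConjugate

namespace One

variable {G : Type u} [Group G] [Finite G] (D : LocOne G)

/-- The centralizer of the involution. -/
abbrev CH : Subgroup G := centralizer ({D.z} : Set G)

/-- Its core. -/
abbrev KO : Subgroup ↥(CH D) := Cfsg.pPrimeCore 2 ↥(CH D)

instance KO_normal : (KO D).Normal := CfsgLib.Solvable.pPrimeCore_normal 2 _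

theorem odd_KO : Odd (Nat.card (KO D)) := by
  have := CfsgLib.Solvable.pPrimeCore_coprime (G := ↥(CH D)) 2
  rwa [Nat.coprime_two_right] at this

theorem x_cent {R : Reps D} (j : Fin 5) :
    centralizer ({R.x j} : Set G) ≤ CH D := fun g hg => by
  rw [mem_centralizer_singleton_iff] at hg ⊢
  rw [← R.sq j, ← mul_assoc, hg, mul_assoc, hg, ← mul_assoc]

theorem decomp (g : CH D) : ∃ o : CH D, o ∈ KO D ∧ ∃ (s : G) (hs : s ∈ (D.S : Subgroup G)),
    g = o * ⟨s, D.le_cent hs⟩ := by
  have hle : Cfsg.centralizerPPrimeCore 2 D.z ⊔ (D.S : Subgroup G) ≤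
      ((KO D) ⊔ (D.S : Subgroup G).subgroupOf (CH D)).map (CH D).subtype := by
    rw [Subgroup.map_sup, Subgroup.subgroupOf_map_subtype, inf_eq_left.2 D.le_cent]
    exact le_rfl
  obtain ⟨g', hg', e⟩ := hle (D.cent_core g.2)
  obtain rfl : g' = g := Subtype.ext e
  obtain ⟨o, ho, t, ht, e'⟩ := mem_sup_of_normal_left.1 hg'
  exact ⟨o, ho, t, ht, e'.symm⟩

theorem inf_trivial {g : CH D} (hg : g ∈ KO D) (hS : (g : G) ∈ (D.S : Subgroup G)) : g = 1 :=
  Subtype.ext (UShape.core_inter (z := D.z) (P := D.S) ⟨g, hg, rfl⟩ hS)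

theorem compl_CH : Cfsg.HasNormalPComplement 2 (CH D) := by
  haveI : Fact (Nat.Prime 2) := ⟨Nat.prime_two⟩
  refine CfsgLib.Transfer.hasNormalPComplement_iff_exists.2
    ⟨KO D, inferInstance, CfsgLib.Solvable.pPrimeCore_coprime 2, fun q => ?_⟩
  obtain ⟨g, rfl⟩ := QuotientGroup.mk'_surjective (KO D) q
  obtain ⟨o, ho, s, hs, rfl⟩ := decomp D g
  refine ⟨6, ?_⟩
  rw [map_mul, show QuotientGroup.mk' (KO D) o = 1 from (QuotientGroup.eq_one_iff _).2 ho, one_mul,
    ← map_pow]
  have h : (⟨s, D.le_cent hs⟩ : CH D) ^ 2 ^ 6 = 1 := Subtype.ext (by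
    have h1 := pow_card_eq_one' (G := (D.S : Subgroup G)) (x := ⟨s, hs⟩)
    rw [D.shape.cardS] at h1
    rw [show (2 : ℕ) ^ 6 = 64 by norm_num]
    simpa using congrArg Subtype.val h1)
  rw [h, map_one]

theorem factorization_CH : (Nat.card (CH D)).factorization 2 = 6 := by
  haveI : Fact (Nat.Prime 2) := ⟨Nat.prime_two⟩
  have hG : (Nat.card G).factorization 2 = 6 := by
    have h := D.S.card_eq_multiplicity
    rw [show Nat.card D.S = 2 ^ 6 from D.shape.cardS] at h
    exact (Nat.pow_right_injective le_rfl h).symm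
  refine le_antisymm (hG ▸ (Nat.factorization_le_iff_dvd Nat.card_pos.ne' Nat.card_pos.ne').2
    (Subgroup.card_subgroup_dvd_card _) 2) ?_
  refine (Nat.prime_two.pow_dvd_iff_le_factorization Nat.card_pos.ne').1 ?_
  have := Subgroup.card_dvd_of_le D.le_cent
  rwa [D.shape.cardS] at this

theorem factorization_x {R : Reps D} (j : Fin 5) :
    (Nat.card (centralizer ({R.x j} : Set G))).factorization 2 = 4 := by
  classical
  haveI : Fact (Nat.Prime 2) := ⟨Nat.prime_two⟩
  set C := centralizer ({R.x j} : Set G)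
  set f := (QuotientGroup.mk' (KO D)).comp (Subgroup.inclusion (x_cent D (R := R) j)) with hf
  have hker : Odd (Nat.card f.ker) := by
    refine (odd_KO D).of_dvd_nat (Subgroup.card_dvd_of_injective
      ({ toFun := fun g => ⟨Subgroup.inclusion (x_cent D (R := R) j) g.1,
          (QuotientGroup.eq_one_iff _).1 (MonoidHom.mem_ker.1 g.2)⟩
         map_one' := rfl
         map_mul' := fun _ _ => rfl } : f.ker →* KO D) fun a b h => ?_)
    exact Subtype.ext (Subgroup.inclusion_injective _ (congrArg (fun w : KO D => (w : CH D)) h))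
  set T := ((D.S : Subgroup G) ⊓ C).subgroupOf C with hT
  have hTc : Nat.card T = 16 := by
    rw [hT, Nat.card_congr (subgroupOfEquivOfLe inf_le_right).toEquiv]
    exact D.shape.cent16 _ (R.mem j) (x_not_Z R j)
  have hinj : Function.Injective (f.comp T.subtype) := by
    rw [← MonoidHom.ker_eq_bot_iff, Subgroup.eq_bot_iff_forall]
    intro t ht
    have h1 := inf_trivial D ((QuotientGroup.eq_one_iff _).1 (MonoidHom.mem_ker.1 ht))
      ((mem_inf.1 t.2).1)
    exact Subtype.ext (Subtype.ext (congrArg (fun g : CH D => (g : G)) h1))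
  have hrange : f.range = (f.comp T.subtype).range := by
    refine le_antisymm ?_ (fun q ⟨t, ht⟩ => ⟨_, ht⟩)
    rintro _ ⟨g, rfl⟩
    obtain ⟨o, ho, s, hs, e⟩ := decomp D (Subgroup.inclusion (x_cent D (R := R) j) g)
    have hxs : s * R.x j = R.x j * s := by
      have hmk : QuotientGroup.mk' (KO D) (⟨s, D.le_cent hs⟩ * ⟨R.x j, D.le_cent (R.mem j)⟩) =
          QuotientGroup.mk' (KO D) (⟨R.x j, D.le_cent (R.mem j)⟩ * ⟨s, D.le_cent hs⟩) := by
        have hg : (Subgroup.inclusion (x_cent D (R := R) j) g) * ⟨R.x j, D.le_cent (R.mem j)⟩ =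
            ⟨R.x j, D.le_cent (R.mem j)⟩ * Subgroup.inclusion (x_cent D (R := R) j) g :=
          Subtype.ext (mem_centralizer_singleton_iff.1 g.2)
        have h := congrArg (QuotientGroup.mk' (KO D)) hg
        rw [map_mul, map_mul, e, map_mul,
          show QuotientGroup.mk' (KO D) o = 1 from (QuotientGroup.eq_one_iff _).2 ho, one_mul] at h
        rw [map_mul, map_mul]
        exact h
      have h1 := inf_trivial D (QuotientGroup.eq.1 hmk) (by
        exact mul_mem (inv_mem (mul_mem hs (R.mem j))) (mul_mem (R.mem j) hs))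
      exact inv_mul_eq_one.1 (congrArg (fun g : CH D => (g : G)) h1)
    refine ⟨⟨⟨s, mem_centralizer_singleton_iff.2 hxs⟩, mem_inf.2 ⟨hs, mem_centralizer_singleton_iff.2 hxs⟩⟩, ?_⟩
    show QuotientGroup.mk' (KO D) _ = QuotientGroup.mk' (KO D) _
    rw [e, map_mul, show QuotientGroup.mk' (KO D) o = 1 from (QuotientGroup.eq_one_iff _).2 ho, one_mul]
    rfl
  have hcard : Nat.card C = Nat.card f.ker * 16 := by
    rw [← f.ker.card_mul_index, Subgroup.index_ker, hrange,
      ← Nat.card_congr (MonoidHom.ofInjective hinj).toEquiv, hTc]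
  rw [hcard, Nat.factorization_mul Nat.card_pos.ne' (by norm_num), Finsupp.add_apply,
    Nat.factorization_eq_zero_of_not_dvd (fun h => Nat.not_even_iff_odd.2 hker (even_iff_two_dvd.2 h)),
    show (16 : ℕ) = 2 ^ 4 by norm_num, Nat.prime_two.factorization_pow, Finsupp.single_eq_same, zero_add]

theorem x_pow_four {R : Reps D} (j : Fin 5) : R.x j ^ 4 = 1 := by
  rw [show 4 = 2 * 2 from rfl, pow_mul, sq (R.x j), R.sq j, sq, invol_mul_self D.hz]

theorem x_orderOf {R : Reps D} (j : Fin 5) : orderOf (R.x j) = 4 := by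
  haveI : Fact (Nat.Prime 2) := ⟨Nat.prime_two⟩
  have := orderOf_eq_prime_pow (p := 2) (n := 1) (x := R.x j)
    (by rw [pow_one, sq, R.sq j]; exact z_ne_one D) (x_pow_four D j)
  simpa using this

theorem x_conj_inv {R : Reps D} (j : Fin 5) : IsConj (R.x j) (R.x j)⁻¹ := by
  obtain ⟨y, -, hy⟩ := D.shape.exists_conj_mul (R.mem j) (x_not_Z R j) D.hzZ
  refine isConj_iff.2 ⟨y, hy.trans (inv_eq_of_mul_eq_one_right ?_).symm⟩
  rw [← mul_assoc, R.sq j, invol_mul_self D.hz]

/-- Multiplicities of the trivial character on subgroups. -/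
theorem exists_mult {χ : G → ℂ} (hχ : IsCharacter G χ) (H : Subgroup G) [Fintype H] :
    ∃ k : ℕ, ∑ s : H, χ s = (Nat.card H : ℂ) * k := by
  obtain ⟨k, hk⟩ := CfsgLib.Char.classInner_isCharacter_nat (CfsgLib.Char.isCharacter_restrict hχ H)
    (CfsgLib.Char.irr_isCharacter (CfsgLib.Char.isIrrCharacter_one (G := H)))
  refine ⟨k, ?_⟩
  rw [← hk, CfsgLib.Char.classInner_def]
  simp only [map_one, mul_one]
  rw [← mul_assoc, mul_inv_cancel₀ (Nat.cast_ne_zero.2 Nat.card_pos.ne'), one_mul]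

/-- The irreducible characters of `S`. -/
theorem irr_S_sum [Fintype (D.Z.subgroupOf (D.S : Subgroup G))] (θ : IrrCharacter (D.S : Subgroup G)) :
    ∃ m : ℤ, 4 * (θ : ↥(D.S : Subgroup G) → ℂ) 1 -
      ∑ t : D.Z.subgroupOf (D.S : Subgroup G), (θ : ↥(D.S : Subgroup G) → ℂ) t = 16 * (m : ℂ) := by
  classical
  haveI := Fintype.ofFinite (D.S : Subgroup G)
  have hZc : Nat.card (D.Z.subgroupOf (D.S : Subgroup G)) = 4 :=
    (Nat.card_congr (subgroupOfEquivOfLe D.shape.le).toEquiv).trans D.shape.cardZ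
  have hcen : ∀ w ∈ D.Z.subgroupOf (D.S : Subgroup G), ∀ x : (D.S : Subgroup G), Commute w x := fun w hw x => Subtype.ext (D.shape.cen _ hw _ x.2)
  have hsgn : ∀ w ∈ D.Z.subgroupOf (D.S : Subgroup G), ∃ c : ℤ, (c = 1 ∨ c = -1) ∧
      ∀ g, (θ : ↥(D.S : Subgroup G) → ℂ) (w * g) = (c : ℂ) * (θ : ↥(D.S : Subgroup G) → ℂ) g :=
    fun w hw => central_invol_sign θ (hcen w hw) (Subtype.ext ((D.shape.invol _ w.2).2 hw))
  by_cases hk : ∀ t : D.Z.subgroupOf (D.S : Subgroup G), (θ : ↥(D.S : Subgroup G) → ℂ) t = (θ : ↥(D.S : Subgroup G) → ℂ) 1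
  · refine ⟨0, ?_⟩
    rw [Finset.sum_congr rfl fun t _ => hk t, Finset.sum_const, Finset.card_univ,
      ← Nat.card_eq_fintype_card, hZc, nsmul_eq_mul]
    norm_num
  push Not at hk
  obtain ⟨ζ, hζ⟩ := hk
  obtain ⟨c, hc, hcv⟩ := hsgn ζ ζ.2
  have hcm1 : c = -1 := hc.resolve_left fun h => hζ (by
    have := hcv 1; rwa [mul_one, h, Int.cast_one, one_mul] at this)
  subst hcm1
  have hsum0 : ∑ t : D.Z.subgroupOf (D.S : Subgroup G), (θ : ↥(D.S : Subgroup G) → ℂ) t = 0 := by
    have h := Fintype.sum_equiv (Equiv.mulLeft ζ) (fun t : D.Z.subgroupOf (D.S : Subgroup G) => (θ : ↥(D.S : Subgroup G) → ℂ) ((ζ * t : D.Z.subgroupOf (D.S : Subgroup G)) : (D.S : Subgroup G)))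
      (fun t : D.Z.subgroupOf (D.S : Subgroup G) => (θ : ↥(D.S : Subgroup G) → ℂ) t) (fun t => rfl)
    simp only [Subgroup.coe_mul, hcv] at h
    rw [← Finset.mul_sum] at h
    push_cast at h
    linear_combination (-1 / 2 : ℂ) * h
  -- vanishing off the centre
  have hzero : ∀ x : (D.S : Subgroup G), x ∉ D.Z.subgroupOf (D.S : Subgroup G) → (θ : ↥(D.S : Subgroup G) → ℂ) x = 0 := by
    intro x hx
    obtain ⟨y, hyS, hy⟩ := D.shape.exists_conj_mul (z := ((ζ : (D.S : Subgroup G)) : G)) x.2 (fun h => hx h) ζ.2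
    have h := CfsgLib.Char.irr_isClassFunction θ.2 x ⟨y, hyS⟩
    rw [show (⟨y, hyS⟩ : (D.S : Subgroup G)) * x * (⟨y, hyS⟩ : (D.S : Subgroup G))⁻¹ = (ζ : (D.S : Subgroup G)) * x from Subtype.ext (by
      show y * (x : G) * y⁻¹ = ((ζ : (D.S : Subgroup G)) : G) * x
      rw [hy]; exact (D.shape.cen _ ζ.2 _ x.2).symm), hcv] at h
    push_cast at h
    linear_combination (-1 / 2 : ℂ) * h
  obtain ⟨d, hd⟩ := CfsgLib.Char.char_apply_one_eq_nat (CfsgLib.Char.irr_isCharacter θ.2)
  have hd4 : d = 4 := by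
    have h := CfsgLib.Char.irr_classInner_self θ.2
    rw [CfsgLib.Char.classInner_def,
      ← Finset.sum_filter_of_ne (p := fun x : (D.S : Subgroup G) => x ∈ D.Z.subgroupOf (D.S : Subgroup G)) (fun x _ hne => by
        by_contra hx
        exact hne (by rw [hzero x hx, zero_mul])),
      Finset.sum_congr rfl (g := fun _ => (d : ℂ) * d) fun x hx => by
        obtain ⟨c, hc, hcv⟩ := hsgn x (Finset.mem_filter.1 hx).2
        have := hcv 1
        rw [mul_one] at this
        rcases hc with rfl | rfl <;> simp [this, hd],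
      Finset.sum_const, nsmul_eq_mul, ← Fintype.card_subtype, ← Nat.card_eq_fintype_card,
      show Nat.card {x : (D.S : Subgroup G) // x ∈ D.Z.subgroupOf (D.S : Subgroup G)} = 4 from hZc, D.shape.cardS] at h
    have h2 : (d : ℂ) * d = (4 * 4 : ℕ) := by push_cast at h ⊢; linear_combination 16 * h
    exact Nat.mul_self_inj.1 (by exact_mod_cast h2)
  refine ⟨1, ?_⟩
  rw [hsum0, hd, hd4]
  norm_num

theorem invert_false {R : Reps D} (j : Fin 5) {u : G} (hu : u * u = 1)
    (hux : u * R.x j * u⁻¹ = (R.x j)⁻¹) : False := by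
  set x := R.x j
  have hzi : D.z⁻¹ = D.z := inv_eq_of_mul_eq_one_right (invol_mul_self D.hz)
  have huC : u ∈ CH D := mem_centralizer_singleton_iff.2 (mul_inv_eq_iff_eq_mul.1 (by
    rw [← R.sq j, show u * (R.x j * R.x j) * u⁻¹ = (u * R.x j * u⁻¹) * (u * R.x j * u⁻¹) by group,
      hux, ← mul_inv_rev, R.sq j, hzi]))
  obtain ⟨o, ho, s, hs, e⟩ := decomp D ⟨u, huC⟩
  set π := QuotientGroup.mk' (KO D)
  have hπo : π o = 1 := (QuotientGroup.eq_one_iff _).2 ho
  set sH : CH D := ⟨s, D.le_cent hs⟩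
  set xH : CH D := ⟨x, D.le_cent (R.mem j)⟩
  have hπu : π ⟨u, huC⟩ = π sH := by rw [e, map_mul, hπo, one_mul]
  have hsq : s * s = 1 := by
    have h1 : π (sH * sH) = π 1 := by
      rw [map_mul, ← hπu, ← map_mul]; exact congrArg π (Subtype.ext hu)
    rw [map_one] at h1
    exact congrArg (fun g : CH D => (g : G))
      (inf_trivial D ((QuotientGroup.eq_one_iff _).1 h1) (mul_mem hs hs))
  have hsZ := (D.shape.invol s hs).1 hsq
  have h1 : π (sH * xH * sH⁻¹) = π xH⁻¹ := by
    rw [map_mul, map_mul, map_inv, ← hπu, ← map_inv, ← map_mul, ← map_mul]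
    exact congrArg π (Subtype.ext hux)
  rw [show sH * xH * sH⁻¹ = xH from Subtype.ext (by
    show s * x * s⁻¹ = x
    rw [D.shape.cen s hsZ x (R.mem j), mul_inv_cancel_right])] at h1
  have h2 : π (xH * xH) = 1 := by rw [map_mul]; nth_rewrite 2 [h1]; rw [map_inv, mul_inv_cancel]
  exact z_ne_one D (by
    rw [← R.sq j]
    exact congrArg (fun g : CH D => (g : G))
      (inf_trivial D ((QuotientGroup.eq_one_iff _).1 h2) (mul_mem (R.mem j) (R.mem j))))

theorem no_product {R : Reps D} (j : Fin 5) (t : G) :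
    ¬ IsConj (R.x j) (twoPart (D.z * (t * D.z * t⁻¹))) := by
  intro h
  set g := D.z * (t * D.z * t⁻¹) with hg
  set p := twoPart g
  have hz2 := invol_mul_self D.hz
  have hzi : D.z⁻¹ = D.z := inv_eq_of_mul_eq_one_right hz2
  have hginv : D.z * g * D.z⁻¹ = g⁻¹ := by
    rw [hg, hzi]
    calc D.z * (D.z * (t * D.z * t⁻¹)) * D.z = (D.z * D.z) * (t * D.z * t⁻¹) * D.z := by group
      _ = (t * D.z⁻¹ * t⁻¹) * D.z⁻¹ := by rw [hz2, one_mul, hzi]
      _ = _ := by rw [hzi]; simp [mul_inv_rev, hzi, mul_assoc]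
  have hp : D.z * p * D.z⁻¹ = p⁻¹ := by
    rw [← twoPart_conj, hginv]
    refine twoPart_eq ?_
    obtain ⟨y, hy, hc, ⟨k, hk⟩, hy'⟩ := twoPart_spec g
    exact ⟨y⁻¹, by rw [← mul_inv_rev, ← hc.eq, hy], hc.inv_inv, ⟨k, by rw [orderOf_inv, hk]⟩,
      by rwa [orderOf_inv]⟩
  obtain ⟨b, hb⟩ := isConj_iff.1 h
  refine invert_false D (R := R) j (u := b⁻¹ * D.z * b) ?_ ?_
  · rw [show b⁻¹ * D.z * b * (b⁻¹ * D.z * b) = b⁻¹ * (D.z * D.z) * b by group, hz2]; group
  · calc b⁻¹ * D.z * b * R.x j * (b⁻¹ * D.z * b)⁻¹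
        = b⁻¹ * (D.z * (b * R.x j * b⁻¹) * D.z⁻¹) * b := by group
      _ = b⁻¹ * p⁻¹ * b := by rw [hb, hp]
      _ = b⁻¹ * (b * R.x j * b⁻¹)⁻¹ * b := by rw [hb]
      _ = _ := by group

end One

set_option maxHeartbeats 1000000 in
/-- The case `C(z) = O(C(z)) * S` does not occur. -/
theorem LocOne.false {G : Type u} [Group G] [Finite G] (D : LocOne G) : False := by
  classical
  haveI : Fact (Nat.Prime 2) := ⟨Nat.prime_two⟩
  haveI : Fintype G := Fintype.ofFinite G
  haveI : Fintype (IrrCharacter G) := Fintype.ofFinite _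
  obtain ⟨R⟩ := One.exists_reps D
  obtain ⟨M, hM⟩ := BlockB.exists_isPModular Nat.prime_two
  have := CfsgLib.Block.isPrime_of_pmodular hM
  have hz2 : ∃ k : ℕ, orderOf D.z = 2 ^ k := ⟨1, by rw [D.hz, pow_one]⟩
  have hx2 : ∀ j, ∃ k : ℕ, orderOf (R.x j) = 2 ^ k := fun j => ⟨2, by rw [One.x_orderOf D j]; norm_num⟩
  obtain ⟨-, hnz⟩ := CfsgLib.Block.principal_section hM hz2 (One.compl_CH D)
  rw [One.factorization_CH D] at hnz
  have hnx : ∀ j, ∑ᶠ χ ∈ principalBlock M G, (χ : G → ℂ) (R.x j) * conj ((χ : G → ℂ) (R.x j)) =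
      ((2 ^ 4 : ℕ) : ℂ) := fun j => by
    rw [← One.factorization_x D (R := R) j]
    exact (CfsgLib.Block.principal_section hM (hx2 j) (CfsgLib.Transfer.hasNormalPComplement_of_injective
      (Subgroup.inclusion (One.x_cent D (R := R) j)) (Subgroup.inclusion_injective _) (One.compl_CH D))).2
  choose a ha using fun χ : IrrCharacter G => BlockB.FrobP.exists_int_apply_of_orderOf_two χ D.hz
  choose c hc using fun (χ : IrrCharacter G) (j : Fin 5) =>
    CfsgLib.InvChar.LThreeFour.exists_int_of_inv (CfsgLib.Char.irr_isCharacter χ.2)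
      (One.x_pow_four D (R := R) j) (One.x_conj_inv D j)
  set d : IrrCharacter G → ℤ := fun χ => (charDegree (χ : G → ℂ) : ℤ) with hd
  have hd1 : ∀ χ : IrrCharacter G, (χ : G → ℂ) 1 = (d χ : ℂ) := fun χ => by
    rw [← BlockB.irr_degree_cast, hd]; push_cast; rfl
  let ι := {χ : IrrCharacter G // χ ∈ principalBlock M G}
  have hsum : ∀ F : IrrCharacter G → ℂ, ∑ᶠ χ ∈ principalBlock M G, F χ = ∑ i : ι, F i.1 := fun F => by
    rw [← finsum_set_coe_eq_finsum_mem, finsum_eq_sum_of_fintype]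
  have horth : ∀ g h : G, (∃ k : ℕ, orderOf g = 2 ^ k) → (∃ k : ℕ, orderOf h = 2 ^ k) → ¬ IsConj g h →
      ∑ i : ι, (i.1 : G → ℂ) g * conj ((i.1 : G → ℂ) h) = 0 := fun g h hg hh hne => by
    rw [← hsum (fun χ => (χ : G → ℂ) g * conj ((χ : G → ℂ) h))]
    exact CfsgLib.Block.sum_block_eq_zero hM CfsgLib.Block.isPBlock_principalBlock
      (CfsgLib.Block.isPPart_self hg Nat.prime_two) (CfsgLib.Block.isPPart_self hh Nat.prime_two) hne
  set t : ι := ⟨CfsgLib.Block.trivIrr, CfsgLib.Block.one_mem_principalBlock⟩ with ht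
  -- sums over subgroups of `S`
  have hsub : ∀ (χ : IrrCharacter G) (H : Subgroup G) [Fintype H], D.Z ≤ H → H ≤ (D.S : Subgroup G) →
      ((Nat.card H : ℤ)) ∣ d χ + 3 * a χ + 4 * ∑ j,
        ((Finset.univ.filter fun m => One.rep R j m ∈ H).card : ℤ) * c χ j := by
    intro χ H _ hZH hHS
    obtain ⟨k, hk⟩ := One.exists_mult (CfsgLib.Char.irr_isCharacter χ.2) H
    rw [One.sum_sub R (CfsgLib.Char.irr_isClassFunction χ.2) hZH hHS, hd1 χ, ha χ] at hk
    simp only [hc] at hk
    exact ⟨k, by exact_mod_cast hk⟩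
  have hZ : ∀ χ : IrrCharacter G, 0 ≤ d χ + 3 * a χ := by
    intro χ
    haveI : Fintype D.Z := Fintype.ofFinite _
    obtain ⟨k, hk⟩ := One.exists_mult (CfsgLib.Char.irr_isCharacter χ.2) D.Z
    rw [One.sum_sub R (CfsgLib.Char.irr_isClassFunction χ.2) le_rfl D.shape.le, hd1 χ, ha χ,
      D.shape.cardZ] at hk
    have h0 : ∀ j, (Finset.univ.filter fun m => One.rep R j m ∈ D.Z).card = 0 := fun j => by
      rw [Finset.filter_false_of_mem fun m _ => One.rep_not_Z R j m, Finset.card_empty]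
    simp only [h0, Nat.cast_zero, zero_mul, Finset.sum_const_zero, mul_zero, add_zero] at hk
    have : d χ + 3 * a χ = 4 * (k : ℤ) := by exact_mod_cast hk
    omega
  have hlt : ∀ i : ι, i ≠ t → |a i.1| < d i.1 := by
    intro i hi
    obtain ⟨n, ρ, hirr, hρ⟩ := i.1.2
    have hdn : (d i.1 : ℂ) = (n : ℂ) := by
      rw [← hd1, ← hρ, Representation.char_one, Module.finrank_fintype_fun_eq_card, Fintype.card_fin]
    have hdn' : d i.1 = n := by exact_mod_cast hdn
    have hle : |a i.1| ≤ d i.1 := by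
      have h := CfsgLib.Char.norm_char_le ρ D.z
      rw [hρ, ha, Complex.norm_intCast, Module.finrank_fintype_fun_eq_card, Fintype.card_fin] at h
      rw [hdn']
      exact_mod_cast h
    rcases lt_or_eq_of_le hle with h | h
    · exact h
    exfalso
    have hpos : 0 < d i.1 := by
      have := BlockB.irr_degree_pos i.1
      simp only [hd]; exact_mod_cast this
    have haz : a i.1 = d i.1 := by
      rcases abs_choice (a i.1) with h' | h' <;> rw [h'] at h
      · exact h
      · have := hZ i.1; omega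
    have hk : D.z ∈ (MonoidHom.ker ρ : Subgroup G) := by
      rw [CfsgLib.Char.mem_ker_iff_char, hρ, ha, hd1, haz]
    have htop := D.normal_top _ inferInstance hk
    have hconst : ∀ g, (i.1 : G → ℂ) g = (d i.1 : ℂ) := fun g => by
      have : g ∈ (MonoidHom.ker ρ : Subgroup G) := htop ▸ mem_top g
      rw [CfsgLib.Char.mem_ker_iff_char, hρ, hd1] at this
      exact this
    have hone : d i.1 = 1 := by
      have h1 := CfsgLib.Char.irr_classInner_self i.1.2
      rw [CfsgLib.Char.classInner_def] at h1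
      simp only [hconst, map_intCast, Finset.sum_const, Finset.card_univ, nsmul_eq_mul,
        ← Nat.card_eq_fintype_card] at h1
      rw [← mul_assoc, inv_mul_cancel₀ (Nat.cast_ne_zero.2 Nat.card_pos.ne'), one_mul] at h1
      have h2 : d i.1 * d i.1 = 1 := by exact_mod_cast h1
      nlinarith
    exact hi (Subtype.ext (Subtype.ext (funext fun g => by rw [hconst, hone]; simp [ht, CfsgLib.Block.trivIrr])))
  refine one_arith t (fun i => a i.1) (fun i => d i.1) (fun j i => c i.1 j) ?_ hlt ?_ ?_ ?_ ?_ ?_ ?_ ?_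
  · have e : ∀ g, ((CfsgLib.Block.trivIrr : IrrCharacter G) : G → ℂ) g = 1 := fun g => rfl
    refine ⟨?_, ?_, fun j => ?_⟩
    · have := (ha t.1).symm.trans (e _); exact_mod_cast this
    · have := (hd1 t.1).symm.trans (e _); exact_mod_cast this
    · have := (hc t.1 j).symm.trans (e _); exact_mod_cast this
  · intro j k
    have h : ∑ i : ι, (i.1 : G → ℂ) (R.x j) * conj ((i.1 : G → ℂ) (R.x k)) =
        if j = k then 16 else 0 := by
      by_cases hjk : j = k
      · subst hjk
        rw [if_pos rfl, ← hsum (fun χ => (χ : G → ℂ) (R.x j) * conj ((χ : G → ℂ) (R.x j))), hnx j]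
        norm_num
      · rw [if_neg hjk]
        exact horth _ _ (hx2 j) (hx2 k) fun h => hjk (R.coset j k
          (D.not_fused _ (R.mem j) _ (R.mem k) (R.sq j) (R.sq k) h))
    simp only [hc, map_intCast] at h
    split_ifs at h ⊢ <;> exact_mod_cast h
  · have h := hnz
    rw [hsum (fun χ => (χ : G → ℂ) D.z * conj ((χ : G → ℂ) D.z))] at h
    simp only [ha, map_intCast] at h
    norm_num at h
    exact_mod_cast h
  · intro j
    have h := horth D.z (R.x j) hz2 (hx2 j) fun h => by
      have e : orderOf D.z = orderOf (R.x j) := by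
        obtain ⟨b, hb⟩ := isConj_iff.1 h
        rw [← hb, ← MulAut.conj_apply, MulEquiv.orderOf_eq]
      rw [D.hz, One.x_orderOf D j] at e
      omega
    simp only [ha, hc, map_intCast] at h
    exact_mod_cast h
  · intro i
    haveI : Fintype (D.S : Subgroup G) := Fintype.ofFinite _
    have h := hsub i.1 (D.S : Subgroup G) D.shape.le le_rfl
    rw [show Nat.card (D.S : Subgroup G) = 64 from D.shape.cardS] at h
    simp only [One.count_S R] at h
    push_cast at h
    rwa [← Finset.mul_sum, ← mul_assoc] at h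
  · intro i
    set S := (D.S : Subgroup G)
    haveI : Fintype S := Fintype.ofFinite _
    haveI : Fintype (IrrCharacter S) := Fintype.ofFinite _
    haveI : Fintype (D.Z.subgroupOf S) := Fintype.ofFinite _
    have hres := CfsgLib.Char.isCharacter_restrict (CfsgLib.Char.irr_isCharacter i.1.2) S
    choose n hn using fun θ : IrrCharacter S =>
      CfsgLib.Char.classInner_isCharacter_nat hres (CfsgLib.Char.irr_isCharacter θ.2)
    choose m hm using fun θ : IrrCharacter S => One.irr_S_sum D θ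
    have hexp := fun g => CfsgLib.Char.classFunction_apply_eq_sum
      (CfsgLib.Char.isCharacter_isClassFunction hres) (g : S)
    have hL : 4 * (i.1 : G → ℂ) 1 - ∑ s : D.Z.subgroupOf S, (i.1 : G → ℂ) ((s : S) : G) =
        16 * ((∑ θ : IrrCharacter S, (n θ : ℤ) * m θ : ℤ) : ℂ) := by
      simp only [hn] at hexp
      rw [show (i.1 : G → ℂ) 1 = _ from hexp 1, Finset.sum_congr rfl fun (s : D.Z.subgroupOf S) _ =>
        (hexp (s : S) : (i.1 : G → ℂ) ((s : S) : G) = _), Finset.sum_comm, Finset.mul_sum,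
        ← Finset.sum_sub_distrib, Int.cast_sum, Finset.mul_sum]
      refine Finset.sum_congr rfl fun θ _ => ?_
      rw [← Finset.mul_sum, Int.cast_mul, Int.cast_natCast]
      linear_combination (n θ : ℂ) * hm θ
    haveI : Fintype D.Z := Fintype.ofFinite _
    have hZs : ∑ s : D.Z.subgroupOf S, (i.1 : G → ℂ) ((s : S) : G) =
        (d i.1 : ℂ) + 3 * (a i.1 : ℂ) := by
      rw [Fintype.sum_equiv (subgroupOfEquivOfLe D.shape.le).toEquiv
        (fun s : D.Z.subgroupOf S => (i.1 : G → ℂ) ((s : S) : G)) (fun s : D.Z => (i.1 : G → ℂ) s)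
        (fun s => rfl), One.sum_sub R (CfsgLib.Char.irr_isClassFunction i.1.2) le_rfl D.shape.le,
        hd1, ha]
      have h0 : ∀ j, (Finset.univ.filter fun m => One.rep R j m ∈ D.Z).card = 0 := fun j => by
        rw [Finset.filter_false_of_mem fun m _ => One.rep_not_Z R j m, Finset.card_empty]
      simp [h0]
    rw [hZs, hd1] at hL
    have h' : 4 * d i.1 - (d i.1 + 3 * a i.1) = 16 * ∑ θ : IrrCharacter S, (n θ : ℤ) * m θ := by
      exact_mod_cast hL
    omega
  · intro i j
    obtain ⟨H, hZH, hHS, hHc, hj3, hl⟩ := One.exists_line R j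
    haveI : Fintype H := Fintype.ofFinite _
    have h := hsub i.1 H hZH hHS
    rw [hHc] at h
    have hcnt : ∑ l, ((Finset.univ.filter fun m => One.rep R l m ∈ H).card : ℤ) * c i.1 l =
        (∑ l, c i.1 l) + 2 * c i.1 j := by
      rw [← Finset.add_sum_erase _ _ (Finset.mem_univ j), hj3,
        ← Finset.add_sum_erase (f := fun l => c i.1 l) _ (Finset.mem_univ j),
        Finset.sum_congr rfl fun l hle => by rw [hl l (Finset.mem_erase.1 hle).1, Nat.cast_one, one_mul]]
      push_cast; ring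
    rw [hcnt] at h
    haveI : Fintype (D.S : Subgroup G) := Fintype.ofFinite _
    have h' := hsub i.1 (D.S : Subgroup G) D.shape.le le_rfl
    rw [show Nat.card (D.S : Subgroup G) = 64 from D.shape.cardS] at h'
    simp only [One.count_S R] at h'
    push_cast at h h'
    rw [← Finset.mul_sum] at h'
    omega
  · intro j
    set w : IrrCharacter G → ℂ := fun χ =>
      if χ ∈ principalBlock M G then (c χ j : ℂ) else 0 with hw
    set θ : G → ℂ := fun g => ∑ χ : IrrCharacter G, w χ * (χ : G → ℂ) g with hθ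
    have hθc : IsClassFunction G θ := fun g h => by
      simp only [hθ]
      exact Finset.sum_congr rfl fun χ _ => by rw [CfsgLib.Char.irr_isClassFunction χ.2 g h]
    have hinner : ∀ χ : IrrCharacter G, classInner θ (χ : G → ℂ) = w χ := by
      intro χ
      rw [CfsgLib.Char.classInner_def]
      simp only [hθ, Finset.sum_mul, mul_assoc]
      rw [Finset.sum_comm, Finset.mul_sum, Finset.sum_eq_single χ]
      · rw [← Finset.mul_sum, mul_left_comm, ← CfsgLib.Char.classInner_def,
          CfsgLib.Char.irr_classInner_self χ.2, mul_one]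
      · intro ψ _ hne
        rw [← Finset.mul_sum, mul_left_comm, ← CfsgLib.Char.classInner_def,
          CfsgLib.Char.irr_classInner_ne ψ.2 χ.2 (fun e => hne (Subtype.ext e)), mul_zero]
      · simp
    have hvan : ∀ s : G, θ (D.z * (s * D.z * s⁻¹)) = 0 := by
      intro s
      set g := D.z * (s * D.z * s⁻¹)
      have h := CfsgLib.Block.sum_block_eq_zero hM CfsgLib.Block.isPBlock_principalBlock
        (g := g) (h := R.x j) (twoPart_spec g) (CfsgLib.Block.isPPart_self (hx2 j) Nat.prime_two)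
        (fun h => One.no_product D j s h.symm)
      rw [hsum (fun χ => (χ : G → ℂ) g * conj ((χ : G → ℂ) (R.x j)))] at h
      simp only [hc, map_intCast] at h
      simp only [hθ, hw, ite_mul, zero_mul, ← Finset.sum_filter]
      rw [Finset.sum_subtype (p := fun χ => χ ∈ principalBlock M G) _ (fun χ => by simp)]
      rw [← h]
      exact Finset.sum_congr rfl fun i _ => mul_comm _ _
    have h := BlockB.sum_classFun_mul_conj hθc D.z D.z
    rw [Finset.sum_eq_zero fun s _ => hvan s] at h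
    simp only [hinner] at h
    have h' := (mul_eq_zero.1 h.symm).resolve_left (Nat.cast_ne_zero.2 Nat.card_pos.ne')
    simp only [hw, ite_mul, ite_div, zero_mul, zero_div, ← Finset.sum_filter] at h'
    rw [Finset.sum_subtype (p := fun χ => χ ∈ principalBlock M G) _ (fun χ => by simp)] at h'
    apply Rat.cast_injective (α := ℂ)
    push_cast
    rw [← h']
    refine Finset.sum_congr rfl fun i _ => ?_
    rw [ha, hd1]
    ring

end CfsgLib.Invol.UThreeFour
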