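import Mathlib

/-!
A certificate checker for the signed degree equations: variables `D` in fixed residue classes
modulo 64 with two linear and three reciprocal equations.
-/

set_option autoImplicit false

namespace CfsgLib.Invol.UThreeFour.Search

/-- A variable: value `a`, weights in the three coordinates, residue of `D`, known sign, multiplicity. -/
structure EV where
  a : ℤ
  c0 : ℤ
  c1 : ℤ
  c2 : ℤ
  res : ℤ
  sg : ℤ
  m : ℤ
deriving DecidableEq

/-- The boolean admissibility of a value. -/
def EV.okB (e : EV) (D : ℤ) : Bool :=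
  decide (|e.a| < |D|) && decide ((D - e.res) % 64 = 0) && (decide (e.sg = 0) || decide (0 < e.sg * D)) &&
    decide (0 ≤ |D| + 3 * (if 0 < D then e.a else -e.a))

/-- Admissibility. -/
def EV.Ok (e : EV) (D : ℤ) : Prop := e.okB D = true

/-- The weight of a variable for a linear combination. -/
def EV.lw (e : EV) (x y z : ℤ) : ℤ := (x * e.c0 + y * e.c1 + z * e.c2) * e.m

/-- The weight of a variable in the reciprocal equations. -/
def EV.qw (e : EV) (x y z : ℤ) : ℤ := (x * e.c0 + y * e.c1 + z * e.c2) * e.m * (e.a * e.a)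

/-- The state: remaining variables with lower bounds, the linear sums, the reciprocal sums
(numerators over `den`), and whether the row `(a, D) = (-4, 12)` was met. -/
structure St where
  vars : List (EV × ℤ)
  l0 : ℤ
  l1 : ℤ
  l2 : ℤ
  r0 : ℤ
  r1 : ℤ
  r2 : ℤ
  den : ℤ
  hit : Bool

/-- Linear combination of the linear sums. -/
def St.lL (s : St) (x y z : ℤ) : ℤ := x * s.l0 + y * s.l1 + z * s.l2

/-- Linear combination of the reciprocal numerators. -/
def St.lR (s : St) (x y z : ℤ) : ℤ := x * s.r0 + y * s.r1 + z * s.r2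

/-- Fixing the variable `e` at the value `D`, the remaining variables being `vs`. -/
def St.fix (s : St) (e : EV) (D : ℤ) (vs : List (EV × ℤ)) : St where
  vars := vs
  l0 := s.l0 + e.c0 * e.m * D
  l1 := s.l1 + e.c1 * e.m * D
  l2 := s.l2 + e.c2 * e.m * D
  r0 := if 0 < D then s.r0 * D + e.qw 1 0 0 * s.den else -(s.r0 * D + e.qw 1 0 0 * s.den)
  r1 := if 0 < D then s.r1 * D + e.qw 0 1 0 * s.den else -(s.r1 * D + e.qw 0 1 0 * s.den)
  r2 := if 0 < D then s.r2 * D + e.qw 0 0 1 * s.den else -(s.r2 * D + e.qw 0 0 1 * s.den)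
  den := if 0 < D then s.den * D else -(s.den * D)
  hit := s.hit || (decide (e.a = -4) && decide (D = 12))

/-- An assignment for a state. -/
def Sat (s : St) (l : List ((EV × ℤ) × ℤ)) (Q : ℚ) : Prop :=
  0 < s.den ∧ Q < 0 ∧ (l.map Prod.fst).Perm s.vars ∧ (∀ p ∈ l, p.1.1.Ok p.2 ∧ p.1.2 ≤ |p.2|) ∧
  (∀ x y z : ℤ, (l.map fun p => p.1.1.lw x y z * p.2).sum + s.lL x y z = 0) ∧
  ∀ x y z : ℤ, (l.map fun p => (p.1.1.qw x y z : ℚ) / p.2).sum + (s.lR x y z : ℚ) / s.den =
    ((x + y : ℤ) : ℚ) * Q

/-- What is concluded from an assignment. -/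
def Goal (s : St) (l : List ((EV × ℤ) × ℤ)) (Q : ℚ) : Prop :=
  Q = -32 / 195 ∧ (s.hit = true ∨ ∃ p ∈ l, p.1.1.a = -4 ∧ p.2 = 12)

/-- The search certificate. -/
inductive Tree where
  | lin (x y z : ℤ)
  | quot (x z : ℤ)
  | force (x y z : ℤ) (t : Tree)
  | dead (x y z : ℤ)
  | bound (k : Nat) (B : ℤ) (ts : List (List Tree))
  | leaf

/-- The four combinations used for bounding; the flag says whether the right side is zero. -/
def combo : Nat → ℤ × ℤ × ℤ × Bool
  | 0 => (1, -1, 0, true)
  | 1 => (0, 0, 1, true)
  | 2 => (1, 0, 0, false)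
  | _ => (0, 1, 0, false)

/-- Whether a variable can push the sum of the combination in the needed direction `-r`. -/
def possible (x y z : ℤ) (neg : Bool) (p : EV × ℤ) : Bool :=
  decide (p.1.qw x y z ≠ 0) &&
    (decide (p.1.sg = 0) || decide (if neg then p.1.qw x y z * p.1.sg < 0 else 0 < p.1.qw x y z * p.1.sg))

/-- The sum of `|w| / max lb (B+1)` as numerator and denominator. -/
def capSum (x y z B : ℤ) : List (EV × ℤ) → ℤ × ℤ
  | [] => (0, 1)
  | p :: ps =>
    let q := capSum x y z B ps
    let M := max p.2 (B + 1)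
    (q.1 * M + |p.1.qw x y z| * q.2, q.2 * M)

/-- The values `D ≡ res (mod 64)` with `|D| ≤ B` that are admissible above the bound `lb`. -/
def cands (e : EV) (lb B : ℤ) : List ℤ :=
  ((List.range (2 * B / 64 + 2).toNat).map fun j : ℕ =>
    e.res + 64 * ((-B - e.res) / 64 + (j : ℤ))).filter fun D =>
      decide (|D| ≤ B) && decide (lb ≤ |D|) && e.okB D

/-- Set the lower bounds of the variables equal to `e`. -/
def raise (e : EV) (M : ℤ) (vs : List (EV × ℤ)) : List (EV × ℤ) :=
  vs.map fun p => if p.1 = e then (p.1, M) else p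

/-- The least lower bound of the variables equal to `e`. -/
def lbOf (e : EV) : List (EV × ℤ) → Option ℤ
  | [] => none
  | p :: ps =>
    if p.1 = e then
      match lbOf e ps with
      | none => some p.2
      | some m => some (min p.2 m)
    else lbOf e ps

/-- Check all children for the distinct variables `es`. -/
def loop (chk : St → Tree → Bool) (s : St) (B : ℤ) :
    List EV → List (EV × ℤ) → List (List Tree) → Bool
  | [], _, _ => true
  | _ :: _, _, [] => false
  | e :: es, vs, ts :: tss =>
    (match lbOf e vs with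
      | none => true
      | some lb =>
        let cs := cands e lb B
        decide (cs.length ≤ ts.length) &&
          (cs.zip ts).all (fun p =>
            chk (s.fix e p.1 (raise e |p.1| (vs.eraseP fun q => decide (q.1 = e)))) p.2)) &&
      loop chk s B es (raise e (B + 1) vs) tss

/-- The checker. -/
def check : Nat → St → Tree → Bool
  | 0, _, _ => false
  | fuel + 1, s, t =>
    match t with
    | .lin x y z => s.vars.all (fun p => decide (p.1.lw x y z = 0)) && decide (s.lL x y z ≠ 0)
    | .quot x z => s.vars.all (fun p => decide (p.1.qw x (-x) z = 0)) && decide (s.lR x (-x) z ≠ 0)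
    | .dead x y z =>
      match s.vars.filter (fun p => decide (p.1.lw x y z ≠ 0)) with
      | [p] => decide (-(s.lL x y z) % p.1.lw x y z ≠ 0) || decide (|-(s.lL x y z) / p.1.lw x y z| < p.2) ||
          !(p.1.okB (-(s.lL x y z) / p.1.lw x y z))
      | _ => false
    | .force x y z t' =>
      match s.vars.filter (fun p => decide (p.1.lw x y z ≠ 0)) with
      | [p] => check fuel (s.fix p.1 (-(s.lL x y z) / p.1.lw x y z) (s.vars.erase p)) t'
      | _ => false
    | .bound k B ts =>
      let c := combo k
      let x := c.1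
      let y := c.2.1
      let z := c.2.2.1
      let r := s.lR x y z
      let neg := if c.2.2.2 then decide (0 < r) else true
      let ps := s.vars.filter (possible x y z neg)
      let q := capSum x y z B ps
      (if c.2.2.2 then decide (r ≠ 0) && decide (q.1 * s.den < |r| * q.2)
        else decide (0 ≤ r) && decide (q.1 * s.den ≤ |r| * q.2)) &&
        decide (0 ≤ B) && loop (check fuel) s B (ps.map Prod.fst).eraseDups s.vars ts
    | .leaf =>
      s.vars.isEmpty &&
        (decide (s.r0 * 195 = -32 * s.den) && s.hit || decide (s.r0 ≠ s.r1) || decide (s.r2 ≠ 0) ||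
          decide (0 ≤ s.r0) || decide (s.l0 ≠ 0) || decide (s.l1 ≠ 0) || decide (s.l2 ≠ 0))

theorem ok_ne_zero {e : EV} {D : ℤ} (h : e.Ok D) : D ≠ 0 := by
  intro hD
  subst hD
  simp only [EV.Ok, EV.okB, Bool.and_eq_true, decide_eq_true_eq] at h
  have := h.1.1.1
  simp at this
  exact absurd this (not_lt.2 (abs_nonneg _))

theorem ok_sign {e : EV} {D : ℤ} (h : e.Ok D) : e.sg = 0 ∨ 0 < e.sg * D := by
  simp only [EV.Ok, EV.okB, Bool.and_eq_true, Bool.or_eq_true, decide_eq_true_eq] at h
  exact h.1.2

theorem ok_res {e : EV} {D : ℤ} (h : e.Ok D) : (D - e.res) % 64 = 0 := by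
  simp only [EV.Ok, EV.okB, Bool.and_eq_true, decide_eq_true_eq] at h
  exact h.1.1.2

theorem mem_cands {e : EV} {lb B D : ℤ} (h : e.Ok D) (hB : |D| ≤ B) (hlb : lb ≤ |D|) :
    D ∈ cands e lb B := by
  have h64 := ok_res h
  obtain ⟨h1, h2⟩ := abs_le.1 hB
  simp only [cands, List.mem_filter, List.mem_map, List.mem_range, Bool.and_eq_true, decide_eq_true_eq]
  refine ⟨⟨((D - e.res) / 64 - (-B - e.res) / 64).toNat, ?_, ?_⟩, ⟨hB, hlb⟩, h⟩
  · omega
  · rw [Int.toNat_of_nonneg (by omega)]
    omega

theorem sat_perm {s : St} {l l' : List ((EV × ℤ) × ℤ)} {Q : ℚ} (hp : l'.Perm l) (h : Sat s l Q) :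
    Sat s l' Q := by
  obtain ⟨h0, h1, h2, h3, h4, h5⟩ := h
  refine ⟨h0, h1, (hp.map _).trans h2, fun p hm => h3 p (hp.subset hm), fun x y z => ?_, fun x y z => ?_⟩
  · rw [(hp.map _).sum_eq]; exact h4 x y z
  · rw [(hp.map _).sum_eq]; exact h5 x y z

theorem lR_fix (s : St) (e : EV) (D : ℤ) (vs : List (EV × ℤ)) (x y z : ℤ) (hD : D ≠ 0)
    (hden : 0 < s.den) :
    ((s.fix e D vs).lR x y z : ℚ) / (s.fix e D vs).den =
      (s.lR x y z : ℚ) / s.den + (e.qw x y z : ℚ) / D ∧ 0 < (s.fix e D vs).den := by
  have hDq : (D : ℚ) ≠ 0 := by exact_mod_cast hD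
  have hdq : (s.den : ℚ) ≠ 0 := by exact_mod_cast hden.ne'
  simp only [St.fix, St.lR, EV.qw]
  split_ifs with h
  · refine ⟨?_, mul_pos hden h⟩
    push_cast
    field_simp
    ring
  · refine ⟨?_, by nlinarith [lt_of_le_of_ne (not_lt.1 h) hD]⟩
    push_cast
    field_simp
    ring

/-- Fixing the first variable of an assignment. -/
theorem sat_cons {s : St} {e : EV} {lb D : ℤ} {l : List ((EV × ℤ) × ℤ)} {Q : ℚ}
    {vs : List (EV × ℤ)} (l' : List ((EV × ℤ) × ℤ))
    (h : Sat s (((e, lb), D) :: l) Q)
    (hl : l'.map (fun p => (p.1.1, p.2)) = l.map (fun p => (p.1.1, p.2)))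
    (hvs : (l'.map Prod.fst).Perm vs) (hlb : ∀ p ∈ l', p.1.2 ≤ |p.2|) :
    Sat (s.fix e D vs) l' Q ∧ (Goal (s.fix e D vs) l' Q → Goal s (((e, lb), D) :: l) Q) := by
  obtain ⟨hden, hQ, -, hok, hlin, hq⟩ := h
  have hD := ok_ne_zero (hok _ List.mem_cons_self).1
  have hmem : ∀ p ∈ l', ∃ q ∈ l, q.1.1 = p.1.1 ∧ q.2 = p.2 := by
    intro p hp
    have := List.mem_map_of_mem (f := fun p : (EV × ℤ) × ℤ => (p.1.1, p.2)) hp
    rw [hl] at this
    obtain ⟨q, hq, he⟩ := List.mem_map.1 this
    exact ⟨q, hq, (Prod.mk.inj he).1, (Prod.mk.inj he).2⟩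
  have hsum : ∀ {R : Type} [AddCommMonoid R] (f : EV → ℤ → R),
      (l'.map fun p => f p.1.1 p.2).sum = (l.map fun p => f p.1.1 p.2).sum := by
    intro R _ f
    have := congrArg (fun L => (List.map (fun p : EV × ℤ => f p.1 p.2) L).sum) hl
    simpa [List.map_map, Function.comp_def] using this
  refine ⟨⟨(lR_fix s e D vs 0 0 0 hD hden).2, hQ, hvs, fun p hp => ⟨?_, hlb p hp⟩, fun x y z => ?_,
    fun x y z => ?_⟩, ?_⟩
  · obtain ⟨q, hq', e1, e2⟩ := hmem p hp
    have := (hok q (List.mem_cons_of_mem _ hq')).1
    rwa [e1, e2] at this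
  · have := hlin x y z
    rw [List.map_cons, List.sum_cons] at this
    rw [hsum fun e D => e.lw x y z * D]
    simp only [St.fix, St.lL, EV.lw] at this ⊢
    linear_combination this
  · have := hq x y z
    rw [List.map_cons, List.sum_cons] at this
    rw [hsum fun e D => (e.qw x y z : ℚ) / D, (lR_fix s e D vs x y z hD hden).1]
    linarith
  · rintro ⟨hQ', h | ⟨p, hp, ha, hd⟩⟩
    · refine ⟨hQ', ?_⟩
      simp only [St.fix, Bool.or_eq_true, Bool.and_eq_true, decide_eq_true_eq] at h
      exact h.imp_right fun h' => ⟨_, List.mem_cons_self, h'⟩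
    · obtain ⟨q, hq', e1, e2⟩ := hmem p hp
      exact ⟨hQ', Or.inr ⟨q, List.mem_cons_of_mem _ hq', e1 ▸ ha, e2 ▸ hd⟩⟩

theorem lbOf_le {e : EV} : ∀ {vs : List (EV × ℤ)} {lb : ℤ}, (e, lb) ∈ vs →
    ∃ m, lbOf e vs = some m ∧ m ≤ lb
  | [], _, h => absurd h List.not_mem_nil
  | q :: ps, lb, h => by
    rcases List.mem_cons.1 h with rfl | h'
    · rw [lbOf, if_pos rfl]
      cases lbOf e ps with
      | none => exact ⟨_, rfl, le_rfl⟩
      | some m => exact ⟨_, rfl, min_le_left _ _⟩
    · obtain ⟨m, hm, hle⟩ := lbOf_le h'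
      rw [lbOf, hm]
      split_ifs
      · exact ⟨_, rfl, (min_le_right _ _).trans hle⟩
      · exact ⟨m, rfl, hle⟩

theorem eraseP_raise_perm {e : EV} {lb : ℤ} {vs : List (EV × ℤ)} {r : List (EV × ℤ)} (M : ℤ)
    (hp : ((e, lb) :: r).Perm vs) :
    (raise e M r).Perm (raise e M (vs.eraseP fun q => decide (q.1 = e))) := by
  have hm : (e, lb) ∈ vs := hp.subset List.mem_cons_self
  obtain ⟨q, l₁, l₂, hl₁, hq, hvs, her⟩ := List.exists_of_eraseP (p := fun q => decide (q.1 = e)) hm
    (by simp)
  rw [her]
  have hqe : q.1 = e := by simpa using hq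
  have h1 : (raise e M vs).Perm ((e, M) :: raise e M (l₁ ++ l₂)) := by
    subst hvs
    refine (List.Perm.map _ List.perm_middle).trans ?_
    rw [List.map_cons, if_pos hqe, hqe]
    exact List.Perm.refl _
  have h2 : ((e, M) :: raise e M r).Perm (raise e M vs) := by
    have := hp.map (fun p => if p.1 = e then (p.1, M) else p)
    rwa [List.map_cons, if_pos rfl] at this
  exact List.Perm.cons_inv (h2.trans h1)

/-- Soundness of the loop over the distinct variables. -/
theorem loop_sound {chk : St → Tree → Bool}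
    (hc : ∀ s t l Q, chk s t = true → Sat s l Q → Goal s l Q) (s : St) (B : ℤ) :
    ∀ (es : List EV) (vs : List (EV × ℤ)) (tss : List (List Tree)), loop chk s B es vs tss = true →
      ∀ l Q, Sat { s with vars := vs } l Q →
        (∃ p ∈ l, p.1.1 ∈ es ∧ |p.2| ≤ B) → Goal s l Q
  | [], _, _, _, _, _, _, hex => by obtain ⟨p, -, hp, -⟩ := hex; exact absurd hp List.not_mem_nil
  | _ :: _, _, [], hloop, _, _, _, _ => by simp [loop] at hloop
  | e :: es, vs, ts :: tss, hloop, l, Q, hsat, hex => by
    classical
    simp only [loop, Bool.and_eq_true] at hloop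
    obtain ⟨hhead, htail⟩ := hloop
    by_cases hsmall : ∃ p ∈ l, p.1.1 = e ∧ |p.2| ≤ B
    · -- the least value among the variables equal to `e`
      have hne : (l.filter fun p => decide (p.1.1 = e)).toFinset.Nonempty := by
        obtain ⟨p, hp, hpe, -⟩ := hsmall
        exact ⟨p, by simp [hp, hpe]⟩
      obtain ⟨p, hp, hmin⟩ := Finset.exists_min_image _ (fun p : (EV × ℤ) × ℤ => |p.2|) hne
      simp only [List.mem_toFinset, List.mem_filter, decide_eq_true_eq] at hp hmin
      obtain ⟨hpl, hpe⟩ := hp
      have hpB : |p.2| ≤ B := by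
        obtain ⟨q, hq, hqe, hqB⟩ := hsmall
        exact (hmin q ⟨hq, hqe⟩).trans hqB
      obtain ⟨⟨e', lb⟩, D⟩ := p
      simp only at hpe hpB hmin
      subst hpe
      have hsat' := sat_perm (List.perm_cons_erase hpl).symm hsat
      obtain ⟨-, -, hperm, hok, -, -⟩ := hsat'
      obtain ⟨hokD, hlbD⟩ := hok _ List.mem_cons_self
      rw [List.map_cons] at hperm
      obtain ⟨mlb, hm, hmle⟩ := lbOf_le (vs := vs) (hperm.subset List.mem_cons_self)
      rw [hm] at hhead
      simp only [Bool.and_eq_true, decide_eq_true_eq, List.all_eq_true] at hhead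
      obtain ⟨hlen, hall⟩ := hhead
      obtain ⟨i, hi, hget⟩ := List.getElem_of_mem (mem_cands hokD hpB (hmle.trans hlbD))
      have hz : (D, ts[i]'(lt_of_lt_of_le hi hlen)) ∈ (cands e' mlb B).zip ts := by
        have hiz : i < ((cands e' mlb B).zip ts).length := by
          rw [List.length_zip]; exact lt_min hi (lt_of_lt_of_le hi hlen)
        have h' := List.getElem_mem hiz
        rw [List.getElem_zip] at h'
        have hget' : (cands e' mlb B)[i]'hi = D := hget
        rwa [hget'] at h'
      have hchk := hall _ hz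
      set r := l.erase ((e', lb), D) with hr
      let l' := r.map fun q => if q.1.1 = e' then ((q.1.1, |D|), q.2) else q
      have hl' : l'.map (fun p => (p.1.1, p.2)) = r.map (fun p => (p.1.1, p.2)) := by
        simp only [l', List.map_map]
        refine List.map_congr_left fun q _ => ?_
        by_cases h : q.1.1 = e' <;> simp [h]
      have hfst : l'.map Prod.fst = raise e' |D| (r.map Prod.fst) := by
        simp only [l', raise, List.map_map]
        refine List.map_congr_left fun q _ => ?_
        by_cases h : q.1.1 = e' <;> simp [h]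
      have hperm0 : l.Perm (((e', lb), D) :: r) := List.perm_cons_erase hpl
      have hlb' : ∀ q ∈ l', q.1.2 ≤ |q.2| := by
        intro q hq
        obtain ⟨q0, hq0, rfl⟩ := List.mem_map.1 hq
        have hq0l : q0 ∈ l := hperm0.symm.subset (List.mem_cons_of_mem _ hq0)
        by_cases h : q0.1.1 = e'
        · rw [if_pos h]; exact hmin q0 ⟨hq0l, h⟩
        · rw [if_neg h]; exact (hok q0 (List.mem_cons_of_mem _ hq0)).2
      obtain ⟨hsat2, hgoal⟩ := sat_cons (vs := raise e' |D| (vs.eraseP fun q => decide (q.1 = e'))) l'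
        (sat_perm hperm0.symm hsat) hl' (hfst ▸ eraseP_raise_perm |D| hperm) hlb'
      obtain ⟨hQ, hg⟩ := hgoal (hc _ _ _ _ hchk hsat2)
      refine ⟨hQ, hg.imp_right ?_⟩
      rintro ⟨q, hq, h⟩
      exact ⟨q, hperm0.symm.subset hq, h⟩
    · push Not at hsmall
      let l' := l.map fun q => if q.1.1 = e then ((q.1.1, B + 1), q.2) else q
      have hmap : ∀ {R : Type} [AddCommMonoid R] (f : EV → ℤ → R),
          (l'.map fun p => f p.1.1 p.2).sum = (l.map fun p => f p.1.1 p.2).sum := by
        intro R _ f
        simp only [l', List.map_map]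
        congr 1
        refine List.map_congr_left fun q _ => ?_
        by_cases h : q.1.1 = e <;> simp [h]
      have hsat2 : Sat { s with vars := raise e (B + 1) vs } l' Q := by
        obtain ⟨h0, hQ, hperm, hok, hlin, hq⟩ := hsat
        refine ⟨h0, hQ, ?_, ?_, fun x y z => ?_, fun x y z => ?_⟩
        · have : l'.map Prod.fst = raise e (B + 1) (l.map Prod.fst) := by
            simp only [l', raise, List.map_map]
            refine List.map_congr_left fun q _ => ?_
            by_cases h : q.1.1 = e <;> simp [h]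
          rw [this]
          exact hperm.map _
        · intro q hq'
          obtain ⟨q0, hq0, rfl⟩ := List.mem_map.1 hq'
          by_cases h : q0.1.1 = e
          · rw [if_pos h]; exact ⟨(hok q0 hq0).1, Int.add_one_le_iff.2 (hsmall q0 hq0 h)⟩
          · rw [if_neg h]; exact hok q0 hq0
        · rw [hmap fun e D => e.lw x y z * D]; exact hlin x y z
        · rw [hmap fun e D => (e.qw x y z : ℚ) / D]; exact hq x y z
      obtain ⟨hQ, hg⟩ := loop_sound hc s B es _ tss htail l' Q hsat2 (by
        obtain ⟨p, hp, hpe, hpB⟩ := hex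
        rcases List.mem_cons.1 hpe with h | h
        · exact absurd hpB (not_le.2 (hsmall p hp h))
        · refine ⟨_, List.mem_map_of_mem hp, ?_, ?_⟩
          · by_cases h' : p.1.1 = e <;> simp [h', h] <;> exact h' ▸ h
          · by_cases h' : p.1.1 = e <;> simp [h', hpB])
      refine ⟨hQ, hg.imp_right ?_⟩
      rintro ⟨q, hq, ha, hd⟩
      obtain ⟨q0, hq0, rfl⟩ := List.mem_map.1 hq
      by_cases h : q0.1.1 = e
      · rw [if_pos h] at ha hd; exact ⟨q0, hq0, ha, hd⟩
      · rw [if_neg h] at ha hd; exact ⟨q0, hq0, ha, hd⟩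

theorem capSum_spec (x y z B : ℤ) (hB : 0 ≤ B) : ∀ ps : List (EV × ℤ),
    0 < (capSum x y z B ps).2 ∧ ((capSum x y z B ps).1 : ℚ) / (capSum x y z B ps).2 =
      (ps.map fun p => ((|p.1.qw x y z| : ℤ) : ℚ) / ((max p.2 (B + 1) : ℤ) : ℚ)).sum
  | [] => by simp [capSum]
  | p :: ps => by
    obtain ⟨h1, h2⟩ := capSum_spec x y z B hB ps
    have hM : (0 : ℤ) < max p.2 (B + 1) := lt_of_lt_of_le (by omega) (le_max_right _ _)
    refine ⟨mul_pos h1 hM, ?_⟩
    have h1' : ((capSum x y z B ps).2 : ℚ) ≠ 0 := by exact_mod_cast h1.ne'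
    have hM' : ((max p.2 (B + 1) : ℤ) : ℚ) ≠ 0 := by exact_mod_cast hM.ne'
    rw [List.map_cons, List.sum_cons, ← h2]
    show (((capSum x y z B ps).1 * max p.2 (B + 1) + |p.1.qw x y z| * (capSum x y z B ps).2 : ℤ) : ℚ) /
      (((capSum x y z B ps).2 * max p.2 (B + 1) : ℤ) : ℚ) = _
    push_cast at hM' ⊢
    field_simp
    ring

/-- A single variable with nonzero weight is determined. -/
theorem single_weight {s : St} {l : List ((EV × ℤ) × ℤ)} {Q : ℚ} {x y z : ℤ} {p : EV × ℤ}
    (h : Sat s l Q) (hf : s.vars.filter (fun p => decide (p.1.lw x y z ≠ 0)) = [p]) :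
    ∃ D, l.Perm ((p, D) :: l.erase (p, D)) ∧ p.1.lw x y z ≠ 0 ∧
      D = -(s.lL x y z) / p.1.lw x y z ∧ p.1.Ok D ∧ p.2 ≤ |D| ∧
      -(s.lL x y z) % p.1.lw x y z = 0 := by
  classical
  obtain ⟨-, -, hperm, hok, hlin, -⟩ := h
  have hp : p ∈ s.vars.filter (fun p => decide (p.1.lw x y z ≠ 0)) := by rw [hf]; exact List.mem_singleton_self p
  obtain ⟨hpv, hw⟩ := List.mem_filter.1 hp
  simp only [decide_eq_true_eq] at hw
  obtain ⟨⟨p', D⟩, hl, hfst⟩ := List.mem_map.1 (hperm.symm.subset hpv)
  simp only at hfst
  subst hfst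
  have hpr := List.perm_cons_erase hl
  have hzero : ∀ q ∈ l.erase (p', D), q.1.1.lw x y z = 0 := by
    intro q hq
    by_contra hne
    have hcount : (((p', D) :: l.erase (p', D)).map Prod.fst).filter (fun p => decide (p.1.lw x y z ≠ 0)) |>.Perm [p'] := by
      rw [← hf]
      exact ((hpr.symm.map _).trans hperm).filter _
    rw [List.map_cons, List.filter_cons_of_pos (by simpa using hw)] at hcount
    have := (List.Perm.cons_inv hcount).eq_nil
    rw [List.filter_eq_nil_iff] at this
    exact this q.1 (List.mem_map_of_mem hq) (by simpa using hne)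
  have hsum := hlin x y z
  rw [(hpr.map _).sum_eq, List.map_cons, List.sum_cons, List.sum_eq_zero (l := (l.erase (p', D)).map _)
    (by
      intro t ht
      obtain ⟨q, hq, rfl⟩ := List.mem_map.1 ht
      rw [hzero q hq, zero_mul]), add_zero] at hsum
  have e : -(s.lL x y z) = p'.1.lw x y z * D := by linarith
  exact ⟨D, hpr, hw, by rw [e, Int.mul_ediv_cancel_left _ hw], (hok _ hl).1, (hok _ hl).2,
    by rw [e, Int.mul_emod_right]⟩

/-- Soundness of the checker. -/
theorem check_sound : ∀ (fuel : ℕ) (s : St) (t : Tree) (l : List ((EV × ℤ) × ℤ)) (Q : ℚ),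
    check fuel s t = true → Sat s l Q → Goal s l Q
  | 0, _, _, _, _, h, _ => by simp [check] at h
  | fuel + 1, s, t, l, Q, h, hs => by
    classical
    cases t with
    | lin x y z =>
      simp only [check, Bool.and_eq_true, List.all_eq_true, decide_eq_true_eq] at h
      obtain ⟨-, -, hperm, -, hlin, -⟩ := hs
      have := hlin x y z
      rw [List.sum_eq_zero (fun t ht => by
        obtain ⟨q, hq, rfl⟩ := List.mem_map.1 ht
        rw [h.1 q.1 (hperm.subset (List.mem_map_of_mem hq)), zero_mul]), zero_add] at this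
      exact absurd this h.2
    | quot x z =>
      simp only [check, Bool.and_eq_true, List.all_eq_true, decide_eq_true_eq] at h
      obtain ⟨hden, -, hperm, -, -, hq⟩ := hs
      have := hq x (-x) z
      rw [List.sum_eq_zero (fun t ht => by
        obtain ⟨q, hq', rfl⟩ := List.mem_map.1 ht
        rw [h.1 q.1 (hperm.subset (List.mem_map_of_mem hq')), Int.cast_zero, zero_div]), zero_add,
        add_neg_cancel, Int.cast_zero, zero_mul, div_eq_zero_iff] at this
      rcases this with e | e
      · exact absurd (by exact_mod_cast e) h.2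
      · exact absurd e (by exact_mod_cast hden.ne')
    | dead x y z =>
      simp only [check] at h
      split at h
      next p hf =>
        obtain ⟨D, -, -, hD, hok, hlb, hmod⟩ := single_weight hs hf
        simp only [Bool.or_eq_true, decide_eq_true_eq, Bool.not_eq_true'] at h
        rw [← hD] at h
        rcases h with (e | e) | e
        · exact absurd hmod e
        · exact absurd hlb (not_le.2 e)
        · exact absurd hok (by rw [EV.Ok, e]; simp)
      next => simp at h
    | force x y z t' =>
      simp only [check] at h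
      split at h
      next p hf =>
        obtain ⟨D, hpr, -, hD, -, -, -⟩ := single_weight hs hf
        rw [← hD] at h
        have hs' := sat_perm hpr.symm hs
        obtain ⟨hs2, hgoal⟩ := sat_cons (vs := s.vars.erase p) (l.erase (p, D)) hs' rfl
          (by
            have := hs'.2.2.1
            rw [List.map_cons] at this
            have h2 := this.erase p
            rwa [List.erase_cons_head] at h2)
          (fun q hq => (hs'.2.2.2.1 q (List.mem_cons_of_mem _ hq)).2)
        obtain ⟨hQ, hg⟩ := hgoal (check_sound fuel _ _ _ _ h hs2)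
        refine ⟨hQ, hg.imp_right ?_⟩
        rintro ⟨q, hq, hh⟩
        exact ⟨q, hpr.symm.subset hq, hh⟩
      next => simp at h
    | leaf =>
      simp only [check, Bool.and_eq_true, Bool.or_eq_true, List.isEmpty_iff, decide_eq_true_eq] at h
      obtain ⟨hv, h⟩ := h
      obtain ⟨hden, hQ, hperm, -, hlin, hq⟩ := hs
      rw [hv, List.perm_nil, List.map_eq_nil_iff] at hperm
      subst hperm
      have hdq : (0 : ℚ) < s.den := by exact_mod_cast hden
      have e0 := hlin 1 0 0
      have e1 := hlin 0 1 0
      have e2 := hlin 0 0 1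
      have f0 := hq 1 0 0
      have f1 := hq 0 1 0
      have f2 := hq 0 0 1
      simp [St.lL] at e0 e1 e2
      simp [St.lR] at f0 f1 f2
      rw [div_eq_iff hdq.ne'] at f0 f1
      rcases h with (((((h | h) | h) | h) | h) | h) | h
      · refine ⟨?_, Or.inl h.2⟩
        have h' : (s.r0 : ℚ) * 195 = -32 * s.den := by exact_mod_cast h.1
        rw [f0] at h'
        have := mul_right_cancel₀ hdq.ne' (show (Q * 195) * (s.den : ℚ) = -32 * s.den by linarith)
        linarith
      · exact absurd (by exact_mod_cast f0.trans f1.symm) h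
      · exact absurd (f2.resolve_right hden.ne') h
      · exfalso
        have : (0 : ℚ) ≤ s.r0 := by exact_mod_cast h
        nlinarith
      · exact absurd e0 h
      · exact absurd e1 h
      · exact absurd e2 h
    | bound k B ts =>
      simp only [check, Bool.and_eq_true, decide_eq_true_eq] at h
      obtain ⟨⟨hcap, hB⟩, hloop⟩ := h
      obtain ⟨hden, hQ, hperm, hok, hlin, hq⟩ := id hs
      set x := (combo k).1 with hx
      set y := (combo k).2.1 with hy
      set z := (combo k).2.2.1 with hz
      set fl := (combo k).2.2.2 with hfl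
      set r := s.lR x y z with hr
      set neg := if fl = true then decide (0 < r) else true
      refine loop_sound (fun s t l Q => check_sound fuel s t l Q) s B _ _ _ hloop l Q hs ?_
      by_contra hcon
      push Not at hcon
      -- every possible variable is large
      have hdq : (0 : ℚ) < s.den := by exact_mod_cast hden
      set T := (l.map fun p => (p.1.1.qw x y z : ℚ) / p.2).sum
      have hT : T + (r : ℚ) / s.den = ((x + y : ℤ) : ℚ) * Q := hq x y z
      have hcombo : (fl = true → x + y = 0) ∧ (fl = false → x + y = 1) := by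
        rw [hx, hy, hfl]
        rcases k with _ | _ | _ | k <;> simp [combo]
      let σ : ℚ := if neg = true then -1 else 1
      let cap := fun p : (EV × ℤ) => if possible x y z neg p = true then
        ((|p.1.qw x y z| : ℤ) : ℚ) / ((max p.2 (B + 1) : ℤ) : ℚ) else 0
      have hterm : ∀ p ∈ l, σ * ((p.1.1.qw x y z : ℚ) / p.2) ≤ cap p.1 := by
        intro p hp
        obtain ⟨hpok, hplb⟩ := hok p hp
        have hD : (p.2 : ℚ) ≠ 0 := by exact_mod_cast ok_ne_zero hpok
        simp only [cap]
        split_ifs with hposs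
        · have hbig : max p.1.2 (B + 1) ≤ |p.2| := max_le hplb (by
            have := hcon p hp (List.mem_eraseDups.2 (List.mem_map_of_mem (List.mem_filter.2
              ⟨hperm.subset (List.mem_map_of_mem hp), hposs⟩)))
            omega)
          have hM : (0 : ℤ) < max p.1.2 (B + 1) := lt_of_lt_of_le (by omega) (le_max_right _ _)
          refine (le_abs_self _).trans ?_
          rw [abs_mul, show |σ| = 1 by simp only [σ]; split_ifs <;> simp, one_mul, abs_div]
          rw [← Int.cast_abs, ← Int.cast_abs]
          exact div_le_div_of_nonneg_left (by exact_mod_cast abs_nonneg _) (by exact_mod_cast hM)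
            (by exact_mod_cast hbig)
        · simp only [possible, Bool.and_eq_true, Bool.or_eq_true, decide_eq_true_eq, not_and, not_or] at hposs
          by_cases hw : p.1.1.qw x y z = 0
          · simp [hw]
          obtain ⟨hsg, hdir⟩ := hposs hw
          have hs1 := (ok_sign hpok).resolve_left hsg
          have hwD : σ * ((p.1.1.qw x y z : ℚ) / p.2) =
              σ * ((p.1.1.qw x y z * p.1.1.sg : ℤ) : ℚ) / ((p.1.1.sg * p.2 : ℤ) : ℚ) := by
            have hsgq : (p.1.1.sg : ℚ) ≠ 0 := by exact_mod_cast hsg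
            push_cast
            field_simp
          rw [hwD]
          refine div_nonpos_of_nonpos_of_nonneg ?_ (by exact_mod_cast hs1.le)
          simp only [σ]
          split_ifs with hn
          · rw [if_pos hn, not_lt] at hdir
            have : (0 : ℚ) ≤ ((p.1.1.qw x y z * p.1.1.sg : ℤ) : ℚ) := by exact_mod_cast hdir
            linarith
          · rw [if_neg hn, not_lt] at hdir
            have : ((p.1.1.qw x y z * p.1.1.sg : ℤ) : ℚ) ≤ 0 := by exact_mod_cast hdir
            linarith
      have hsum : σ * T ≤ (l.map fun p => cap p.1).sum := by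
        rw [← List.sum_map_mul_left]
        exact List.sum_le_sum hterm
      have hcapsum : (l.map fun p => cap p.1).sum =
          ((s.vars.filter (possible x y z neg)).map fun p =>
            ((|p.1.qw x y z| : ℤ) : ℚ) / ((max p.2 (B + 1) : ℤ) : ℚ)).sum := by
        rw [show (l.map fun p => cap p.1) = (l.map Prod.fst).map cap by
          rw [List.map_map]; rfl, (hperm.map cap).sum_eq]
        clear hperm hloop hs hlin hq hok hcon hterm hsum
        induction s.vars with
        | nil => rfl
        | cons p ps ih =>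
          simp only [List.map_cons, List.sum_cons, ih, List.filter_cons, cap]
          by_cases hp : possible x y z neg p = true <;> simp [hp]
      obtain ⟨hq2, hqv⟩ := capSum_spec x y z B hB (s.vars.filter (possible x y z neg))
      rw [hcapsum, ← hqv] at hsum
      set q := capSum x y z B (s.vars.filter (possible x y z neg))
      have hq2' : (0 : ℚ) < q.2 := by exact_mod_cast hq2
      rcases hfb : fl with _ | _
      · rw [hfb] at hcap
        simp only [Bool.false_eq_true, if_false, Bool.and_eq_true, decide_eq_true_eq] at hcap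
        obtain ⟨hr0, hle⟩ := hcap
        rw [abs_of_nonneg hr0] at hle
        have hn : neg = true := by simp only [neg, hfb]; rfl
        rw [show σ = -1 by simp only [σ, hn, if_true]] at hsum
        have hle' : (q.1 : ℚ) / q.2 ≤ (r : ℚ) / s.den := by
          rw [div_le_div_iff₀ hq2' hdq]; exact_mod_cast hle
        have hTT : T + (r : ℚ) / s.den = Q := by rw [hT, hcombo.2 hfb]; simp
        linarith
      · rw [hfb] at hcap
        simp only [if_true, Bool.and_eq_true, decide_eq_true_eq] at hcap
        obtain ⟨hr0, hlt⟩ := hcap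
        have hTT : T + (r : ℚ) / s.den = 0 := by rw [hT, hcombo.1 hfb]; simp
        have hlt' : (q.1 : ℚ) / q.2 < ((|r| : ℤ) : ℚ) / s.den := by
          rw [div_lt_div_iff₀ hq2' hdq]; exact_mod_cast hlt
        by_cases hpos : 0 < r
        · have hn : neg = true := by simp [neg, hfb, hpos]
          rw [show σ = -1 by simp only [σ, hn, if_true]] at hsum
          rw [abs_of_pos hpos] at hlt'
          linarith
        · have hn : neg = false := by simp [neg, hfb, hpos]
          rw [show σ = 1 by simp [σ, hn]] at hsum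
          rw [abs_of_neg (lt_of_le_of_ne (not_lt.1 hpos) hr0)] at hlt'
          push_cast at hlt'
          rw [neg_div] at hlt'
          linarith

end CfsgLib.Invol.UThreeFour.Search
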