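import Cfsg.Agent.Lib.Invol.UThreeFour.Items
import Cfsg.Agent.Lib.Invol.UThreeFour.Checker

/-!
From the reduced degree system to the states of the search: the split by the indicators.
-/

set_option autoImplicit false

namespace CfsgLib.Invol.UThreeFour

open Search

/-- The variable of an orbit with known sign `sg`, standing for `m` equal rows. -/
def evOf (t : Item) (sg m : ℤ) : EV := ⟨t.a, t.c0, t.c1, t.c2, t.res, sg, m⟩

/-- The sign of `D` known from a nonzero indicator. -/
def sgOf (t : Item) (e : ℤ) : ℤ := if t.a % 2 = 1 then e else 0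

/-- A block of variables with its indicator sums. -/
def blockOf (t : Item) (np nn nz : ℕ) (m : ℤ) : List (EV × ℤ) :=
  List.replicate np (evOf t (sgOf t 1) 1, |t.a| + 1) ++
    List.replicate nn (evOf t (sgOf t (-1)) 1, |t.a| + 1) ++
    List.replicate nz (evOf t 0 m, |t.a| + 1)

/-- The possible blocks of `m` rows of an orbit. -/
def groupOpts (t : Item) (m : ℕ) : List (List (EV × ℤ) × (ℤ × ℤ × ℤ)) :=
  if t.size = 4 then [(List.replicate m (evOf t 0 1, |t.a| + 1), (0, 0, 0))]
  else
    (List.range (m + 1)).flatMap fun p => (List.range (m - p + 1)).flatMap fun n =>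
      if (m - p - n) % 2 = 0 then
        [(blockOf t p n ((m - p - n) / 2) 2,
          (((p : ℤ) - n) * t.c0, ((p : ℤ) - n) * t.c1, ((p : ℤ) - n) * t.c2))]
      else []

/-- All blocks of a configuration. -/
def product : List (Item × ℕ) → List (List (EV × ℤ) × (ℤ × ℤ × ℤ))
  | [] => [([], (0, 0, 0))]
  | g :: gs => (groupOpts g.1 g.2).flatMap fun v => (product gs).map fun w =>
      (v.1 ++ w.1, (v.2.1 + w.2.1, v.2.2.1 + w.2.2.1, v.2.2.2 + w.2.2.2))

/-- Keep the first occurrences. -/
def firsts {α : Type} [DecidableEq α] : List α → List α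
  | [] => []
  | a :: as => a :: (firsts as).filter fun b => decide (b ≠ a)

theorem mem_firsts {α : Type} [DecidableEq α] {a : α} : ∀ {l : List α}, a ∈ firsts l ↔ a ∈ l
  | [] => Iff.rfl
  | b :: l => by
    simp only [firsts, List.mem_cons, List.mem_filter, decide_eq_true_eq, mem_firsts (l := l)]
    tauto

/-- The distinct orbits of a configuration with their multiplicities. -/
def groups (cfg : List Item) : List (Item × ℕ) := (firsts cfg).map fun t => (t, cfg.count t)

/-- The states of a configuration. -/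
def casesOf (cfg : List Item) : List (List (EV × ℤ)) :=
  firsts (((product (groups cfg)).filter fun c => decide (c.2 = ((-2 : ℤ), (-1 : ℤ), (-1 : ℤ)))).map Prod.fst)

/-- The initial state. -/
def initSt (vs : List (EV × ℤ)) : St := ⟨vs, 1, 0, 1, 1, 0, 1, 1, false⟩

/-- The certificates of a configuration are valid. -/
def tableOk (cfg : List Item) (ts : List Tree) : Bool :=
  decide ((casesOf cfg).length = ts.length) &&
    ((casesOf cfg).zip ts).all fun p => check 24 (initSt p.1) p.2

/-- A rational sum over a list of rows. -/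
def qsum (l : List (Item × ℤ × ℤ)) (x y z : ℤ) : ℚ :=
  (l.map fun p => ((p.1.wt x y z * (p.1.a * p.1.a) : ℤ) : ℚ) / p.2.1).sum

/-- Conditions on a row. -/
def RowOk (p : Item × ℤ × ℤ) : Prop :=
  |p.1.a| < |p.2.1| ∧ (p.2.1 - p.1.res) % 64 = 0 ∧
    0 ≤ |p.2.1| + 3 * (if 0 < p.2.1 then p.1.a else -p.1.a) ∧
    (p.2.2 = 1 ∨ p.2.2 = 0 ∨ p.2.2 = -1) ∧ (p.1.size = 4 → p.2.2 = 0) ∧
    (Odd p.1.a → p.2.2 ≠ 0 → 0 < p.2.2 * p.2.1)

/-- An assignment mirroring a list of rows. -/
structure Mirror (l : List (Item × ℤ × ℤ)) (vs : List (EV × ℤ)) (f : ℤ × ℤ × ℤ)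
    (L : List ((EV × ℤ) × ℤ)) : Prop where
  vars : (L.map Prod.fst).Perm vs
  ok : ∀ p ∈ L, p.1.1.Ok p.2 ∧ p.1.2 ≤ |p.2|
  fs : ∀ x y z, (l.map fun p => p.2.2 * p.1.wt x y z).sum = x * f.1 + y * f.2.1 + z * f.2.2
  lin : ∀ x y z, (L.map fun p => p.1.1.lw x y z * p.2).sum = (l.map fun p => p.2.1 * p.1.wt x y z).sum
  quot : ∀ x y z, (L.map fun p => (p.1.1.qw x y z : ℚ) / p.2).sum = qsum l x y z
  hit : ∀ p ∈ L, ∃ q ∈ l, q.1.a = p.1.1.a ∧ q.2.1 = p.2

theorem Mirror.append {l l' : List (Item × ℤ × ℤ)} {vs vs' : List (EV × ℤ)} {f f' : ℤ × ℤ × ℤ}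
    {L L' : List ((EV × ℤ) × ℤ)} (h : Mirror l vs f L) (h' : Mirror l' vs' f' L') :
    Mirror (l ++ l') (vs ++ vs') (f.1 + f'.1, f.2.1 + f'.2.1, f.2.2 + f'.2.2) (L ++ L') where
  vars := by rw [List.map_append]; exact h.vars.append h'.vars
  ok p hp := (List.mem_append.1 hp).elim (h.ok p) (h'.ok p)
  fs x y z := by rw [List.map_append, List.sum_append, h.fs, h'.fs]; ring
  lin x y z := by rw [List.map_append, List.map_append, List.sum_append, List.sum_append, h.lin, h'.lin]
  quot x y z := by rw [List.map_append, List.sum_append, h.quot, h'.quot, qsum, qsum, qsum, List.map_append, List.sum_append]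
  hit p hp := by
    rcases List.mem_append.1 hp with hp | hp
    · obtain ⟨q, hq, h1⟩ := h.hit p hp; exact ⟨q, List.mem_append_left _ hq, h1⟩
    · obtain ⟨q, hq, h1⟩ := h'.hit p hp; exact ⟨q, List.mem_append_right _ hq, h1⟩

theorem Mirror.perm {l l' : List (Item × ℤ × ℤ)} {vs : List (EV × ℤ)} {f : ℤ × ℤ × ℤ}
    {L : List ((EV × ℤ) × ℤ)} (h : Mirror l vs f L) (hp : l.Perm l') : Mirror l' vs f L where
  vars := h.vars
  ok := h.ok
  fs x y z := by rw [(hp.map _).sum_eq.symm]; exact h.fs x y z
  lin x y z := by rw [h.lin]; exact (hp.map _).sum_eq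
  quot x y z := by rw [h.quot]; exact (hp.map _).sum_eq
  hit p hq := by obtain ⟨q, h1, h2⟩ := h.hit p hq; exact ⟨q, hp.subset h1, h2⟩

/-- Halving a list with even counts. -/
theorem exists_half {α : Type} [DecidableEq α] :
    ∀ (n : ℕ) (l : List α), l.length ≤ n → (∀ a, Even (l.count a)) → ∃ h, l.Perm (h ++ h)
  | _, [], _, _ => ⟨[], List.Perm.refl _⟩
  | 0, a :: l, hn, _ => by simp at hn
  | n + 1, a :: l, hn, he => by
    have ha : a ∈ l := by
      by_contra hna
      have := he a
      rw [List.count_cons_self, List.count_eq_zero_of_not_mem hna] at this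
      exact Nat.not_even_one this
    have hp : (a :: l).Perm (a :: a :: l.erase a) := (List.perm_cons_erase ha).cons a
    obtain ⟨h, hh⟩ := exists_half n (l.erase a) (by
      rw [List.length_erase_of_mem ha]
      simp at hn
      omega) (fun b => by
      have := he b
      rw [hp.count_eq, List.count_cons, List.count_cons] at this
      by_cases hb : a = b
      · simp only [hb, beq_self_eq_true, if_true, Nat.even_add_one, not_not] at this ⊢
        exact this
      · simp only [beq_iff_eq, hb, if_false, add_zero] at this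
        exact this)
    refine ⟨a :: h, hp.trans ?_⟩
    refine List.Perm.cons a ((hh.cons a).trans ?_)
    exact List.perm_middle.symm

theorem ok_evOf {t : Item} {D e : ℤ} (h : RowOk (t, D, e)) (he : e ≠ 0) :
    (evOf t (sgOf t e) 1).Ok D := by
  obtain ⟨h1, h2, h3, -, -, h4⟩ := h
  simp only [EV.Ok, EV.okB, evOf, Bool.and_eq_true, Bool.or_eq_true]
  refine ⟨⟨⟨decide_eq_true h1, decide_eq_true h2⟩, ?_⟩, decide_eq_true h3⟩
  simp only [sgOf]
  split_ifs with ho
  · exact Or.inr (decide_eq_true (h4 (Int.odd_iff.2 ho) he))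
  · exact Or.inl (decide_eq_true rfl)

theorem ok_evZero {t : Item} {D e : ℤ} (h : RowOk (t, D, e)) (m : ℤ) : (evOf t 0 m).Ok D := by
  obtain ⟨h1, h2, h3, -, -, -⟩ := h
  simp only [EV.Ok, EV.okB, evOf, Bool.and_eq_true, Bool.or_eq_true]
  exact ⟨⟨⟨decide_eq_true h1, decide_eq_true h2⟩, Or.inl (by simp)⟩, decide_eq_true h3⟩

/-- One row of known indicator. -/
theorem mirror_map {t : Item} {e : ℤ} {m : ℕ} (hm0 : 0 < m) (ev : EV) (hev : ev.a = t.a ∧ ev.c0 = t.c0 ∧ ev.c1 = t.c1 ∧
    ev.c2 = t.c2 ∧ ev.m = (m : ℤ)) (ds : List ℤ) (hok : ∀ D ∈ ds, ev.Ok D) :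
    Mirror ((List.replicate m ds).flatten.map fun D => (t, D, e)) (List.replicate ds.length (ev, |t.a| + 1))
      (((m * ds.length : ℕ) : ℤ) * e * t.c0, ((m * ds.length : ℕ) : ℤ) * e * t.c1,
        ((m * ds.length : ℕ) : ℤ) * e * t.c2)
      (ds.map fun D => ((ev, |t.a| + 1), D)) := by
  obtain ⟨ha, h0, h1, h2, hm⟩ := hev
  have hflat : ∀ {R : Type} [AddCommMonoid R] (f : ℤ → R),
      ((List.replicate m ds).flatten.map f).sum = m • (ds.map f).sum := by
    intro R _ f
    clear hm hm0
    induction m with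
    | zero => simp
    | succ k ih => rw [List.replicate_succ, List.flatten_cons, List.map_append, List.sum_append, ih, succ_nsmul']
  have hlen : ∀ {R : Type} [AddCommMonoid R] (c : R), (ds.map fun _ => c).sum = ds.length • c := by
    intro R _ c
    rw [List.map_const', List.sum_replicate]
  refine ⟨?_, ?_, fun x y z => ?_, fun x y z => ?_, fun x y z => ?_, ?_⟩
  · rw [List.map_map]
    exact List.Perm.of_eq (by
      rw [show (Prod.fst ∘ fun D : ℤ => ((ev, |t.a| + 1), D)) = fun _ => (ev, |t.a| + 1) from rfl, List.map_const'])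
  · intro p hp
    obtain ⟨D, hD, rfl⟩ := List.mem_map.1 hp
    refine ⟨hok D hD, ?_⟩
    have := hok D hD
    simp only [EV.Ok, EV.okB, Bool.and_eq_true, decide_eq_true_eq] at this
    have h := this.1.1.1
    rw [ha] at h
    show |t.a| + 1 ≤ |D|
    omega
  · rw [List.map_map, show ((fun p : Item × ℤ × ℤ => p.2.2 * p.1.wt x y z) ∘ fun D => (t, D, e)) =
      fun _ => e * t.wt x y z from rfl, hflat, hlen]
    simp only [nsmul_eq_mul, Item.wt]
    push_cast
    ring
  · rw [List.map_map, List.map_map, hflat, nsmul_eq_mul, ← List.sum_map_mul_left]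
    refine congrArg List.sum (List.map_congr_left fun D _ => ?_)
    simp only [Function.comp, EV.lw, Item.wt, h0, h1, h2, hm]
    ring
  · rw [qsum, List.map_map, List.map_map, hflat, nsmul_eq_mul, ← List.sum_map_mul_left]
    refine congrArg List.sum (List.map_congr_left fun D _ => ?_)
    simp only [Function.comp, EV.qw, Item.wt, h0, h1, h2, hm, ha]
    push_cast
    ring
  · intro p hp
    obtain ⟨D, hD, rfl⟩ := List.mem_map.1 hp
    cases m with
    | zero => exact absurd hm0 (lt_irrefl _)
    | succ k =>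
      refine ⟨(t, D, e), List.mem_map.2 ⟨D, ?_, rfl⟩, ha.symm, rfl⟩
      rw [List.replicate_succ, List.flatten_cons]
      exact List.mem_append_left _ hD

/-- The rows of one orbit. -/
theorem group_mirror {t : Item} (l : List (Item × ℤ × ℤ)) (hl : ∀ p ∈ l, p.1 = t ∧ RowOk p)
    (hpair : t.size ≠ 4 → ∀ D, Even (l.count (t, D, 0))) :
    ∃ c ∈ groupOpts t l.length, ∃ L, Mirror l c.1 c.2 L := by
  classical
  -- the degrees by indicator
  have hval : ∀ p ∈ l, p.2.2 = 1 ∨ p.2.2 = 0 ∨ p.2.2 = -1 := fun p hp => (hl p hp).2.2.2.2.1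
  let dsOf : ℤ → List ℤ := fun e => ((l.filter fun p => decide (p.2.2 = e))).map fun p => p.2.1
  have hsplit : l.Perm ((dsOf 1).map (fun D => (t, D, (1 : ℤ))) ++ (dsOf (-1)).map (fun D => (t, D, (-1 : ℤ))) ++
      (dsOf 0).map (fun D => (t, D, (0 : ℤ)))) := by
    have hback : ∀ e, (dsOf e).map (fun D => (t, D, e)) = l.filter fun p => decide (p.2.2 = e) := by
      intro e
      rw [List.map_map]
      refine (List.map_congr_left fun p hp => ?_).trans (List.map_id _)
      obtain ⟨hp1, hp2⟩ := List.mem_filter.1 hp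
      obtain ⟨a, b, c⟩ := p
      have h1 := (hl _ hp1).1
      simp only [decide_eq_true_eq] at hp2 h1
      simp [h1, hp2]
    rw [hback, hback, hback]
    refine List.perm_iff_count.2 fun p => ?_
    have hcf : ∀ e : ℤ, (l.filter fun q => decide (q.2.2 = e)).count p = if p.2.2 = e then l.count p else 0 := by
      intro e
      split_ifs with he
      · exact List.count_filter (by simpa using he)
      · exact List.count_eq_zero_of_not_mem fun hm => he (by simpa using (List.mem_filter.1 hm).2)
    simp only [List.count_append, hcf]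
    by_cases hp : p ∈ l
    · rcases hval p hp with h | h | h <;> simp [h]
    · simp [List.count_eq_zero_of_not_mem hp]
  have hrow : ∀ e, ∀ D ∈ dsOf e, RowOk (t, D, e) := by
    intro e D hD
    obtain ⟨p, hp, rfl⟩ := List.mem_map.1 hD
    obtain ⟨hp1, hp2⟩ := List.mem_filter.1 hp
    obtain ⟨h1, h2⟩ := hl p hp1
    simp only [decide_eq_true_eq] at hp2
    rw [← h1, ← hp2]
    exact h2
  by_cases h4 : t.size = 4
  · have he : ∀ p ∈ l, p = (t, p.2.1, (0 : ℤ)) := fun p hp => by
      obtain ⟨h1, h2⟩ := hl p hp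
      obtain ⟨a, b, c⟩ := p
      have h0 := h2.2.2.2.2.1
      simp only at h1 h0
      simp [h1, h0 (h1 ▸ h4)]
    have hM := mirror_map (t := t) (e := 0) (m := 1) one_pos (evOf t 0 1) ⟨rfl, rfl, rfl, rfl, rfl⟩
      (l.map fun p => p.2.1) (fun D hD => by
        obtain ⟨p, hp, rfl⟩ := List.mem_map.1 hD
        exact ok_evZero (t := t) (e := p.2.2) (by rw [← (hl p hp).1]; exact (hl p hp).2) 1)
    rw [List.replicate_one, List.flatten_singleton, List.map_map, List.length_map] at hM
    rw [List.map_congr_left (g := id) (fun p hp => by exact (he p hp).symm), List.map_id] at hM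
    simp only [mul_zero, zero_mul] at hM
    exact ⟨_, by rw [groupOpts, if_pos h4]; exact List.mem_singleton_self _, _, hM⟩
  · obtain ⟨h, hh⟩ := exists_half _ (dsOf 0) le_rfl (fun D => by
      have h1 := hpair h4 D
      rw [hsplit.count_eq, List.count_append, List.count_append,
        List.count_eq_zero_of_not_mem (by simp), List.count_eq_zero_of_not_mem (by simp),
        zero_add, zero_add] at h1
      rwa [List.count_map_of_injective _ _ (fun a b e => (Prod.mk.inj (Prod.mk.inj e).2).1)] at h1)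
    have hP := mirror_map (t := t) (e := 1) (m := 1) one_pos (evOf t (sgOf t 1) 1) ⟨rfl, rfl, rfl, rfl, rfl⟩
      (dsOf 1) (fun D hD => ok_evOf (hrow 1 D hD) one_ne_zero)
    have hN := mirror_map (t := t) (e := -1) (m := 1) one_pos (evOf t (sgOf t (-1)) 1) ⟨rfl, rfl, rfl, rfl, rfl⟩
      (dsOf (-1)) (fun D hD => ok_evOf (hrow (-1) D hD) (by norm_num))
    have hZ := mirror_map (t := t) (e := 0) (m := 2) two_pos (evOf t 0 2) ⟨rfl, rfl, rfl, rfl, rfl⟩
      h (fun D hD => ok_evZero (hrow 0 D (hh.symm.subset (List.mem_append_left _ hD))) 2)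
    have hM := ((hP.append hN).append hZ).perm (l' := l) (by
      refine List.Perm.trans ?_ hsplit.symm
      refine List.Perm.append (List.Perm.of_eq (by simp [List.replicate_one])) ?_
      refine (List.Perm.of_eq ?_).trans (hh.symm.map _)
      simp [List.replicate_succ])
    have hlen : l.length = (dsOf 1).length + (dsOf (-1)).length + 2 * h.length := by
      have h1 := hsplit.length_eq
      have h2 := hh.length_eq
      simp only [List.length_append, List.length_map] at h1 h2
      omega
    refine ⟨(blockOf t (dsOf 1).length (dsOf (-1)).length h.length 2, _), ?_, _, hM⟩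
    rw [groupOpts, if_neg h4]
    refine List.mem_flatMap.2 ⟨(dsOf 1).length, List.mem_range.2 (by omega),
      List.mem_flatMap.2 ⟨(dsOf (-1)).length, List.mem_range.2 (by omega), ?_⟩⟩
    rw [if_pos (by omega), List.mem_singleton,
      show (l.length - (dsOf 1).length - (dsOf (-1)).length) / 2 = h.length by omega]
    refine Prod.ext rfl ?_
    refine Prod.ext ?_ (Prod.ext ?_ ?_) <;> push_cast <;> ring

/-- All orbits of a configuration. -/
theorem product_mirror : ∀ (gs : List (Item × ℕ)) (l : List (Item × ℤ × ℤ)),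
    (gs.map Prod.fst).Nodup → (∀ p ∈ l, p.1 ∈ gs.map Prod.fst ∧ RowOk p) →
    (∀ g ∈ gs, (l.filter fun p => decide (p.1 = g.1)).length = g.2) →
    (∀ (t : Item) (D : ℤ), t.size ≠ 4 → Even (l.count (t, D, 0))) →
    ∃ c ∈ product gs, ∃ L, Mirror l c.1 c.2 L
  | [], l, _, hl, _, _ => by
    have : l = [] := List.eq_nil_iff_forall_not_mem.2 fun p hp => List.not_mem_nil (hl p hp).1
    subst this
    exact ⟨_, List.mem_singleton_self _, [], List.Perm.refl _, by simp, by simp, by simp, by simp [qsum], by simp⟩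
  | g :: gs, l, hnd, hl, hcnt, hpair => by
    classical
    rw [List.map_cons, List.nodup_cons] at hnd
    set l1 := l.filter fun p => decide (p.1 = g.1) with hl1
    set l2 := l.filter fun p => !decide (p.1 = g.1) with hl2
    obtain ⟨c1, hc1, L1, hM1⟩ := group_mirror (t := g.1) l1 (fun p hp => by
      obtain ⟨h1, h2⟩ := List.mem_filter.1 hp
      exact ⟨by simpa using h2, (hl p h1).2⟩) (fun h4 D => by
      rw [hl1, List.count_filter (by simp)]; exact hpair g.1 D h4)
    rw [hcnt g List.mem_cons_self] at hc1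
    obtain ⟨c2, hc2, L2, hM2⟩ := product_mirror gs l2 hnd.2 (fun p hp => by
      obtain ⟨h1, h2⟩ := List.mem_filter.1 hp
      obtain ⟨h3, h4⟩ := hl p h1
      rw [List.map_cons, List.mem_cons] at h3
      exact ⟨h3.resolve_left (by simpa using h2), h4⟩) (fun g' hg' => by
      rw [← hcnt g' (List.mem_cons_of_mem _ hg'), hl2, List.filter_filter]
      congr 1
      refine List.filter_congr fun p _ => ?_
      by_cases h : p.1 = g'.1
      · have : g'.1 ≠ g.1 := fun e => hnd.1 (e ▸ List.mem_map_of_mem hg')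
        simp [h, this]
      · simp [h]) (fun t D h4 => by
      by_cases h : t = g.1
      · rw [List.count_eq_zero_of_not_mem (fun hm => by simp [hl2, h] at hm)]
        exact ⟨0, rfl⟩
      · rw [hl2, List.count_filter (by simp [h])]; exact hpair t D h4)
    refine ⟨_, List.mem_flatMap.2 ⟨c1, hc1, List.mem_map.2 ⟨c2, hc2, rfl⟩⟩, L1 ++ L2, ?_⟩
    exact (hM1.append hM2).perm (List.filter_append_perm _ l)

/-- The reduced system has only the solution of PSU(3,4), given the certificates. -/
theorem solved_of_table (table : ∀ c ∈ configs, ∃ ts, tableOk c ts = true) {Q : ℚ}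
    {l : List (Item × ℤ × ℤ)} (h : Red Q l) (hQ : Q < 0) :
    Q = -32 / 195 ∧ ∃ p ∈ l, p.1.a = -4 ∧ p.2.1 = 12 := by
  classical
  obtain ⟨cfg, hcfg, hperm⟩ := h.shape
  have hnd : ((groups cfg).map Prod.fst).Nodup := by
    rw [groups, List.map_map]
    simp only [Function.comp_def, List.map_id']
    clear hperm hcfg
    induction cfg with
    | nil => exact List.nodup_nil
    | cons a as ih => exact List.nodup_cons.2 ⟨by simp, ih.filter _⟩
  obtain ⟨⟨vs, f⟩, hc, L, hM⟩ := product_mirror (groups cfg) l hnd (fun p hp => by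
    refine ⟨?_, (h.adm p hp).1, (h.adm p hp).2.1, (h.adm p hp).2.2, h.ind p hp⟩
    rw [groups, List.map_map]
    simp only [Function.comp_def, List.map_id']
    exact mem_firsts.2 (hperm.subset (List.mem_map_of_mem hp))) (fun g hg => by
    obtain ⟨t, -, rfl⟩ := List.mem_map.1 hg
    show _ = cfg.count t
    rw [← hperm.count_eq, List.count, List.countP_map, List.countP_eq_length_filter]
    congr 1) h.pairs
  have hf : f = ((-2 : ℤ), (-1 : ℤ), (-1 : ℤ)) := by
    have e0 := (hM.fs 1 0 0).symm.trans (h.fs 1 0 0)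
    have e1 := (hM.fs 0 1 0).symm.trans (h.fs 0 1 0)
    have e2 := (hM.fs 0 0 1).symm.trans (h.fs 0 0 1)
    obtain ⟨f0, f1, f2⟩ := f
    simp at e0 e1 e2
    simp [e0, e1, e2]
  have hcase : vs ∈ casesOf cfg :=
    mem_firsts.2 (List.mem_map.2 ⟨(vs, f), List.mem_filter.2 ⟨hc, by simp [hf]⟩, rfl⟩)
  obtain ⟨ts, hts⟩ := table cfg hcfg
  simp only [tableOk, Bool.and_eq_true, decide_eq_true_eq, List.all_eq_true] at hts
  obtain ⟨i, hi, hget⟩ := List.getElem_of_mem hcase
  have hi' : i < ((casesOf cfg).zip ts).length := by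
    rw [List.length_zip, ← hts.1, min_self]; exact hi
  have hchk := hts.2 _ (List.getElem_mem hi')
  rw [List.getElem_zip] at hchk
  rw [hget] at hchk
  obtain ⟨hQ', hh⟩ := check_sound 24 _ _ L Q hchk
    ⟨by simp [initSt], hQ, hM.vars, hM.ok, fun x y z => by
      rw [hM.lin]
      simp only [initSt, St.lL]
      have := h.lin x y z
      linarith, fun x y z => by
      rw [hM.quot]
      have := h.quot x y z
      simp only [initSt, St.lR, qsum] at this ⊢
      push_cast at this ⊢
      linarith⟩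
  refine ⟨hQ', ?_⟩
  rcases hh with hh | ⟨p, hp, ha, hd⟩
  · simp [initSt] at hh
  · obtain ⟨q, hq, h1, h2⟩ := hM.hit p hp
    exact ⟨q, hq, h1.trans ha, h2.trans hd⟩

end CfsgLib.Invol.UThreeFour
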