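import Cfsg.Agent.Lib.Invol.UThreeFour.Cases

/-!
Search certificates for the reduced degree systems of PSU(3,4), generated by `notes/u34_py/h12/emit.py`.
-/

set_option autoImplicit false
set_option maxHeartbeats 0
set_option maxRecDepth 100000

namespace CfsgLib.Invol.UThreeFour

open Search

/-- Certificate. -/
def certTree0_0 : Tree := .bound 0 51 [[.bound 0 5 [[], []]], [.force 0 1 0 (.bound 0 0 [[], []]), .force 0 1 0 (.bound 1 38 [[], []])], []]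

/-- Certificate. -/
def certTree0_1 : Tree := .bound 0 51 [[.bound 0 5 [[], []]], [.force 0 1 0 (.bound 0 0 [[], []]), .force 0 1 0 (.bound 1 31 [[], []])], []]

/-- Certificate. -/
def certTree0_2 : Tree := .bound 0 51 [[.bound 0 5 [[], []]], [.force 0 1 0 (.bound 0 0 [[], []]), .force 0 1 0 (.bound 1 25 [[]])], []]

/-- Certificate. -/
def certTree0_3 : Tree := .bound 0 50 [[.bound 0 14 [[.bound 0 4 [[]]], [.force 0 1 0 (.bound 0 16 [[]])]]], [.force 0 1 0 (.bound 1 38 [[], []])]]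

/-- Certificate. -/
def certTree0_4 : Tree := .bound 0 50 [[.bound 0 14 [[.bound 0 4 [[]]], [.force 0 1 0 (.bound 0 16 [[]])]]], [.force 0 1 0 (.bound 1 32 [[], [], []])]]

/-- Certificate. -/
def certTree0_5 : Tree := .bound 0 50 [[.bound 0 14 [[.bound 0 4 [[]]], [.force 0 1 0 (.bound 0 16 [[]])]]], [.force 0 1 0 (.bound 1 25 [[], [], []])]]

/-- Certificate. -/
def certTree0_6 : Tree := .bound 0 50 [[.bound 0 14 [[.bound 0 4 [[]]], [.force 0 1 0 (.bound 0 16 [[]])]]], [.force 0 1 0 (.bound 1 19 [[], []])]]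

/-- Certificate. -/
def certTree0_7 : Tree := .bound 0 51 [[.bound 0 15 [[.bound 0 5 [[], []]], [.force 0 1 0 (.bound 0 17 [[], []])], []]], [.force 0 1 0 (.bound 0 0 [[], []]), .force 0 1 0 (.bound 1 38 [[], []])], []]

/-- Certificate. -/
def certTree0_8 : Tree := .bound 0 51 [[.bound 0 15 [[.bound 0 5 [[], []]], [.force 0 1 0 (.bound 0 17 [[], []])], []]], [.force 0 1 0 (.bound 0 0 [[], []]), .force 0 1 0 (.bound 1 31 [[], []])], []]

/-- Certificate. -/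
def certTree0_9 : Tree := .bound 0 51 [[.bound 0 15 [[.bound 0 5 [[], []]], [.force 0 1 0 (.bound 1 25 [[]])], []]], [.force 0 1 0 (.bound 0 0 [[], []]), .force 0 1 0 (.bound 1 25 [[]])], []]

theorem configOk0 : tableOk (configs.getD 0 []) [certTree0_0, certTree0_1, certTree0_2, certTree0_3, certTree0_4, certTree0_5, certTree0_6, certTree0_7, certTree0_8, certTree0_9] = true := by
  decide +kernel

/-- Certificate. -/
def certTree2_0 : Tree := .bound 0 101 [[.bound 0 20 [[.force 0 1 0 (.dead 1 0 0)], []]], [.force 0 1 0 (.bound 2 0 [[], []]), .force 0 1 0 (.bound 0 5 [[]]), .force 0 1 0 (.bound 0 108 [[.force 1 0 0 (.quot 1 0)], [.dead 1 0 0, .dead 1 0 0]])], [.bound 0 102 [[], []], .bound 0 0 [[], []]]]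

/-- Certificate. -/
def certTree2_1 : Tree := .bound 0 101 [[.bound 0 20 [[.force 0 1 0 (.dead 1 0 0)], []]], [.force 0 1 0 (.bound 2 0 [[], []]), .force 0 1 0 (.bound 0 5 [[]]), .force 0 1 0 (.bound 0 108 [[.force 1 0 0 (.quot 1 0)], [.dead 1 0 0, .dead 1 0 0]])], [.bound 0 102 [[], []], .bound 0 0 [[], []]]]

/-- Certificate. -/
def certTree2_2 : Tree := .bound 0 101 [[.bound 0 20 [[.force 0 1 0 (.dead 1 0 0)], []]], [.force 0 1 0 (.bound 2 0 [[], []]), .force 0 1 0 (.bound 0 5 [[]]), .force 0 1 0 (.bound 0 108 [[.force 1 0 0 (.quot 1 0)], [.dead 1 0 0, .dead 1 0 0]])], [.bound 0 102 [[], []], .bound 0 0 [[], []]]]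

/-- Certificate. -/
def certTree2_3 : Tree := .bound 0 100 [[.bound 0 19 [[.force 0 1 0 (.bound 0 0 [[]])], []]], [.force 0 1 0 (.bound 0 0 [[], []]), .force 0 1 0 (.bound 0 2 [[]]), .force 0 1 0 (.bound 0 107 [[.bound 0 192 [[.dead 1 0 0, .dead 1 0 0]]], [.bound 0 0 [[]]]])], [.bound 0 0 [[], []]]]

/-- Certificate. -/
def certTree2_4 : Tree := .bound 0 100 [[.bound 0 19 [[.force 0 1 0 (.bound 0 0 [[]])], []]], [.force 0 1 0 (.bound 0 0 [[], []]), .force 0 1 0 (.bound 0 2 [[]]), .force 0 1 0 (.bound 0 107 [[.bound 0 192 [[.dead 1 0 0, .dead 1 0 0]]], [.bound 0 0 [[]]]])], [.bound 0 0 [[], []]]]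

/-- Certificate. -/
def certTree2_5 : Tree := .bound 0 100 [[.bound 0 19 [[.force 0 1 0 (.bound 0 0 [[]])], []]], [.force 0 1 0 (.bound 0 0 [[], []]), .force 0 1 0 (.bound 0 2 [[]]), .force 0 1 0 (.bound 0 107 [[.bound 1 54 [[], []]], [.bound 0 0 [[]]]])], [.bound 0 0 [[], []]]]

/-- Certificate. -/
def certTree2_6 : Tree := .bound 0 20 [[.force 0 1 0 (.bound 1 25 [[]])], []]

theorem configOk2 : tableOk (configs.getD 2 []) [certTree2_0, certTree2_1, certTree2_2, certTree2_3, certTree2_4, certTree2_5, certTree2_6] = true := by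
  decide +kernel

/-- Certificate. -/
def certTree4_0 : Tree := .bound 1 79 [[.bound 1 52 [[], []]], [.bound 1 80 [[]], .bound 1 0 [[]]]]

/-- Certificate. -/
def certTree4_1 : Tree := .bound 1 79 [[.bound 1 52 [[], []]], [.bound 1 80 [[]], .bound 1 0 [[]]]]

theorem configOk4 : tableOk (configs.getD 4 []) [certTree4_0, certTree4_1] = true := by
  decide +kernel

/-- Certificate. -/
def certTree6_0 : Tree := .bound 1 52 [[.bound 1 54 [[.bound 2 115 [[.force 1 0 0 (.bound 1 0 []), .force 1 0 0 (.bound 1 0 [])], [.dead 1 0 0, .dead 1 0 0, .dead 1 0 0]], .bound 1 0 []]], .bound 1 4 [[]]], [.bound 1 0 [[]], .bound 1 0 [[]]]]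

theorem configOk6 : tableOk (configs.getD 6 []) [certTree6_0] = true := by
  decide +kernel

/-- Certificate. -/
def certTree8_0 : Tree := .bound 0 51 [[.bound 0 5 [[], []]], [.force 0 1 0 (.bound 0 0 [[], []]), .force 0 1 0 (.bound 1 38 [[], []])], []]

/-- Certificate. -/
def certTree8_1 : Tree := .bound 0 50 [[.bound 0 14 [[.bound 0 4 [[]]], [.force 0 1 0 (.bound 0 16 [[]])]]], [.force 0 1 0 (.bound 1 38 [[], [], []])]]

/-- Certificate. -/
def certTree8_2 : Tree := .bound 0 50 [[.bound 0 14 [[.bound 0 4 [[]]], [.force 0 1 0 (.bound 0 16 [[]])]]], [.force 0 1 0 (.bound 1 32 [[], [], []])]]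

/-- Certificate. -/
def certTree8_3 : Tree := .bound 0 51 [[.bound 0 15 [[.bound 0 5 [[], []]], [.force 0 1 0 (.bound 0 17 [[], []])], []]], [.force 0 1 0 (.bound 0 0 [[], []]), .force 0 1 0 (.bound 1 38 [[], []])], []]

theorem configOk8 : tableOk (configs.getD 8 []) [certTree8_0, certTree8_1, certTree8_2, certTree8_3] = true := by
  decide +kernel

/-- Certificate. -/
def certTree10_0 : Tree := .bound 2 113 [[.bound 2 329 [[.force 1 0 0 (.bound 0 94 [[.force 0 1 0 (.quot 1 0), .force 0 1 0 (.quot 1 0), .force 0 1 0 (.quot 1 0)], [.dead 0 1 0, .dead 0 1 0]]), .force 1 0 0 (.bound 0 97 [[.force 0 1 0 (.quot 1 0), .force 0 1 0 (.quot 1 0), .force 0 1 0 (.quot 1 0)], [.dead 0 1 0, .dead 0 1 0]]), .force 1 0 0 (.bound 0 102 [[.force 0 1 0 (.quot 1 0), .force 0 1 0 (.quot 1 0), .force 0 1 0 (.quot 1 0), .force 0 1 0 (.quot 1 0)], [.dead 0 1 0, .dead 0 1 0]]), .force 1 0 0 (.bound 0 115 [[.force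 0 1 0 (.quot 1 0), .force 0 1 0 (.quot 1 0), .force 0 1 0 (.quot 1 0), .force 0 1 0 (.quot 1 0)], [.dead 0 1 0, .dead 0 1 0]]), .force 1 0 0 (.bound 0 204 [[.force 0 1 0 (.quot 1 0), .force 0 1 0 (.quot 1 0), .force 0 1 0 (.quot 1 0), .force 0 1 0 (.quot 1 0), .force 0 1 0 (.quot 1 0), .dead 0 1 0], [.dead 0 1 0, .dead 0 1 0, .dead 0 1 0]]), .force 1 0 0 (.bound 2 0 []), .force 1 0 0 (.bound 2 0 []), .force 1 0 0 (.bound 2 0 []), .dead 1 0 0, .dead 1 0 0]], .bound 0 206 [[.force 0 1 0 (.bound 1 81 [[.force 1 0 0 (.quot 1 0)], [.bound 1 39 [[], []], .bound 1 110 [[], [.force 0 0 1 (.quot 0 1), .dead 0 0 1]]], [.bound 1 0 [[], []], .bound 0 203 [[.force 1 0 0 (.quot 1 0), .force 1 0 0 (.quot 1 0), .force 1 0 0 (.quot 1 0), .dead 1 0 0, .dead 1 0 0, .dead 1 0 0], [.dead 1 0 0, .dead 1 0 0]]]]), .force 0 1 0 (.bound 1 72 [[.force 1 0 0 (.quot 1 0)], [.bound 1 88 [[], [.force 0 0 1 (.quot 0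 1), .dead 0 0 1]]], [.bound 1 249 [[.force 1 0 0 (.quot 1 0), .force 1 0 0 (.quot 1 0)], [.dead 0 0 1, .dead 0 0 1, .dead 0 0 1, .dead 0 0 1, .dead 0 0 1, .dead 0 0 1]]]]), .force 0 1 0 (.bound 1 47 [[], [], []]), .force 0 1 0 (.bound 3 0 []), .dead 0 1 0, .dead 0 1 0], [.force 1 0 0 (.bound 0 0 [[]]), .force 1 0 0 (.bound 0 0 [[]]), .force 1 0 0 (.bound 0 0 [[]]), .force 1 0 0 (.bound 0 9 [[], []]), .dead 1 0 0, .dead 1 0 0, .dead 1 0 0], [.dead 1 0 0, .dead 1 0 0, .dead 1 0 0]]], [.bound 2 141 [[]], .bound 2 0 [[]], .bound 2 0 [[]]]]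

/-- Certificate. -/
def certTree10_1 : Tree := .bound 2 113 [[.bound 2 329 [[.force 1 0 0 (.bound 0 94 [[.force 0 1 0 (.quot 1 0), .force 0 1 0 (.quot 1 0), .force 0 1 0 (.quot 1 0)], [.dead 0 1 0, .dead 0 1 0]]), .force 1 0 0 (.bound 0 97 [[.force 0 1 0 (.quot 1 0), .force 0 1 0 (.quot 1 0), .force 0 1 0 (.quot 1 0)], [.dead 0 1 0, .dead 0 1 0]]), .force 1 0 0 (.bound 0 102 [[.force 0 1 0 (.quot 1 0), .force 0 1 0 (.quot 1 0), .force 0 1 0 (.quot 1 0), .force 0 1 0 (.quot 1 0)], [.dead 0 1 0, .dead 0 1 0]]), .force 1 0 0 (.bound 0 115 [[.force 0 1 0 (.quot 1 0), .force 0 1 0 (.quot 1 0), .force 0 1 0 (.quot 1 0), .force 0 1 0 (.quot 1 0)], [.dead 0 1 0, .dead 0 1 0]]), .force 1 0 0 (.bound 0 204 [[.force 0 1 0 (.quot 1 0), .force 0 1 0 (.quot 1 0), .force 0 1 0 (.quot 1 0), .force 0 1 0 (.quot 1 0), .force 0 1 0 (.quot 1 0), .dead 0 1 0], [.dead 0 1 0, .dead 0 1 0, .dead 0 1 0]]), .force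 1 0 0 (.bound 2 0 []), .force 1 0 0 (.bound 2 0 []), .force 1 0 0 (.bound 2 0 []), .dead 1 0 0, .dead 1 0 0]], .bound 1 142 [[.force 0 1 0 (.bound 1 60 [[], [.bound 1 62 [[], [.bound 1 93 [[.dead 0 0 1]]]]], [.bound 1 127 [[.force 1 0 0 (.quot 1 0)], [.bound 0 489 [[.force 1 0 0 (.quot 1 0), .force 1 0 0 (.quot 1 0), .force 1 0 0 (.quot 1 0), .force 1 0 0 (.quot 1 0), .force 1 0 0 (.quot 1 0), .force 1 0 0 (.quot 1 0), .force 1 0 0 (.quot 1 0), .dead 1 0 0, .dead 1 0 0, .dead 1 0 0, .dead 1 0 0, .dead 1 0 0, .dead 1 0 0, .dead 1 0 0, .dead 1 0 0]]]]]]), .force 0 1 0 (.bound 1 39 [[], [], []]), .force 0 1 0 (.bound 3 0 []), .dead 0 1 0], [.dead 0 1 0, .dead 0 1 0, .dead 0 1 0], [.force 1 0 0 (.bound 0 0 [[], []]), .force 1 0 0 (.bound 0 0 [[]])], [.bound 1 183 [[.force 0 1 0 (.bound 1 72 [[], [.bound 1 50 [[]]]]), .dead 0 1 0], [], [], [.bound 1 0 [[], [], []], .bound 1 0 [[], [], []], .bound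 1 55 [[], []], .bound 0 206 [[], [.force 1 0 0 (.force 0 2 (-1) (.quot 2 1)), .force 1 0 0 (.force 0 2 (-1) (.quot 2 1)), .dead 1 0 0, .dead 1 0 0, .dead 1 0 0, .dead 1 0 0, .dead 1 0 0], [.dead 1 0 0]], .bound 1 186 [[], [], []]]], .bound 1 147 [[], [], [], [.bound 1 0 [[], [], []], .bound 1 0 [[], [], []], .bound 1 165 [[.dead 0 1 0], [.dead 0 2 (-1), .dead 0 2 (-1)]], .bound 1 204 [[.force 0 1 0 (.bound 1 0 [[]]), .dead 0 1 0], [], [.force 1 0 0 (.force 0 2 (-1) (.quot 2 1))]]]]], [.bound 1 0 [[], [], [], []], .bound 1 0 [[], [], [], []], .bound 1 259 [[.force 0 1 0 (.bound 1 195 [[.bound 0 126 [[.force 1 0 0 (.quot 1 0), .dead 1 0 0, .dead 1 0 0, .dead 1 0 0], []], .bound 1 0 [[], []]]]), .force 0 1 0 (.bound 0 203 [[.force 1 0 0 (.quot 1 0), .force 1 0 0 (.quot 1 0), .dead 1 0 0, .dead 1 0 0, .dead 1 0 0, .dead 1 0 0], [.dead 1 0 0]]), .dead 0 1 0, .dead 0 1 0], [.bound 1 287 [[.dead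 0 1 0]], .bound 1 370 [[.force 0 1 0 (.bound 1 0 []), .force 0 1 0 (.bound 1 0 []), .dead 0 1 0, .dead 0 1 0]], .bound 0 144 [[], [.force 1 0 0 (.dead 0 2 (-1)), .dead 1 0 0, .dead 1 0 0, .dead 1 0 0, .dead 1 0 0], []]]], .bound 1 176 [[.force 0 1 0 (.bound 1 0 [[], []]), .dead 0 1 0], [], [], []]]]], [.bound 2 141 [[]], .bound 2 0 [[]], .bound 2 0 [[]]]]

/-- Certificate. -/
def certTree10_2 : Tree := .bound 2 114 [[.bound 0 118 [[.force 0 1 0 (.bound 0 20 [[.dead 1 0 0], []]), .force 0 1 0 (.bound 0 12 [[.dead 1 0 0], []]), .force 0 1 0 (.bound 3 0 []), .force 0 1 0 (.bound 3 0 [])], [.dead 1 0 0, .dead 1 0 0, .dead 1 0 0, .dead 1 0 0], [.dead 0 1 0, .dead 0 1 0], [.force 1 0 0 (.bound 0 0 [[], []])]], .bound 0 202 [[.force 0 1 0 (.bound 1 80 [[.bound 1 90 [[.bound 1 109 [[.dead 0 0 1, .force 0 0 1 (.quot 0 1)]]], [.bound 1 0 [[]], .bound 1 2 [[]]]]], [.bound 1 0 [[]], .bound 1 35 [[]]]]),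 .force 0 1 0 (.bound 1 71 [[.bound 1 77 [[.bound 1 87 [[.dead 0 0 1, .force 0 0 1 (.quot 0 1)]]], [.bound 1 0 [[]], .bound 1 3 [[]]]]], [.bound 1 244 [[.bound 1 106 [[.force 1 0 0 (.quot 1 0)]], .bound 1 378 [[.force 0 0 1 (.quot 0 1), .force 0 0 1 (.quot 0 1), .force 0 0 1 (.quot 0 1), .force 0 0 1 (.quot 0 1)]]]]]]), .force 0 1 0 (.bound 1 47 [[], []]), .force 0 1 0 (.bound 3 0 []), .dead 0 1 0, .dead 0 1 0], [.dead 1 0 0, .dead 1 0 0, .dead 1 0 0, .dead 1 0 0, .dead 1 0 0, .force 1 0 0 (.bound 0 227 [[.dead 0 1 0]])]]], [.bound 2 142 [[], [.dead 1 0 0, .dead 1 0 0]], .bound 2 0 [[], []], .bound 2 2 [[], []]], [.bound 2 115 [[], []]]]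

/-- Certificate. -/
def certTree10_3 : Tree := .bound 2 113 [[.bound 0 99 [[.dead 0 1 0, .dead 0 1 0, .dead 0 1 0], [.force 1 0 0 (.bound 0 163 [[.dead 0 1 0, .force 0 1 0 (.quot 1 0)]]), .force 1 0 0 (.bound 0 0 [[]]), .force 1 0 0 (.bound 0 0 [[]])]], .bound 1 147 [[.dead 0 1 0, .dead 0 1 0, .dead 0 1 0, .force 0 1 0 (.bound 0 35 [[.force 1 0 0 (.quot 1 0)], []])], [.force 1 0 0 (.bound 0 0 [[]]), .force 1 0 0 (.bound 0 28 [[], []])], [.bound 1 72 [[], [], [.dead 0 2 (-1)]], .bound 1 59 [[], [], [.dead 0 2 (-1)]], .bound 0 241 [[.dead 0 1 0, .dead 0 1 0, .force 0 1 0 (.bound 0 39 [[.dead 1 0 0], []]), .force 0 1 0 (.bound 0 43 [[.dead 1 0 0], []])], [.force 1 0 0 (.dead 0 2 (-1)), .force 1 0 0 (.force 0 2 (-1) (.quot 2 1)), .dead 1 0 0, .dead 1 0 0, .dead 1 0 0, .dead 1 0 0, .dead 1 0 0], [.dead 0 1 0, .dead 0 1 0, .dead 0 1 0], [.dead 1 0 0]], .bound 1 159 [[.force 0 1 0 (.bound 0 39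 [[.dead 1 0 0], []])], [], [.force 0 2 (-1) (.force 1 0 0 (.quot 2 1)), .dead 0 2 (-1), .dead 0 2 (-1), .dead 0 2 (-1)]]], [.bound 1 0 [[], [], []], .bound 1 0 [[], [], []], .bound 0 241 [[.dead 0 1 0, .dead 0 1 0, .force 0 1 0 (.bound 1 0 [[]]), .force 0 1 0 (.bound 1 0 [[]])], [.force 1 0 0 (.dead 0 2 (-1)), .force 1 0 0 (.force 0 2 (-1) (.quot 2 1)), .dead 1 0 0, .dead 1 0 0, .dead 1 0 0, .dead 1 0 0, .dead 1 0 0], [.dead 0 1 0, .dead 0 1 0, .dead 0 1 0], [.dead 1 0 0]], .bound 1 186 [[.dead 0 1 0, .force 0 1 0 (.bound 1 0 [[], []])], [], [.dead 0 2 (-1)]]]]], [.bound 2 141 [[]], .bound 2 0 [[]], .bound 2 0 [[]]]]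

/-- Certificate. -/
def certTree10_4 : Tree := .bound 2 113 [[.bound 0 99 [[.dead 0 1 0, .dead 0 1 0, .dead 0 1 0], [.force 1 0 0 (.bound 0 163 [[.dead 0 1 0, .force 0 1 0 (.quot 1 0)]]), .force 1 0 0 (.bound 0 0 [[]]), .force 1 0 0 (.bound 0 0 [[]])]], .bound 1 130 [[.dead 0 1 0, .dead 0 1 0, .dead 0 1 0, .force 0 1 0 (.bound 0 35 [[.force 1 0 0 (.quot 1 0)], []])], [.force 1 0 0 (.bound 0 0 [[]]), .force 1 0 0 (.bound 0 31 [[], []])], [.bound 1 166 [[.dead 0 1 0, .force 0 1 0 (.bound 0 39 [[.dead 1 0 0], []])], [], [.bound 1 0 [[], []], .bound 1 0 [[], []], .bound 1 103 [[], [.dead 0 1 0], [.dead 0 2 (-1)]], .bound 1 391 [[.dead 0 1 0, .dead 0 1 0, .dead 0 1 0, .force 0 1 0 (.bound 0 43 [[.dead 1 0 0], []]), .force 0 1 0 (.bound 1 193 [[.force 1 0 0 (.quot 1 0)]]), .force 0 1 0 (.bound 1 0 [[]])], [.force 1 0 0 (.force 0 2 (-1) (.quot 2 1)), .force 1 0 0 (.force 0 2 (-1) (.quot 2 1)),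 .force 1 0 0 (.force 0 2 (-1) (.quot 2 1)), .force 1 0 0 (.force 0 2 (-1) (.quot 2 1))]]]], .bound 1 133 [[], [], [.bound 1 0 [[], []], .bound 1 195 [[.dead 0 1 0, .force 0 1 0 (.bound 1 27 [[]])], [.force 0 1 0 (.bound 1 30 [[]]), .dead 0 1 0, .dead 0 1 0], [.dead 0 2 (-1), .dead 0 2 (-1)]], .bound 1 164 [[.force 0 1 0 (.bound 1 0 [[]])], []]]]], [.bound 1 0 [[], [], []], .bound 1 307 [[.dead 0 1 0, .dead 0 1 0, .dead 0 1 0, .force 0 1 0 (.bound 1 36 [[]]), .force 0 1 0 (.bound 1 41 [[]]), .force 0 1 0 (.bound 1 45 [[]])], [.force 0 1 0 (.bound 1 47 [[]]), .dead 0 1 0, .dead 0 1 0, .dead 0 1 0, .dead 0 1 0], [.bound 1 321 [[], []], .bound 1 358 [[.dead 0 1 0, .dead 0 1 0], []], .bound 0 154 [[], [.force 1 0 0 (.dead 0 2 (-1)), .dead 1 0 0, .dead 1 0 0, .dead 1 0 0, .dead 1 0 0], [], []], .bound 0 154 [[], [.force 1 0 0 (.dead 0 2 (-1)), .dead 1 0 0, .dead 1 0 0, .dead 1 0 0, .dead 1 0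 0], [], []]]], .bound 1 148 [[], [], []]]]], [.bound 2 141 [[]], .bound 2 0 [[]], .bound 2 0 [[]]]]

/-- Certificate. -/
def certTree10_5 : Tree := .bound 2 114 [[.bound 0 101 [[.dead 0 1 0, .dead 0 1 0, .dead 0 1 0], [.dead 1 0 0, .dead 1 0 0, .dead 1 0 0], [.force 1 0 0 (.bound 0 0 [[]])]], .bound 1 146 [[.dead 0 1 0, .dead 0 1 0, .dead 0 1 0, .force 0 1 0 (.bound 0 33 [[.dead 1 0 0]])], [.bound 1 189 [[.dead 0 1 0, .force 0 1 0 (.bound 0 38 [[.dead 1 0 0]])], [.bound 1 302 [[.dead 0 1 0, .dead 0 1 0, .force 0 1 0 (.bound 0 43 [[.dead 1 0 0]]), .force 0 1 0 (.bound 0 46 [[.dead 1 0 0]])], [.dead 0 2 (-1), .dead 0 2 (-1), .dead 0 2 (-1), .dead 0 2 (-1), .force 0 2 (-1) (.force 1 0 0 (.quot 2 1)), .force 0 2 (-1) (.force 1 0 0 (.quot 2 1)), .force 0 2 (-1) (.force 1 0 0 (.quot 2 1)), .force 0 2 (-1) (.force 1 0 0 (.quot 2 1))]], .bound 1 207 [[], [.dead 0 2 (-1), .dead 0 2 (-1), .dead 0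 2 (-1), .force 0 2 (-1) (.force 1 0 0 (.quot 2 1)), .force 0 2 (-1) (.force 1 0 0 (.quot 2 1)), .force 0 2 (-1) (.force 1 0 0 (.quot 2 1))]], .bound 1 190 [[], [.dead 0 2 (-1), .dead 0 2 (-1), .force 0 2 (-1) (.force 1 0 0 (.quot 2 1)), .force 0 2 (-1) (.force 1 0 0 (.quot 2 1)), .force 0 2 (-1) (.force 1 0 0 (.quot 2 1))]]], [.bound 1 0 [[], []], .bound 1 0 [[], []], .bound 1 40 [[], [], []], .bound 0 237 [[.dead 0 1 0, .force 0 1 0 (.bound 1 23 [[]])], [.dead 1 0 0, .dead 1 0 0, .dead 1 0 0, .dead 1 0 0, .dead 1 0 0, .force 1 0 0 (.dead 0 2 (-1)), .force 1 0 0 (.dead 0 2 (-1))], [.dead 0 1 0, .dead 0 1 0, .dead 0 1 0]], .bound 1 198 [[], []]]], .bound 1 151 [[], [.bound 1 158 [[.force 0 1 0 (.bound 0 38 [[.dead 1 0 0]])], [.dead 0 2 (-1), .dead 0 2 (-1), .force 0 2 (-1) (.force 1 0 0 (.quot 2 1)), .force 0 2 (-1) (.force 1 0 0 (.quot 2 1))]]], [.bound 1 0 [[], []], .bound 1 0 [[], []],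 .bound 1 154 [[.force 0 1 0 (.bound 1 0 [[]])], [.dead 0 1 0, .dead 0 1 0], [.force 1 0 0 (.dead 0 2 (-1)), .force 1 0 0 (.dead 0 2 (-1))]], .bound 1 218 [[.dead 0 1 0, .force 0 1 0 (.bound 0 38 [[.dead 1 0 0]]), .force 0 1 0 (.bound 1 0 [[]])], [.force 0 2 (-1) (.force 1 0 0 (.quot 2 1))]]]]], [.bound 1 0 [[], []], .bound 1 0 [[], []], .bound 1 243 [[.dead 0 1 0, .dead 0 1 0, .force 0 1 0 (.bound 1 0 [[]]), .force 0 1 0 (.bound 1 0 [[]])], [.force 0 1 0 (.bound 1 0 [[]]), .dead 0 1 0, .dead 0 1 0, .dead 0 1 0], [.force 1 0 0 (.bound 0 0 [[], []]), .force 1 0 0 (.bound 0 0 [[], []]), .force 1 0 0 (.bound 1 251 [[], []])]], .bound 1 185 [[.dead 0 1 0, .force 0 1 0 (.bound 1 0 [[]])], [.bound 1 186 [[], [.force 0 2 (-1) (.force 1 0 0 (.quot 2 1))]]]]]]], [.bound 2 142 [[], [.dead 1 0 0, .dead 1 0 0]], .bound 2 0 [[], []], .bound 2 2 [[], []]], [.bound 2 115 [[], []]]]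

theorem configOk10 : tableOk (configs.getD 10 []) [certTree10_0, certTree10_1, certTree10_2, certTree10_3, certTree10_4, certTree10_5] = true := by
  decide +kernel

theorem configOk12 : tableOk (configs.getD 12 []) [] = true := by
  decide +kernel

/-- Certificate. -/
def certTree14_0 : Tree := .bound 0 117 [[.bound 1 118 [[.dead 1 0 0, .force 1 0 0 (.bound 1 0 [[]]), .dead 1 0 0, .dead 1 0 0], [.bound 1 120 [[], [.dead (-2) 0 1, .dead (-2) 0 1], [.force 1 0 0 (.dead 0 0 1), .dead 1 0 0]], .bound 1 22 [[], [], []]], [.force 1 0 0 (.bound 1 0 [[]]), .dead 1 0 0]], .bound 0 36 [[.bound 0 4 [[], [], []]], [], []]], [.bound 0 12 [[], [], [], []], .bound 0 12 [[], [], [], []], .bound 0 60 [[.bound 3 99 [[.force 1 (-4) 1 (.dead 1 0 0), .dead 1 (-4) 1, .dead 1 (-4) 1], [.bound 3 100 [[], [.force 0 1 0 (.dead 1 0 1), .dead 0 1 0]], .bound 3 0 [[], []]]], .bound 0 2 [[], []]], [], []], .bound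 0 127 [[], [.bound 0 13 [[], [], []], .bound 0 146 [[], [.bound 0 71 [[], [], [.force (-1) 3 (-1) (.force 0 1 0 (.quot (-1) (-1))), .force (-1) 3 (-1) (.force 0 1 0 (.quot (-1) (-1)))]], .bound 0 68 [[], [.force 0 1 0 (.dead 1 0 1), .force 0 1 0 (.dead 1 0 1)], [.force (-1) 3 (-1) (.force 0 1 0 (.quot (-1) (-1))), .force (-1) 3 (-1) (.force 0 1 0 (.quot (-1) (-1)))]], .bound 0 149 [[], [.force 0 1 0 (.force 1 0 1 (.quot (-1) (-1))), .force 0 1 0 (.dead 1 0 1), .force 0 1 0 (.force 1 0 1 (.quot (-1) (-1)))], [.force (-1) 3 (-1) (.force 0 1 0 (.quot (-1) (-1))), .force (-1) 3 (-1) (.force 0 1 0 (.quot (-1) (-1))), .dead (-1) 3 (-1), .dead (-1) 3 (-1)]], .bound 0 147 [[], [.force 0 1 0 (.dead 1 0 1)], [.force (-1) 3 (-1) (.force 0 1 0 (.quot (-1) (-1))), .force (-1) 3 (-1) (.force 0 1 0 (.quot (-1) (-1))), .dead (-1) 3 (-1), .force (-1) 3 (-1) (.force 0 1 0 (.quot (-1) (-1)))]]], [.dead 2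 (-4) 1, .dead 2 (-4) 1, .dead 2 (-4) 1, .force 2 (-4) 1 (.force 1 0 0 (.quot 4 1))]]], [.bound 0 63 [[], [], [], [.bound 0 128 [[.force 1 0 0 (.dead 0 0 1)], [.force (-1) 3 (-1) (.force 0 1 0 (.quot (-1) (-1))), .force (-1) 3 (-1) (.force 0 1 0 (.quot (-1) (-1)))], [.force (-1) 3 (-1) (.force 0 1 0 (.quot (-1) (-1))), .force (-1) 3 (-1) (.force 0 1 0 (.quot (-1) (-1)))]]]], .bound 0 63 [[], [], [.bound 0 120 [[.dead (-2) 0 1], [.force 0 1 0 (.dead 1 0 1), .force 0 1 0 (.dead 1 0 1)], [.dead (-1) 3 (-1), .dead (-1) 3 (-1)]]], [.bound 0 126 [[.force 1 0 0 (.dead 0 0 1)], [.force (-1) 3 (-1) (.force 0 1 0 (.quot (-1) (-1))), .force (-1) 3 (-1) (.force 0 1 0 (.quot (-1) (-1)))], [.dead (-1) 3 (-1)]]]], .bound 0 129 [[], [], [.bound 0 55 [[], [], []], .bound 0 130 [[], [], [.dead (-1) 3 (-1), .dead (-1) 3 (-1), .dead (-1) 3 (-1), .force (-1) 3 (-1) (.force 0 1 0 (.quot (-1) (-1)))]], .bound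 0 99 [[], [], [.dead (-1) 3 (-1), .dead (-1) 3 (-1)]]], [.bound 0 0 [[], [], []], .bound 0 132 [[], [], []], .bound 0 0 [[], [], []], .bound 0 0 [[], [], []]]]], [.bound 0 0 [[], [], []], .bound 0 130 [[], [], [.bound 0 0 [[], [], []]]], .bound 0 0 [[], [], []]]]], [.bound 0 47 [[], [], [], []], .bound 0 111 [[], [], [.bound 0 118 [[], [.bound 0 6 [[], [], []]], [.dead (-2) 0 1, .dead (-2) 0 1]]], [.bound 0 119 [[], [.bound 0 0 [[], [], []]], []], .bound 0 112 [[], [], []]]]], [.bound 0 118 [[], [], []], .bound 0 0 [[], [], []]]]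

/-- Certificate. -/
def certTree14_1 : Tree := .bound 0 116 [[.bound 1 117 [[.bound 1 19 [[], []], .bound 1 0 [[], []], .bound 1 0 [[], []], .bound 2 0 [[]]], [.bound 1 120 [[], [.force 1 0 (-1) (.bound 1 0 [[]]), .force 1 0 (-1) (.bound 1 0 [[]])], [.bound 1 0 [[], []]]], .bound 1 13 [[], [], []]], [.bound 1 118 [[], []]]], .bound 0 35 [[.bound 0 3 [[], [], []]], [], []]], [.bound 0 9 [[], [], [], []], .bound 0 9 [[], [], [], []], .bound 0 57 [[.bound 0 117 [[.bound 3 100 [[.force 0 1 0 (.dead (-1) 0 1), .force 0 1 0 (.dead (-1) 0 1), .force 0 1 0 (.dead (-1) 0 1)], [.force 0 1 0 (.force (-1) 0 1 (.quot 1 (-1))), .dead 0 1 0]], .bound 0 39 [[], []]], [.bound 3 99 [[.force 1 (-4) 1 (.dead 1 0 0), .dead 1 (-4) 1, .force 1 (-4) 1 (.dead 1 0 0)], []]]], .bound 0 0 [[], []]], [], []], .bound 0 126 [[], [.bound 0 10 [[], [], []], .bound 0 145 [[], [.bound 0 41 [[], [], []], .bound 0 41 [[],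 [], []], .bound 0 147 [[], [.force 0 1 0 (.force (-1) 0 1 (.quot 1 (-1))), .force 0 1 0 (.dead (-1) 0 1), .force 0 1 0 (.dead (-1) 0 1)], [.bound 0 0 [[], []], .bound 0 149 [[], []]]], .bound 0 115 [[], [], [.bound 0 147 [[], [.force 0 1 0 (.dead 1 0 1), .force 0 1 0 (.dead 1 0 1)]]]]], [.bound 0 0 [[], []], .bound 0 147 [[], []]]]], [.bound 0 38 [[], [], [], []], .bound 0 127 [[], [], [.bound 0 41 [[], [], []], .bound 0 129 [[], [], [.bound 0 0 [[], []], .bound 0 130 [[], []]]]], [.bound 0 0 [[], [], []], .bound 0 129 [[], [], [.bound 0 0 [[], []]]]]]], [.bound 0 127 [[], [], [.bound 0 0 [[], [], []]]]]]], [.bound 0 29 [[], [], [], []], .bound 0 106 [[], [], [.bound 0 117 [[], [.bound 0 3 [[], [], []]], [.bound 0 118 [[], []]]]], [.bound 0 117 [[], [.bound 0 0 [[], [], []]], []]]]], [.bound 0 0 [[], [], []]]]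

theorem configOk14 : tableOk (configs.getD 14 []) [certTree14_0, certTree14_1] = true := by
  decide +kernel

theorem configOk16 : tableOk (configs.getD 16 []) [] = true := by
  decide +kernel

/-- Certificate. -/
def certTree18_0 : Tree := .bound 2 72 [[.bound 1 114 [[.force 0 1 0 (.dead 0 0 1), .force 0 1 0 (.dead 0 0 1)], [.force 0 0 1 (.quot 0 1), .dead 0 0 1]]], [.bound 2 82 [[], [.dead 1 0 0, .dead 1 0 0, .force 1 0 0 (.bound 2 0 [])]], .bound 2 16 [[], [.force 1 0 0 (.bound 2 0 [])]]], [.bound 2 106 [[.force 1 0 0 (.bound 2 0 [])], [.dead 1 0 0]], .bound 2 0 [[], []]]]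

/-- Certificate. -/
def certTree18_1 : Tree := .bound 2 72 [[.bound 1 114 [[.force 0 1 0 (.dead 0 0 1), .force 0 1 0 (.dead 0 0 1)], [.force 0 0 1 (.quot 0 1), .dead 0 0 1]]], [.bound 2 82 [[], [.bound 2 106 [[.force 1 0 0 (.bound 2 0 [])], [.dead 1 0 0, .dead 1 0 0]], .bound 2 0 [[], []]]], .bound 2 16 [[], [.bound 2 0 [[], []]]]]]

theorem configOk18 : tableOk (configs.getD 18 []) [certTree18_0, certTree18_1] = true := by
  decide +kernel

end CfsgLib.Invol.UThreeFour
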