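import Cfsg.Agent.Lib.Invol.UThreeFour.Cases

/-!
Search certificates for the reduced degree systems of PSU(3,4), generated by `notes/u34_py/h12/emit.py`.
-/

set_option autoImplicit false
set_option maxHeartbeats 0
set_option maxRecDepth 100000

namespace CfsgLib.Invol.UThreeFour

open Search

/-- Certificate. -/
def certTree3_0 : Tree := .bound 0 51 [[.bound 0 5 [[], []]], [.force 0 1 0 (.bound 0 0 [[], []]), .force 0 1 0 (.bound 0 83 [[.dead 1 0 0, .force 1 0 0 (.quot 1 0)]])], []]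

/-- Certificate. -/
def certTree3_1 : Tree := .bound 0 51 [[.bound 0 5 [[], []]], [.force 0 1 0 (.bound 0 0 [[], []]), .force 0 1 0 (.bound 0 83 [[.dead 1 0 0, .force 1 0 0 (.quot 1 0)]])], []]

/-- Certificate. -/
def certTree3_2 : Tree := .bound 0 50 [[.bound 0 14 [[.bound 0 4 [[]]], [.force 0 1 0 (.bound 0 16 [[]])]]], [.force 0 1 0 (.bound 1 51 [[], [.bound 1 59 [[]]]])]]

/-- Certificate. -/
def certTree3_3 : Tree := .bound 0 50 [[.bound 0 14 [[.bound 0 4 [[]]], [.force 0 1 0 (.bound 0 16 [[]])]]], [.force 0 1 0 (.bound 1 63 [[], [.bound 0 85 [[.bound 0 0 [[], []], .bound 0 97 [[.dead 1 0 0], [.force 1 0 0 (.quot 1 0)]]], [.bound 0 86 [[]]]]], [.bound 1 0 []]])]]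

/-- Certificate. -/
def certTree3_4 : Tree := .bound 0 51 [[.bound 0 15 [[.bound 0 5 [[], []]], [.force 0 1 0 (.bound 0 17 [[], []])], []]], [.force 0 1 0 (.bound 0 0 [[], []]), .force 0 1 0 (.bound 0 83 [[.bound 0 0 [[]], .bound 0 91 [[.force 1 0 0 (.quot 1 0)]]]])], []]

/-- Certificate. -/
def certTree3_5 : Tree := .bound 0 51 [[.bound 0 15 [[.bound 0 5 [[], []]], [.force 0 1 0 (.bound 0 17 [[], []])], []]], [.force 0 1 0 (.bound 0 0 [[], []]), .force 0 1 0 (.bound 0 83 [[.bound 0 0 [[]], .bound 0 91 [[.force 1 0 0 (.quot 1 0)]]]])], []]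

theorem configOk3 : tableOk (configs.getD 3 []) [certTree3_0, certTree3_1, certTree3_2, certTree3_3, certTree3_4, certTree3_5] = true := by
  decide +kernel

/-- Certificate. -/
def certTree5_0 : Tree := .bound 0 67 [[.bound 0 35 [[], [.bound 0 0 [[], [], []]], [], []], .bound 3 88 [[.bound 1 8 [[], []], .bound 1 0 [[], []]], [.bound 3 99 [[.bound 1 47 [[], []]], [.bound 3 100 [[], [.force 0 1 0 (.bound 1 0 [[]]), .dead 0 1 0]], .bound 3 0 [[], []]]], .bound 3 0 [[], []], .bound 3 4 [[], []]], [.bound 3 70 [[], [], [.bound 3 89 [[], [.dead 0 1 0]], .bound 3 87 [[], [.force 0 1 0 (.bound 3 0 [])]]]], .bound 3 0 [[], [], []]]]], [.bound 0 91 [[.bound 0 109 [[.bound 0 54 [[]]], [.bound 0 34 [[], [], []], .bound 0 113 [[], [.bound 0 118 [[.force 0 1 0 (.dead 1 0 0)], [.force 1 0 0 (.force 0 1 0 (.quot 1 0))]]], [.force 1 0 0 (.bound 1 0 [[]])]]], [.force 1 0 0 (.bound 1 0 [[]])]]], [.bound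 0 27 [[], [], []], .bound 0 92 [[], [.bound 0 93 [[], [.force 1 0 0 (.bound 1 0 [])]]], [.force 1 0 0 (.bound 1 0 [[]])]]], [.force 1 0 0 (.bound 1 0 [[]])]], .bound 0 0 [[], [], []]], [.bound 0 17 [[], [], [], []], .bound 0 35 [[], [], [], []]], [.bound 0 0 [[], [], []]]]

/-- Certificate. -/
def certTree5_1 : Tree := .bound 0 66 [[.bound 0 34 [[], [.bound 0 2 [[], [], []]], []], .bound 3 88 [[.bound 1 8 [[], [], []], .bound 3 0 [[], []]], [.bound 3 99 [[.bound 1 48 [[], [], []]], [.bound 3 100 [[], [.force 0 1 0 (.bound 3 0 []), .dead 0 1 0]], .bound 3 0 [[], []]]], .bound 3 0 [[], []], .bound 3 4 [[], []]], [.bound 3 70 [[], [], [.bound 3 89 [[], [.dead 0 1 0]], .bound 3 87 [[], [.force 0 1 0 (.bound 3 0 [])]]]], .bound 3 0 [[], [], []]]]], [.bound 0 72 [[], [.bound 0 88 [[.bound 0 103 [[.bound 0 82 [[.bound 0 97 [[.force 0 1 0 (.force 1 0 0 (.quot 1 0)), .force 0 1 0 (.force 1 0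 0 (.quot 1 0))], [.force 1 0 0 (.force 0 1 0 (.quot 1 0))]], .bound 0 27 [[], []]], [.force 1 0 0 (.force 0 4 (-1) (.quot 4 1))]]], [.bound 0 0 [[], []], .bound 0 107 [[], [.bound 0 111 [[]]]]]]], [.bound 0 0 [[], []], .bound 0 89 [[], [.bound 0 90 [[]]]]]]], [.bound 0 0 [[], [], []], .bound 0 0 [[], [], []]]], .bound 0 3 [[], [], []]], [.bound 0 0 [[], [], []], .bound 0 0 [[], [], []]]]

/-- Certificate. -/
def certTree5_2 : Tree := .bound 0 66 [[.bound 0 34 [[], [.bound 0 2 [[], [], []]], []], .bound 3 88 [[.bound 1 3 [[], [], []], .bound 3 0 [[], []]], [.bound 3 99 [[.bound 1 27 [[], [], []]], [.bound 3 100 [[], [.force 0 1 0 (.bound 3 0 []), .dead 0 1 0]], .bound 3 0 [[], []]]], .bound 3 0 [[], []], .bound 3 4 [[], []]], [.bound 3 70 [[], [], [.bound 3 89 [[], [.dead 0 1 0]], .bound 3 87 [[], [.force 0 1 0 (.bound 3 0 [])]]]], .bound 3 0 [[], [], []]]]], [.bound 0 72 [[], [.bound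 0 88 [[.bound 0 103 [[.bound 0 82 [[.bound 0 97 [[.force 0 1 0 (.force 1 0 0 (.quot 1 0)), .force 0 1 0 (.force 1 0 0 (.quot 1 0))], [.force 1 0 0 (.force 0 1 0 (.quot 1 0))]], .bound 0 27 [[], []]], [.force 1 0 0 (.bound 1 0 [[], []])]]], [.bound 0 0 [[], []], .bound 0 107 [[], [.bound 0 111 [[]]]]]]], [.bound 0 0 [[], []], .bound 0 89 [[], [.bound 0 90 [[]]]]]]], [.bound 0 0 [[], [], []], .bound 0 0 [[], [], []]]], .bound 0 3 [[], [], []]], [.bound 0 0 [[], [], []], .bound 0 0 [[], [], []]]]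

/-- Certificate. -/
def certTree5_3 : Tree := .bound 0 67 [[.bound 0 35 [[], [.bound 0 3 [[], [], [], []]], [], []], .bound 3 88 [[.bound 1 8 [[], []], .bound 1 0 [[], []]], [.bound 3 99 [[.bound 1 47 [[], []]], [.bound 3 100 [[], [.force 0 1 0 (.bound 1 0 [[]]), .dead 0 1 0]], .bound 3 0 [[], []]]], .bound 3 0 [[], []], .bound 3 4 [[], []]], [.bound 3 70 [[], [], [.bound 3 89 [[], [.dead 0 1 0]], .bound 3 87 [[], [.force 0 1 0 (.bound 3 0 [])]]]], .bound 3 0 [[], [], []]]]], [.bound 0 73 [[], [.bound 0 91 [[.bound 0 109 [[.bound 0 54 [[]]], [.bound 0 34 [[], [], []], .bound 0 113 [[], [.bound 0 118 [[.force 0 1 0 (.dead 1 0 0)], [.force 1 0 0 (.force 0 1 0 (.quot 1 0))]]], [.force 1 0 0 (.bound 1 0 [[]])]]], [.force 1 0 0 (.bound 1 0 [[]])]]], [.bound 0 27 [[], [], []], .bound 0 92 [[], [.bound 0 93 [[], [.force 1 0 0 (.bound 1 0 [])]]], [.force 1 0 0 (.bound 1 0 [[]])]]], [.force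 1 0 0 (.bound 1 0 [[]])]]], [.bound 0 22 [[], [], [], []], .bound 0 70 [[], [], [.bound 0 74 [[], [], [.bound 0 0 [[], []]]]], [.bound 0 74 [[], [], []]]]], [.bound 0 0 [[], [], []]]], .bound 0 5 [[], [], [], []]], [.bound 0 17 [[], [], [], []], .bound 0 35 [[], [], [], []]], [.bound 0 0 [[], [], []]]]

theorem configOk5 : tableOk (configs.getD 5 []) [certTree5_0, certTree5_1, certTree5_2, certTree5_3] = true := by
  decide +kernel

/-- Certificate. -/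
def certTree7_0 : Tree := .bound 0 151 [[.bound 1 202 [[.force 0 1 0 (.bound 1 129 [[.bound 1 159 [[.force 0 0 1 (.quot 0 1), .dead 0 0 1], [.force 1 0 0 (.quot 1 0), .force 1 0 0 (.quot 1 0), .force 1 0 0 (.quot 1 0), .force 1 0 0 (.quot 1 0)]]], [.force 1 0 0 (.quot 1 0), .force 1 0 0 (.quot 1 0), .force 1 0 0 (.quot 1 0)]]), .dead 0 1 0, .force 0 1 0 (.bound 1 22 [[]]), .dead 0 1 0, .force 0 1 0 (.bound 3 0 []), .dead 0 1 0], [.force 0 1 0 (.bound 3 0 []), .force 0 1 0 (.bound 3 0 []), .dead 0 1 0, .dead 0 1 0, .dead 0 1 0, .force 0 1 0 (.bound 1 92 [[.bound 1 98 [[.dead 0 0 1], [.force 1 0 0 (.quot 1 0), .force 1 0 0 (.quot 1 0)]]], [.force 1 0 0 (.quot 1 0), .force 1 0 0 (.quot 1 0)]])], [.bound 1 209 [[], [.force 0 1 0 (.bound 1 65 [[], [.force 1 0 0 (.quot 1 0)]])], [.force 0 2 (-1) (.bound 1 0 [[], []]), .dead 0 2 (-1)], [.dead 0 2 (-1), .dead 0 2 (-1), .dead 0 2 (-1), .dead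 0 2 (-1), .dead 0 2 (-1), .force 0 2 (-1) (.bound 1 0 [[], []])]], .bound 1 231 [[.dead 0 1 0, .dead 0 1 0], [.force 0 1 0 (.bound 1 86 [[.dead 0 0 1], [.force 1 0 0 (.quot 1 0), .force 1 0 0 (.quot 1 0)]])], [.dead 0 2 (-1), .force 0 2 (-1) (.bound 1 0 [[], []]), .dead 0 2 (-1)], [.dead 0 2 (-1), .dead 0 2 (-1), .dead 0 2 (-1), .dead 0 2 (-1), .force 0 2 (-1) (.bound 1 0 [[], []]), .force 0 2 (-1) (.bound 1 0 [[], []])]]], [.bound 1 0 [[], [], []], .bound 1 228 [[.force 1 0 0 (.dead 0 1 0)], [.force 0 1 0 (.force 1 0 0 (.quot 1 0))], [.dead 0 2 (-1)]], .bound 0 94 [[.force 1 0 0 (.dead 0 1 0), .dead 1 0 0, .dead 1 0 0], []], .bound 1 0 [[], [], []], .bound 1 0 [[], [], []], .bound 1 0 [[], [], []]]], .bound 0 71 [[.bound 0 42 [[.force 0 1 0 (.force 1 0 0 (.quot 1 0))], []], .bound 0 150 [[.force 0 1 0 (.force 1 0 0 (.quot 1 0)), .force 0 1 0 (.force 1 0 0 (.quot 1 0)), .force 0 1 0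 (.force 1 0 0 (.quot 1 0)), .force 0 1 0 (.force 1 0 0 (.quot 1 0)), .force 0 1 0 (.force 1 0 0 (.quot 1 0))], [.force 1 0 0 (.dead 0 1 0), .force 1 0 0 (.dead 0 1 0), .force 1 0 0 (.dead 0 1 0), .force 1 0 0 (.dead 0 1 0)]]], [.force 0 1 0 (.bound 3 0 []), .force 0 1 0 (.bound 1 36 [[]])], [.bound 0 110 [[.force 1 0 0 (.dead 0 1 0)], [.force 0 1 0 (.force 1 0 0 (.quot 1 0))]]]]], [.bound 0 156 [[], [.force 0 1 0 (.bound 3 0 []), .force 0 1 0 (.bound 3 0 []), .force 0 1 0 (.bound 1 21 [[], []]), .force 0 1 0 (.bound 0 186 [[.force 1 0 0 (.quot 1 0)], [.dead 1 0 0, .dead 1 0 0, .dead 1 0 0, .dead 1 0 0, .dead 1 0 0]]), .force 0 1 0 (.bound 0 159 [[], [.dead 1 0 0, .dead 1 0 0, .dead 1 0 0, .dead 1 0 0]])], [.bound 0 164 [[], []], .bound 0 263 [[.force 1 0 0 (.dead 0 1 0), .force 1 0 0 (.force 0 1 0 (.quot 1 0))], [.force 0 1 0 (.force 1 0 0 (.quot 1 0)), .force 0 1 0 (.dead 1 0 0), .force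 0 1 0 (.dead 1 0 0)]], .bound 0 0 [[], []], .bound 0 0 [[], []]]], .bound 0 195 [[.bound 0 253 [[.force 0 1 0 (.force 1 0 0 (.quot 1 0)), .force 0 1 0 (.force 1 0 0 (.quot 1 0)), .force 0 1 0 (.dead 1 0 0), .force 0 1 0 (.force 1 0 0 (.quot 1 0)), .force 0 1 0 (.force 1 0 0 (.quot 1 0)), .force 0 1 0 (.force 1 0 0 (.quot 1 0)), .force 0 1 0 (.force 1 0 0 (.quot 1 0)), .force 0 1 0 (.force 1 0 0 (.quot 1 0))], [.force 1 0 0 (.dead 0 1 0), .force 1 0 0 (.dead 0 1 0), .force 1 0 0 (.dead 0 1 0), .force 1 0 0 (.dead 0 1 0), .force 1 0 0 (.dead 0 1 0), .force 1 0 0 (.dead 0 1 0), .force 1 0 0 (.dead 0 1 0)]]], [.force 0 1 0 (.bound 3 0 []), .force 0 1 0 (.bound 3 0 []), .force 0 1 0 (.bound 3 0 []), .force 0 1 0 (.bound 0 52 [[]]), .force 0 1 0 (.bound 0 255 [[.force 1 0 0 (.quot 1 0)], [.dead 1 0 0, .dead 1 0 0, .dead 1 0 0, .dead 1 0 0, .dead 1 0 0, .dead 1 0 0, .dead 1 0 0]]), .force 0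 1 0 (.bound 0 207 [[], [.dead 1 0 0, .dead 1 0 0, .dead 1 0 0, .dead 1 0 0, .dead 1 0 0, .dead 1 0 0]])], [.bound 0 229 [[], [.force 0 1 0 (.dead 1 0 0)]], .bound 0 481 [[.force 1 0 0 (.dead 0 1 0), .force 1 0 0 (.force 0 1 0 (.quot 1 0)), .force 1 0 0 (.dead 0 1 0), .force 1 0 0 (.dead 0 1 0)], [.force 0 1 0 (.force 1 0 0 (.quot 1 0)), .force 0 1 0 (.force 1 0 0 (.quot 1 0)), .force 0 1 0 (.force 1 0 0 (.quot 1 0)), .force 0 1 0 (.dead 1 0 0), .force 0 1 0 (.dead 1 0 0), .force 0 1 0 (.dead 1 0 0), .force 0 1 0 (.dead 1 0 0), .force 0 1 0 (.dead 1 0 0), .force 0 1 0 (.dead 1 0 0)]], .bound 0 0 [[], []], .bound 0 0 [[], []], .bound 0 0 [[], []]]], .bound 0 29 [[], [.force 0 1 0 (.bound 1 39 [[], []])], []], .bound 0 79 [[], [.force 0 1 0 (.bound 3 0 []), .force 0 1 0 (.bound 1 24 [[], []]), .force 0 1 0 (.bound 0 119 [[.force 1 0 0 (.quot 1 0)], [.dead 1 0 0, .dead 1 0 0, .dead 1 0 0]])],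 [.bound 0 136 [[.force 1 0 0 (.dead 0 1 0)], [.force 0 1 0 (.force 1 0 0 (.quot 1 0))]], .bound 0 0 [[], []]]], .bound 0 92 [[], [.force 0 1 0 (.bound 3 0 []), .force 0 1 0 (.bound 1 23 [[], []]), .force 0 1 0 (.bound 0 132 [[.force 1 0 0 (.quot 1 0)], [.dead 1 0 0, .dead 1 0 0, .dead 1 0 0]])], [.bound 0 157 [[.force 1 0 0 (.dead 0 1 0)], [.force 0 1 0 (.force 1 0 0 (.quot 1 0)), .force 0 1 0 (.dead 1 0 0)]], .bound 0 0 [[], []]]]], [.force 0 1 0 (.bound 3 0 []), .force 0 1 0 (.bound 3 0 []), .force 0 1 0 (.bound 1 21 [[], []]), .force 0 1 0 (.bound 0 173 [[.bound 0 181 [[.force 1 0 0 (.quot 1 0)], [.force 1 0 0 (.quot 1 0), .force 1 0 0 (.quot 1 0), .force 1 0 0 (.quot 1 0), .force 1 0 0 (.quot 1 0)]]], [], [.bound 1 229 [[]], .bound 1 0 [[]], .bound 0 0 [[], []], .bound 0 0 [[], []]]]), .force 0 1 0 (.bound 0 152 [[], [], [.bound 0 158 [[], []], .bound 1 189 [[.force 1 0 0 (.quot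 1 0)]], .bound 0 0 [[], []], .bound 0 0 [[], []]]])], [.bound 0 155 [[], [], []], .bound 0 223 [[.bound 1 564 [[.force 1 0 0 (.force 0 1 0 (.quot 1 0)), .force 1 0 0 (.dead 0 1 0), .force 1 0 0 (.force 0 1 0 (.quot 1 0)), .force 1 0 0 (.dead 0 1 0), .force 1 0 0 (.dead 0 1 0), .force 1 0 0 (.dead 0 1 0), .force 1 0 0 (.dead 0 1 0), .force 1 0 0 (.dead 0 1 0), .force 1 0 0 (.dead 0 1 0), .force 1 0 0 (.dead 0 1 0), .dead 1 0 0, .dead 1 0 0, .dead 1 0 0, .dead 1 0 0, .dead 1 0 0, .force 1 0 0 (.dead 0 1 0), .force 1 0 0 (.force 0 1 0 (.quot 1 0)), .force 1 0 0 (.dead 0 1 0)], [.force 0 1 0 (.force 1 0 0 (.quot 1 0)), .force 0 1 0 (.force 1 0 0 (.quot 1 0)), .force 0 1 0 (.force 1 0 0 (.quot 1 0)), .force 0 1 0 (.force 1 0 0 (.quot 1 0)), .force 0 1 0 (.force 1 0 0 (.quot 1 0)), .dead 0 1 0, .dead 0 1 0, .dead 0 1 0, .dead 0 1 0, .force 0 1 0 (.force 1 0 0 (.quot 1 0)), .force 0 1 0 (.force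 1 0 0 (.quot 1 0)), .force 0 1 0 (.force 1 0 0 (.quot 1 0)), .force 0 1 0 (.force 1 0 0 (.quot 1 0))], [.dead 0 2 (-1), .dead 0 2 (-1), .dead 0 2 (-1), .dead 0 2 (-1), .dead 0 2 (-1), .dead 0 2 (-1), .dead 0 2 (-1), .dead 0 2 (-1)]]], [.bound 0 233 [[.force 1 0 0 (.force 0 1 0 (.quot 1 0))], [.force 0 1 0 (.dead 1 0 0), .force 0 1 0 (.dead 1 0 0)]], .bound 0 0 [[], []]], [.force 0 1 0 (.bound 0 0 [[], []]), .force 0 1 0 (.bound 0 227 [[], []])]], .bound 0 0 [[], [], []], .bound 0 0 [[], [], []]]]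

/-- Certificate. -/
def certTree7_1 : Tree := .bound 0 151 [[.bound 1 173 [[.force 0 1 0 (.bound 1 76 [[.force 1 0 0 (.quot 1 0), .force 1 0 0 (.quot 1 0)]]), .dead 0 1 0, .force 0 1 0 (.bound 1 38 [[], []]), .dead 0 1 0, .force 0 1 0 (.bound 3 0 []), .dead 0 1 0], [.force 0 1 0 (.bound 3 0 []), .dead 0 1 0, .dead 0 1 0, .dead 0 1 0, .force 0 1 0 (.bound 1 54 [[.force 1 0 0 (.quot 1 0)]])], [.bound 1 188 [[], [.force 0 1 0 (.force 1 0 0 (.quot 1 0))]], .bound 0 103 [[.force 1 0 0 (.dead 0 1 0), .dead 1 0 0, .dead 1 0 0], []], .bound 1 0 [[], []], .bound 1 0 [[], []]]], .bound 0 71 [[.bound 0 42 [[.force 0 1 0 (.force 1 0 0 (.quot 1 0))], []], .bound 0 150 [[.force 0 1 0 (.force 1 0 0 (.quot 1 0)), .force 0 1 0 (.force 1 0 0 (.quot 1 0)), .force 0 1 0 (.force 1 0 0 (.quot 1 0)), .force 0 1 0 (.force 1 0 0 (.quot 1 0)), .force 0 1 0 (.force 1 0 0 (.quot 1 0))], [.force 1 0 0 (.dead 0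 1 0), .force 1 0 0 (.dead 0 1 0), .force 1 0 0 (.dead 0 1 0), .force 1 0 0 (.dead 0 1 0)]]], [.force 0 1 0 (.bound 3 0 []), .force 0 1 0 (.bound 0 16 [[], []])], [.bound 0 110 [[.force 1 0 0 (.dead 0 1 0)], [.force 0 1 0 (.force 1 0 0 (.quot 1 0))]]]]], [.bound 0 156 [[], [.force 0 1 0 (.bound 3 0 []), .force 0 1 0 (.bound 3 0 []), .force 0 1 0 (.bound 1 35 [[], [], []]), .force 0 1 0 (.bound 0 186 [[.force 1 0 0 (.quot 1 0)], [.dead 1 0 0, .dead 1 0 0, .dead 1 0 0, .dead 1 0 0, .dead 1 0 0]]), .force 0 1 0 (.bound 1 131 [[.dead 1 0 0, .dead 1 0 0, .dead 1 0 0]])], [.bound 0 164 [[], []], .bound 0 263 [[.force 1 0 0 (.dead 0 1 0), .force 1 0 0 (.force 0 1 0 (.quot 1 0))], [.force 0 1 0 (.force 1 0 0 (.quot 1 0)), .force 0 1 0 (.dead 1 0 0), .force 0 1 0 (.dead 1 0 0)]], .bound 0 0 [[], []], .bound 0 0 [[], []]]], .bound 0 195 [[.bound 0 253 [[.force 0 1 0 (.force 1 0 0 (.quot 1 0)),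 .force 0 1 0 (.force 1 0 0 (.quot 1 0)), .force 0 1 0 (.dead 1 0 0), .force 0 1 0 (.force 1 0 0 (.quot 1 0)), .force 0 1 0 (.force 1 0 0 (.quot 1 0)), .force 0 1 0 (.force 1 0 0 (.quot 1 0)), .force 0 1 0 (.force 1 0 0 (.quot 1 0)), .force 0 1 0 (.force 1 0 0 (.quot 1 0))], [.force 1 0 0 (.dead 0 1 0), .force 1 0 0 (.dead 0 1 0), .force 1 0 0 (.dead 0 1 0), .force 1 0 0 (.dead 0 1 0), .force 1 0 0 (.dead 0 1 0), .force 1 0 0 (.dead 0 1 0), .force 1 0 0 (.dead 0 1 0)]]], [.force 0 1 0 (.bound 3 0 []), .force 0 1 0 (.bound 3 0 []), .force 0 1 0 (.bound 3 0 []), .force 0 1 0 (.bound 0 52 [[]]), .force 0 1 0 (.bound 0 255 [[.force 1 0 0 (.quot 1 0)], [.dead 1 0 0, .dead 1 0 0, .dead 1 0 0, .dead 1 0 0, .dead 1 0 0, .dead 1 0 0, .dead 1 0 0]]), .force 0 1 0 (.bound 1 131 [[.dead 1 0 0, .dead 1 0 0, .dead 1 0 0]])], [.bound 0 229 [[], [.force 0 1 0 (.dead 1 0 0)]], .bound 0 481 [[.force 1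 0 0 (.dead 0 1 0), .force 1 0 0 (.force 0 1 0 (.quot 1 0)), .force 1 0 0 (.dead 0 1 0), .force 1 0 0 (.dead 0 1 0)], [.force 0 1 0 (.force 1 0 0 (.quot 1 0)), .force 0 1 0 (.force 1 0 0 (.quot 1 0)), .force 0 1 0 (.force 1 0 0 (.quot 1 0)), .force 0 1 0 (.dead 1 0 0), .force 0 1 0 (.dead 1 0 0), .force 0 1 0 (.dead 1 0 0), .force 0 1 0 (.dead 1 0 0), .force 0 1 0 (.dead 1 0 0), .force 0 1 0 (.dead 1 0 0)]], .bound 0 0 [[], []], .bound 0 0 [[], []], .bound 0 0 [[], []]]], .bound 0 29 [[], [.force 0 1 0 (.bound 1 51 [[.force 1 0 0 (.quot 1 0)], [], []])], []], .bound 0 79 [[], [.force 0 1 0 (.bound 3 0 []), .force 0 1 0 (.bound 1 41 [[], [], []]), .force 0 1 0 (.bound 0 119 [[.force 1 0 0 (.quot 1 0)], [.dead 1 0 0, .dead 1 0 0, .dead 1 0 0]])], [.bound 0 136 [[.force 1 0 0 (.dead 0 1 0)], [.force 0 1 0 (.force 1 0 0 (.quot 1 0))]], .bound 0 0 [[], []]]], .bound 0 92 [[], [.force 0 1 0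 (.bound 3 0 []), .force 0 1 0 (.bound 1 39 [[], [], []]), .force 0 1 0 (.bound 0 132 [[.force 1 0 0 (.quot 1 0)], [.dead 1 0 0, .dead 1 0 0, .dead 1 0 0]])], [.bound 0 157 [[.force 1 0 0 (.dead 0 1 0)], [.force 0 1 0 (.force 1 0 0 (.quot 1 0)), .force 0 1 0 (.dead 1 0 0)]], .bound 0 0 [[], []]]]], [.force 0 1 0 (.bound 3 0 []), .force 0 1 0 (.bound 3 0 []), .force 0 1 0 (.bound 1 35 [[], [], []]), .force 0 1 0 (.bound 0 173 [[.bound 1 111 [[.force 1 0 0 (.quot 1 0), .force 1 0 0 (.quot 1 0)]]], [], [.bound 0 191 [[], [.dead 1 0 0]], .bound 1 147 [[], [.bound 1 318 [[.force 1 0 0 (.quot 1 0), .force 1 0 0 (.quot 1 0), .force 1 0 0 (.quot 1 0)], [.dead 0 0 1, .dead 0 0 1, .dead 0 0 1, .dead 0 0 1, .dead 0 0 1]], .bound 1 179 [[.force 1 0 0 (.quot 1 0)], [.dead 0 0 1]]]], .bound 0 0 [[], []], .bound 0 0 [[], []]]]), .force 0 1 0 (.bound 1 131 [[.bound 0 251 [[.force 1 0 0 (.quot 1 0), .force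 1 0 0 (.quot 1 0)], [.dead 1 0 0, .dead 1 0 0, .dead 1 0 0]], .bound 0 0 [[], []], .bound 0 0 [[], []]]])], [.bound 0 155 [[], [], []], .bound 0 223 [[.bound 1 466 [[.force 1 0 0 (.force 0 1 0 (.quot 1 0)), .force 1 0 0 (.dead 0 1 0), .force 1 0 0 (.dead 0 1 0), .force 1 0 0 (.dead 0 1 0), .force 1 0 0 (.dead 0 1 0), .force 1 0 0 (.dead 0 1 0), .force 1 0 0 (.dead 0 1 0), .force 1 0 0 (.dead 0 1 0), .dead 1 0 0, .dead 1 0 0, .dead 1 0 0, .dead 1 0 0, .dead 1 0 0, .force 1 0 0 (.dead 0 1 0)], [.force 0 1 0 (.force 1 0 0 (.quot 1 0)), .force 0 1 0 (.force 1 0 0 (.quot 1 0)), .force 0 1 0 (.force 1 0 0 (.quot 1 0)), .force 0 1 0 (.force 1 0 0 (.quot 1 0)), .dead 0 1 0, .dead 0 1 0, .force 0 1 0 (.force 1 0 0 (.quot 1 0)), .force 0 1 0 (.force 1 0 0 (.quot 1 0)), .force 0 1 0 (.force 1 0 0 (.quot 1 0)), .force 0 1 0 (.force 1 0 0 (.quot 1 0))]]], [.bound 0 233 [[.force 1 0 0 (.force 0 1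 0 (.quot 1 0))], [.force 0 1 0 (.dead 1 0 0), .force 0 1 0 (.dead 1 0 0)]], .bound 0 0 [[], []]], [.force 0 1 0 (.bound 0 0 [[], []]), .force 0 1 0 (.bound 0 227 [[], []])]], .bound 0 0 [[], [], []], .bound 0 0 [[], [], []]]]

theorem configOk7 : tableOk (configs.getD 7 []) [certTree7_0, certTree7_1] = true := by
  decide +kernel

/-- Certificate. -/
def certTree9_0 : Tree := .bound 0 51 [[.bound 0 5 [[], []]], [.force 0 1 0 (.bound 0 0 [[], []]), .force 0 1 0 (.bound 1 38 [[], []])], []]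

/-- Certificate. -/
def certTree9_1 : Tree := .bound 0 42 [[.bound 0 0 [[], []]], [.bound 0 107 [[.bound 0 29 [[]], .bound 0 0 [[]]], [.bound 0 109 [[]]]]], []]

/-- Certificate. -/
def certTree9_2 : Tree := .bound 0 50 [[.bound 0 14 [[.bound 0 4 [[]]], [.force 0 1 0 (.bound 0 16 [[]])]]], [.force 0 1 0 (.bound 1 38 [[], [], []])]]

/-- Certificate. -/
def certTree9_3 : Tree := .bound 0 50 [[.bound 0 14 [[.bound 0 4 [[]]], [.force 0 1 0 (.bound 0 16 [[]])]]], [.force 0 1 0 (.bound 1 32 [[], [], []])]]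

/-- Certificate. -/
def certTree9_4 : Tree := .bound 0 41 [[.bound 0 9 [[], []]], [.bound 0 104 [[.bound 3 157 [[.dead 0 1 0, .dead 0 1 0, .dead 0 1 0, .force 0 1 0 (.bound 2 0 [[]]), .force 0 1 0 (.bound 2 0 [[]])], [.dead 0 1 0, .dead 0 1 0]], .bound 0 0 [[]]]]]]

/-- Certificate. -/
def certTree9_5 : Tree := .bound 0 41 [[.bound 0 9 [[], []]], [.bound 0 104 [[.bound 3 157 [[.dead 0 1 0, .dead 0 1 0, .dead 0 1 0, .force 0 1 0 (.bound 2 0 [[]]), .force 0 1 0 (.bound 2 0 [[]])], [.dead 0 1 0, .dead 0 1 0]], .bound 0 0 [[]]]]]]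

/-- Certificate. -/
def certTree9_6 : Tree := .bound 0 51 [[.bound 0 15 [[.bound 0 5 [[], []]], [.force 0 1 0 (.bound 0 17 [[], []])], []]], [.force 0 1 0 (.bound 0 0 [[], []]), .force 0 1 0 (.bound 1 38 [[], []])], []]

/-- Certificate. -/
def certTree9_7 : Tree := .bound 0 42 [[.bound 0 10 [[], [], []]], [.bound 0 107 [[.bound 3 157 [[.dead 0 1 0, .dead 0 1 0, .dead 0 1 0, .force 0 1 0 (.bound 2 0 [[], []]), .force 0 1 0 (.bound 2 0 [[], []])], [.dead 0 1 0, .dead 0 1 0]], .bound 0 3 [[], []]], [.bound 0 109 [[]]]]], []]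

/-- Certificate. -/
def certTree9_8 : Tree := .bound 0 33 [[.bound 0 0 [[], []]], []]

theorem configOk9 : tableOk (configs.getD 9 []) [certTree9_0, certTree9_1, certTree9_2, certTree9_3, certTree9_4, certTree9_5, certTree9_6, certTree9_7, certTree9_8] = true := by
  decide +kernel

/-- Certificate. -/
def certTree11_0 : Tree := .bound 2 114 [[.bound 0 99 [[.bound 0 43 [[.dead 1 0 0], [.force 0 1 0 (.bound 0 0 [[]])], [], []], .bound 3 22 [[.force 0 1 0 (.bound 3 0 [])], []], .bound 0 114 [[.dead 1 0 0, .dead 1 0 0, .dead 1 0 0], [.force 0 1 0 (.bound 0 0 [[], []]), .dead 0 1 0, .force 0 1 0 (.bound 0 193 [[.dead 1 0 0, .dead 1 0 0, .dead 1 0 0], [.force 1 0 0 (.quot 1 0), .force 1 0 0 (.quot 1 0), .force 1 0 0 (.quot 1 0)]])], [.dead 0 1 0, .dead 0 1 0], [.force 1 0 0 (.bound 0 0 [[], []])]]], [.dead 1 0 0, .dead 1 0 0, .dead 1 0 0], [.bound 0 3 [[], [], [], []], .bound 0 0 [[], [],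 []], .bound 0 117 [[.force 0 1 0 (.bound 0 3 [[], []])], [.dead 1 0 0], [.dead 0 1 0, .dead 0 1 0], [.force 1 0 0 (.bound 0 0 [[], []])]]], [.bound 0 24 [[], [], [], []], .bound 0 100 [[], [], [], [.force 1 0 0 (.bound 0 0 [[], []])]]], [.force 1 0 0 (.bound 0 0 [[], [], []])]], .bound 1 158 [[.bound 1 111 [[.force 0 1 0 (.bound 1 105 [[.dead 0 0 1, .dead 0 0 1]]), .force 0 1 0 (.bound 0 82 [[.dead 1 0 0, .dead 1 0 0, .dead 1 0 0]])], [.bound 1 0 [[]], .bound 1 0 [[], []], .bound 1 39 [[], []]]], .bound 1 91 [[.force 0 1 0 (.bound 1 87 [[.dead 0 0 1, .dead 0 0 1]]), .force 0 1 0 (.bound 1 92 [[.dead 0 0 1, .force 0 0 1 (.quot 0 1)]])], [.bound 1 0 [[]], .bound 1 0 [[], []]]], .bound 0 20 [[.dead 0 1 0], [.dead 1 0 0], []], .bound 0 67 [[.force 0 1 0 (.bound 0 96 [[.dead 1 0 0, .dead 1 0 0, .dead 1 0 0]]), .force 0 1 0 (.bound 3 0 [])], [.dead 1 0 0, .dead 1 0 0], [.dead 0 1 0, .force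 0 1 0 (.bound 0 0 [[]])]], .bound 1 162 [[.force 0 1 0 (.bound 0 67 [[.dead 1 0 0, .dead 1 0 0]]), .force 0 1 0 (.bound 0 57 [[.dead 1 0 0, .dead 1 0 0]]), .force 0 1 0 (.bound 0 46 [[.dead 1 0 0]]), .force 0 1 0 (.bound 0 45 [[.dead 1 0 0]])], [.bound 1 0 [[]], .bound 1 0 [[]], .bound 1 0 [[], []], .bound 1 0 [[], []]]]], [.bound 1 151 [[], [.bound 1 0 [[]], .bound 1 0 [[]], .bound 1 0 [[], []], .bound 1 9 [[], []]]], .bound 1 148 [[], [.bound 1 0 [[]], .bound 1 0 [[], []], .bound 1 14 [[], []]]], .bound 1 162 [[], [.bound 1 0 [[]], .bound 1 0 [[]], .bound 1 0 [[], []], .bound 1 4 [[], []]]], .bound 1 159 [[], [.bound 1 0 [[]], .bound 1 0 [[]], .bound 1 0 [[], []], .bound 1 5 [[], []]]]], [.bound 1 0 [[], []], .bound 1 0 [[], []], .bound 1 0 [[], [], []], .bound 1 8 [[], [], []]]]], [.bound 2 142 [[], [.dead 1 0 0, .dead 1 0 0]], .bound 2 0 [[], []], .bound 2 2 [[], []]], [.bound 2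 115 [[], []]]]

theorem configOk11 : tableOk (configs.getD 11 []) [certTree11_0] = true := by
  decide +kernel

/-- Certificate. -/
def certTree13_0 : Tree := .bound 1 79 [[.bound 1 83 [[.bound 1 4 [[]]], [.bound 1 7 [[], []], .bound 1 84 [[], [.dead 0 0 1]]], [.bound 1 84 [[], []]]]], [.bound 1 80 [[]], .bound 1 0 [[]]]]

theorem configOk13 : tableOk (configs.getD 13 []) [certTree13_0] = true := by
  decide +kernel

/-- Certificate. -/
def certTree15_0 : Tree := .bound 0 37 [[.bound 0 63 [[.dead 3 (-4) 1, .dead 3 (-4) 1], [.bound 0 56 [[], [], []]], [.dead 3 (-4) 1]]], [.bound 0 2 [[], [], []]], [], []]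

/-- Certificate. -/
def certTree15_1 : Tree := .bound 0 36 [[.bound 0 60 [[.dead 1 4 (-1), .dead 1 4 (-1)], [], []]], [.bound 0 2 [[], [], []]], [], []]

theorem configOk15 : tableOk (configs.getD 15 []) [certTree15_0, certTree15_1] = true := by
  decide +kernel

/-- Certificate. -/
def certTree17_0 : Tree := .bound 0 101 [[.bound 0 20 [[.force 0 1 0 (.dead 1 0 0)], []]], [.force 0 1 0 (.bound 2 0 [[], []]), .force 0 1 0 (.bound 0 5 [[]]), .force 0 1 0 (.bound 0 108 [[.force 1 0 0 (.quot 1 0)], [.dead 1 0 0, .dead 1 0 0]])], [.bound 0 102 [[], []], .bound 0 0 [[], []]]]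

/-- Certificate. -/
def certTree17_1 : Tree := .bound 0 100 [[.bound 0 19 [[.force 0 1 0 (.dead (-1) 0 1)], []]], [.force 0 1 0 (.bound 0 0 [[], []]), .force 0 1 0 (.bound 0 2 [[]]), .force 0 1 0 (.bound 0 107 [[.dead (-1) 0 1], [.bound 0 0 [[]]]])], [.bound 0 0 [[], []]]]

theorem configOk17 : tableOk (configs.getD 17 []) [certTree17_0, certTree17_1] = true := by
  decide +kernel

/-- Certificate. -/
def certTree19_0 : Tree := .bound 0 101 [[.bound 0 20 [[.force 0 1 0 (.dead 1 0 0)], []]], [.force 0 1 0 (.bound 2 0 [[], []]), .force 0 1 0 (.bound 0 5 [[]]), .force 0 1 0 (.bound 0 108 [[.force 1 0 0 (.quot 1 0)], [.dead 1 0 0, .dead 1 0 0]])], [.bound 0 102 [[], []], .bound 0 0 [[], []]]]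

/-- Certificate. -/
def certTree19_1 : Tree := .bound 0 100 [[.bound 0 19 [[.force 0 1 0 (.dead (-1) 0 1)], []]], [.force 0 1 0 (.bound 0 0 [[], []]), .force 0 1 0 (.bound 0 2 [[]]), .force 0 1 0 (.bound 0 107 [[.dead (-1) 0 1], [.bound 0 0 [[]]]])], [.bound 0 0 [[], []]]]

/-- Certificate. -/
def certTree19_2 : Tree := .bound 0 92 [[.bound 0 11 [[], []]], [.bound 3 157 [[.dead 0 1 0, .dead 0 1 0, .dead 0 1 0, .force 0 1 0 (.bound 2 0 [[], []]), .force 0 1 0 (.bound 2 0 [[], []])], [.dead 0 1 0, .dead 0 1 0]], .bound 0 93 [[], [.bound 0 95 [[]], .bound 0 0 [[]]]]], [.bound 0 0 [[], []], .bound 0 0 [[], []]]]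

/-- Certificate. -/
def certTree19_3 : Tree := .bound 0 91 [[.bound 0 10 [[], []]], [.bound 0 266 [[.bound 0 250 [[.force 0 1 0 (.dead (-1) 0 1), .force 0 1 0 (.force (-1) 0 1 (.quot 1 (-1))), .force 0 1 0 (.dead (-1) 0 1), .force 0 1 0 (.dead (-1) 0 1)], [.bound 0 366 [[.force 0 1 0 (.force 1 0 0 (.quot 1 0))]], .bound 0 279 [[]], .bound 0 258 [[]]]], .bound 0 58 [[.force 0 1 0 (.force (-1) 0 1 (.quot 1 (-1)))], []], .bound 0 21 [[], []]], [.bound 0 0 [[]], .bound 0 267 [[]], .bound 0 270 [[]], .bound 0 277 [[]]]], .bound 0 92 [[], [.bound 0 93 [[]]]]], [.bound 0 0 [[], []]]]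

theorem configOk19 : tableOk (configs.getD 19 []) [certTree19_0, certTree19_1, certTree19_2, certTree19_3] = true := by
  decide +kernel

end CfsgLib.Invol.UThreeFour
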