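import Cfsg.Agent.Lib.Invol.UThreeFour.CertDataA
import Cfsg.Agent.Lib.Invol.UThreeFour.CertDataB
import Cfsg.Agent.Lib.Invol.UThreeFour.CertDataC

/-!
The reduced degree system has only the solution of PSU(3,4).
-/

set_option autoImplicit false

namespace CfsgLib.Invol.UThreeFour

theorem configs_length : configs.length = 20 := rfl

/-- The reduced system is solved. -/
theorem red_solved {Q : ℚ} {l : List (Item × ℤ × ℤ)} (h : Red Q l) (hQ : Q < 0) :
    Q = -32 / 195 ∧ ∃ p ∈ l, p.1.a = -4 ∧ p.2.1 = 12 := by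
  refine solved_of_table (fun c hc => ?_) h hQ
  obtain ⟨i, hi, rfl⟩ := List.getElem_of_mem hc
  have hi' : i < 20 := configs_length ▸ hi
  have e : configs[i] = configs.getD i [] := (List.getD_eq_getElem configs [] hi).symm
  refine e.symm ▸ ?_
  clear e hc hi
  interval_cases i
  exacts [⟨_, configOk0⟩, ⟨_, configOk1⟩, ⟨_, configOk2⟩, ⟨_, configOk3⟩, ⟨_, configOk4⟩, ⟨_, configOk5⟩,
    ⟨_, configOk6⟩, ⟨_, configOk7⟩, ⟨_, configOk8⟩, ⟨_, configOk9⟩, ⟨_, configOk10⟩, ⟨_, configOk11⟩,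
    ⟨_, configOk12⟩, ⟨_, configOk13⟩, ⟨_, configOk14⟩, ⟨_, configOk15⟩, ⟨_, configOk16⟩, ⟨_, configOk17⟩,
    ⟨_, configOk18⟩, ⟨_, configOk19⟩]

end CfsgLib.Invol.UThreeFour
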