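import Cfsg.Agent.Lib.Invol.UThreeFour.Central

/-!
The centralizer of a central involution of a Sylow 2-subgroup of type PSU(3,4): modulo its odd core
it is that subgroup extended by a group of order one or five.
-/

set_option autoImplicit false
set_option linter.unusedSectionVars false
set_option linter.style.haveILetI false

namespace CfsgLib.Invol.UThreeFour

open Subgroup CfsgLib.Invol

universe u

namespace UShape

variable {G : Type u} [Group G] [Finite G] {P : Sylow 2 G} {Z : Subgroup G}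
  (h : UShape (P : Subgroup G) Z)
include h

theorem le_centralizer {z : G} (hz : z ∈ Z) : (P : Subgroup G) ≤ centralizer ({z} : Set G) :=
  fun s hs => mem_centralizer_singleton_iff.2 (h.cen z hz s hs).symm

omit h in
theorem core_odd (z : G) : Odd (Nat.card (Cfsg.centralizerPPrimeCore 2 z)) :=
  CfsgLib.InvChar.ConstrainedSignalizer.odd_core z

omit h in
theorem core_le (z : G) : Cfsg.centralizerPPrimeCore 2 z ≤ centralizer ({z} : Set G) :=
  map_subtype_le _

omit h in
theorem core_conj {z g o : G} (hg : g ∈ centralizer ({z} : Set G))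
    (ho : o ∈ Cfsg.centralizerPPrimeCore 2 z) : g * o * g⁻¹ ∈ Cfsg.centralizerPPrimeCore 2 z := by
  haveI : Fact (Nat.Prime 2) := ⟨Nat.prime_two⟩
  obtain ⟨o, ho, rfl⟩ := ho
  haveI := CfsgLib.Solvable.pPrimeCore_normal 2 ↥(centralizer ({z} : Set G))
  exact ⟨⟨g, hg⟩ * o * ⟨g, hg⟩⁻¹, Normal.conj_mem inferInstance o ho _, rfl⟩

omit h in
theorem core_inter {z : G} {P : Sylow 2 G} {o : G} (ho : o ∈ Cfsg.centralizerPPrimeCore 2 z)
    (hoP : o ∈ (P : Subgroup G)) : o = 1 := by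
  haveI : Fact (Nat.Prime 2) := ⟨Nat.prime_two⟩
  obtain ⟨k, hk⟩ := IsPGroup.iff_orderOf.1 P.2 ⟨o, hoP⟩
  rw [Subgroup.orderOf_mk] at hk
  have h2 := orderOf_dvd_natCard (Cfsg.centralizerPPrimeCore 2 z) ho
  refine orderOf_eq_one_iff.1 (Nat.eq_one_of_dvd_coprimes
    (Nat.Coprime.pow_left k (Nat.coprime_two_left.2 (core_odd z))) (dvd_of_eq hk) h2)

/-- An element of odd core normalizing `S` centralizes it. -/
theorem core_centralizes {z o : G} (hz : z ∈ Z) (ho : o ∈ Cfsg.centralizerPPrimeCore 2 z)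
    (hoN : o ∈ normalizer ((P : Subgroup G) : Set G)) {s : G} (hs : s ∈ (P : Subgroup G)) :
    o * s = s * o := by
  have h1 : o * s * o⁻¹ * s⁻¹ = 1 := by
    refine core_inter (z := z) (P := P) ?_ (mul_mem ((mem_normalizer_iff.1 hoN s).1 hs) (inv_mem hs))
    rw [show o * s * o⁻¹ * s⁻¹ = o * (s * o⁻¹ * s⁻¹) by group]
    exact mul_mem ho (core_conj (h.le_centralizer hz hs) (inv_mem ho))
  exact mul_inv_eq_iff_eq_mul.1 (mul_inv_eq_one.1 h1)

/-- All facts about the centralizer of `z` read off from its quotient by the odd core. -/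
theorem centralizer_spec {z : G} (hz : z ∈ Z) (hz1 : z ≠ 1) :
    Group.IsSolvable ↥(centralizer ({z} : Set G)) ∧
    (∀ g ∈ centralizer ({z} : Set G), ∃ o ∈ Cfsg.centralizerPPrimeCore 2 z,
      ∃ n ∈ normalizer ((P : Subgroup G) : Set G) ⊓ centralizer ({z} : Set G), g = o * n) ∧
    (∀ c ∈ centralizer ({z} : Set G), (∀ s ∈ (P : Subgroup G), c * s = s * c) →
      c ∈ Cfsg.centralizerPPrimeCore 2 z ⊔ (P : Subgroup G)) ∧
    (∀ x ∈ (P : Subgroup G), x * x = z →
      centralizer ({x} : Set G) ≤ Cfsg.centralizerPPrimeCore 2 z ⊔ (P : Subgroup G)) ∧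
    (∀ o ∈ Cfsg.centralizerPPrimeCore 2 z ⊔ (P : Subgroup G),
      ∃ u ∈ Cfsg.centralizerPPrimeCore 2 z, ∃ s ∈ (P : Subgroup G), o = u * s) ∧
    ((centralizer ({z} : Set G) ≤ Cfsg.centralizerPPrimeCore 2 z ⊔ (P : Subgroup G)) ∨
      ((∃ psi : ↥(centralizer ({z} : Set G)) →* Multiplicative (ZMod 5), Function.Surjective psi ∧
          ∀ g : ↥(centralizer ({z} : Set G)),
            psi g = 1 ↔ (g : G) ∈ Cfsg.centralizerPPrimeCore 2 z ⊔ (P : Subgroup G)) ∧
        Nat.card ↥(centralizer ({z} : Set G)) = 320 * Nat.card ↥(Cfsg.centralizerPPrimeCore 2 z) ∧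
        ∀ x ∈ (P : Subgroup G), ∀ y ∈ (P : Subgroup G), x * x = z → y * y = z →
          ∃ n ∈ normalizer ((P : Subgroup G) : Set G), n * x * n⁻¹ = y)) := by
  classical
  haveI : Fact (Nat.Prime 2) := ⟨Nat.prime_two⟩
  set H := centralizer ({z} : Set G) with hH
  set O := Cfsg.oddCore ↥H with hOdef
  haveI : O.Normal := CfsgLib.Solvable.pPrimeCore_normal 2 _
  have hSH : (P : Subgroup G) ≤ H := h.le_centralizer hz
  have hmemO : ∀ g : H, g ∈ O ↔ (g : G) ∈ Cfsg.centralizerPPrimeCore 2 z := fun g =>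
    ⟨fun hg => ⟨g, hg, rfl⟩, fun ⟨g', hg', e⟩ => Subtype.ext e ▸ hg'⟩
  let T : Sylow 2 H := P.subtype hSH
  let π := QuotientGroup.mk' O
  have hπ : Function.Surjective π := QuotientGroup.mk'_surjective O
  let T' : Sylow 2 (H ⧸ O) := T.mapSurjective hπ
  have hdis : ∀ x ∈ (T : Subgroup H), π x = 1 → x = 1 := fun x hx h1 =>
    Subtype.ext (core_inter ((hmemO x).1 ((QuotientGroup.eq_one_iff x).1 h1)) hx)
  have hzH : z ∈ H := mem_centralizer_singleton_iff.2 rfl
  set zq := π ⟨z, hzH⟩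
  have h' : UShape (T' : Subgroup (H ⧸ O)) ((Z.subgroupOf H).map π) :=
    (h.restrict H hSH).map π hdis
  set Z' := (Z.subgroupOf H).map π
  have hzq : zq ∈ Z' := ⟨⟨z, hzH⟩, hz, rfl⟩
  have hzq1 : zq ≠ 1 := fun e => hz1 (congrArg Subtype.val (hdis ⟨z, hzH⟩ (h.le hz) e))
  have hO' : Cfsg.oddCore (H ⧸ O) = ⊥ := CfsgLib.Fusion.oddCore_quotient_oddCore
  have hzc : ∀ g : H ⧸ O, g * zq = zq * g := by
    intro g
    obtain ⟨g, rfl⟩ := hπ g
    rw [← map_mul, ← map_mul]
    exact congrArg _ (Subtype.ext (mem_centralizer_singleton_iff.1 g.2))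
  obtain ⟨hTn, hZc⟩ := h'.central_reduce hO' hzq hzq1 hzc
  have hZT : Z' ≤ (T' : Subgroup (H ⧸ O)) := h'.le
  -- membership in `O * S`
  have hOS : ∀ g : H, π g ∈ (T' : Subgroup (H ⧸ O)) →
      ∃ u ∈ Cfsg.centralizerPPrimeCore 2 z, ∃ s ∈ (P : Subgroup G), (g : G) = u * s := by
    rintro g ⟨t, ht, e⟩
    exact ⟨((g * t⁻¹ : H) : G), (hmemO _).1 ((QuotientGroup.eq_one_iff _).1 (by
      show π (g * t⁻¹) = 1
      rw [map_mul, map_inv, ← e, mul_inv_cancel])), t, ht, by simp⟩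
  have hOS' : ∀ g : H, π g ∈ (T' : Subgroup (H ⧸ O)) →
      (g : G) ∈ Cfsg.centralizerPPrimeCore 2 z ⊔ (P : Subgroup G) := fun g hg => by
    obtain ⟨u, hu, s, hs, e⟩ := hOS g hg
    exact e ▸ mul_mem (mem_sup_left hu) (mem_sup_right hs)
  have hL : Cfsg.centralizerPPrimeCore 2 z ⊔ (P : Subgroup G) ≤
      (((T' : Subgroup (H ⧸ O)).comap π).map H.subtype) := by
    refine sup_le (fun g hg => ⟨⟨g, core_le z hg⟩, ?_, rfl⟩) fun g hg => ⟨⟨g, hSH hg⟩, ⟨_, hg, rfl⟩, rfl⟩
    show π _ ∈ (T' : Subgroup (H ⧸ O))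
    rw [show π ⟨g, core_le z hg⟩ = 1 from (QuotientGroup.eq_one_iff _).2 ((hmemO _).2 hg)]
    exact one_mem _
  have hL' : ∀ g : H, (g : G) ∈ Cfsg.centralizerPPrimeCore 2 z ⊔ (P : Subgroup G) →
      π g ∈ (T' : Subgroup (H ⧸ O)) := fun g hg => by
    obtain ⟨g', hg', e⟩ := hL hg
    exact (Subtype.ext e : g' = g) ▸ hg'
  -- the centralizer of the Sylow subgroup
  have hcx : ∀ x ∈ (T' : Subgroup (H ⧸ O)), (∀ y ∈ (T' : Subgroup (H ⧸ O)), y * x = x * y) →
      x ∈ Z' := by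
    intro x hx hall
    by_contra hxZ
    have h16 := h'.cent16 x hx hxZ
    rw [show (T' : Subgroup (H ⧸ O)) ⊓ centralizer ({x} : Set (H ⧸ O)) = T' from
      inf_eq_left.2 fun y hy => mem_centralizer_singleton_iff.2 (hall y hy), h'.cardS] at h16
    omega
  have hCT : centralizer ((T' : Subgroup (H ⧸ O)) : Set (H ⧸ O)) ≤ Z' := by
    haveI := hTn
    refine CfsgLib.Fusion.le_of_central_of_odd hO' inferInstance
      (fun t ht => mem_centralizer_iff.2 fun s hs => (h'.cen t ht s hs).symm) hZc ?_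
    have hd : Z'.relIndex (centralizer ((T' : Subgroup (H ⧸ O)) : Set (H ⧸ O))) ∣
        (T' : Subgroup (H ⧸ O)).index := by
      have e : Z'.subgroupOf (centralizer ((T' : Subgroup (H ⧸ O)) : Set (H ⧸ O))) =
          (T' : Subgroup (H ⧸ O)).subgroupOf _ := by
        ext w
        simp only [mem_subgroupOf]
        exact ⟨fun hw => hZT hw, fun hw => hcx _ hw fun y hy => mem_centralizer_iff.1 w.2 y hy⟩
      show (Z'.subgroupOf _).index ∣ _
      rw [e]
      exact Subgroup.relIndex_dvd_index_of_normal _ _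
    refine Odd.of_dvd_nat ?_ hd
    rw [← Nat.not_even_iff_odd, even_iff_two_dvd]
    exact T'.not_dvd_index
  have hcentfix : ∀ x ∈ (T' : Subgroup (H ⧸ O)), x ∉ Z' →
      centralizer ({x} : Set (H ⧸ O)) ≤ (T' : Subgroup (H ⧸ O)) := by
    intro x hx hxZ q hq
    obtain ⟨s, hs, e, -, hen, hodd, rfl⟩ := CfsgLib.SylL34.exists_odd_part T' (g := q) (by
      rw [normalizer_eq_top_iff.2 hTn]; exact mem_top _)
    refine mul_mem hs (hZT (hCT (mem_centralizer_iff.2 fun w hw => ?_)))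
    refine (h'.cent_of_fix (n := e) (fun s hs => hTn.conj_mem s hs e) hodd
      (fun t ht => mem_center_iff.1 (hZc ht) e) hx hxZ ?_ w hw).symm
    rw [show e * x * e⁻¹ = s⁻¹ * (s * e * x) * e⁻¹ by group,
      show s * e * x = x * (s * e) from mem_centralizer_singleton_iff.1 hq,
      show x⁻¹ * (s⁻¹ * (x * (s * e)) * e⁻¹) = x⁻¹ * (s⁻¹ * x * (s⁻¹)⁻¹) by group]
    exact h'.conj_S hx (inv_mem hs)
  have hcentQ : ∀ x ∈ (T' : Subgroup (H ⧸ O)), x ∉ Z' →
      Nat.card (centralizer ({x} : Set (H ⧸ O))) = 16 := fun x hx hxZ => by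
    rw [← h'.cent16 x hx hxZ, inf_eq_right.2 (hcentfix x hx hxZ)]
  have hnZ : ∀ x : H ⧸ O, x * x = zq → x ∉ Z' := fun x e hxZ => hzq1 (by
    rw [← e, h'.mem_sq hxZ])
  -- the index of `O * S`
  set m := (T' : Subgroup (H ⧸ O)).index with hm
  have hcardQ : Nat.card (H ⧸ O) = 64 * m := by
    rw [← (T' : Subgroup (H ⧸ O)).card_mul_index, h'.cardS]
  let Ω := {x : H ⧸ O // x ∈ (T' : Subgroup (H ⧸ O)) ∧ x * x = zq}
  have hΩ : Nat.card Ω = 20 := h'.fib zq hzq hzq1
  haveI := Fintype.ofFinite Ω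
  haveI : Finite (ConjAct (H ⧸ O)) :=
    Finite.of_equiv _ (ConjAct.toConjAct : H ⧸ O ≃* ConjAct (H ⧸ O)).toEquiv
  have horb : ∀ x : Ω, Nat.card {y : Ω // IsConj x.1 y.1} = 4 * m := by
    intro x
    have h1 := (MulAction.stabilizer (ConjAct (H ⧸ O)) x.1).card_mul_index
    rw [show (MulAction.stabilizer (ConjAct (H ⧸ O)) x.1).index =
      Nat.card (MulAction.orbit (ConjAct (H ⧸ O)) x.1) from
        (Nat.card_congr (MulAction.orbitEquivQuotientStabilizer _ _)).symm] at h1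
    rw [Nat.card_congr (ConjAct.ofConjAct : ConjAct (H ⧸ O) ≃* H ⧸ O).toEquiv, hcardQ] at h1
    have hst : Nat.card (MulAction.stabilizer (ConjAct (H ⧸ O)) x.1) = 16 := by
      rw [← hcentQ x.1 x.2.1 (hnZ _ x.2.2)]
      refine Nat.card_congr (Equiv.subtypeEquiv (ConjAct.ofConjAct : ConjAct (H ⧸ O) ≃* H ⧸ O).toEquiv
        fun g => ?_)
      rw [MulAction.mem_stabilizer_iff, ConjAct.smul_def, mem_centralizer_singleton_iff]
      exact mul_inv_eq_iff_eq_mul
    rw [hst] at h1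
    have e : Nat.card {y : Ω // IsConj x.1 y.1} = Nat.card (MulAction.orbit (ConjAct (H ⧸ O)) x.1) :=
      Nat.card_congr
        { toFun := fun y => ⟨y.1.1, ConjAct.mem_orbit_conjAct.2 (isConj_comm.1 y.2)⟩
          invFun := fun y => ⟨⟨y.1, by
            obtain ⟨g, hg⟩ := isConj_iff.1 (ConjAct.mem_orbit_conjAct.1 y.2).symm
            rw [← hg]
            refine ⟨hTn.conj_mem _ x.2.1 g, ?_⟩
            rw [show g * x.1 * g⁻¹ * (g * x.1 * g⁻¹) = g * (x.1 * x.1) * g⁻¹ by group, x.2.2,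
              hzc g, mul_inv_cancel_right]⟩, (ConjAct.mem_orbit_conjAct.1 y.2).symm⟩
          left_inv := fun _ => rfl
          right_inv := fun _ => rfl }
    omega
  have hm5 : 4 * m ∣ 20 := by
    have hsum := Finset.card_eq_sum_card_fiberwise (f := fun y : Ω => ConjClasses.mk y.1)
      (s := (Finset.univ : Finset Ω)) (t := Finset.univ.image fun y : Ω => ConjClasses.mk y.1)
      (fun y hy => Finset.mem_image_of_mem _ hy)
    rw [Finset.card_univ, ← Nat.card_eq_fintype_card, hΩ] at hsum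
    rw [hsum]
    refine Finset.dvd_sum fun c hc => dvd_of_eq ?_
    obtain ⟨x, -, rfl⟩ := Finset.mem_image.1 hc
    rw [← horb x, Nat.card_eq_fintype_card, Fintype.card_subtype]
    congr 1
    ext y
    simp only [Finset.mem_filter, Finset.mem_univ, true_and, ConjClasses.mk_eq_mk_iff_isConj]
    exact isConj_comm
  -- solvability
  have hsol : Group.IsSolvable H := by
    haveI : Group.IsSolvable O := Cfsg.Agent.S0205.result (CfsgLib.Invol.odd_card_oddCore H)
    haveI := hTn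
    haveI := T'.2.isNilpotent
    haveI : Group.IsSolvable ((H ⧸ O) ⧸ (T' : Subgroup (H ⧸ O))) := Cfsg.Agent.S0205.result (by
      rw [← index_eq_card, ← Nat.not_even_iff_odd, even_iff_two_dvd]; exact T'.not_dvd_index)
    haveI : Group.IsSolvable (H ⧸ O) := Group.isSolvable_of_ker_le_range
      (T' : Subgroup (H ⧸ O)).subtype (QuotientGroup.mk' (T' : Subgroup (H ⧸ O)))
        (by rw [QuotientGroup.ker_mk', Subgroup.range_subtype])
    exact Group.isSolvable_of_ker_le_range O.subtype π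
      (by rw [QuotientGroup.ker_mk', Subgroup.range_subtype])
  -- the Frattini decomposition
  have hdec : ∀ g ∈ H, ∃ o ∈ Cfsg.centralizerPPrimeCore 2 z,
      ∃ n ∈ normalizer ((P : Subgroup G) : Set G) ⊓ H, g = o * n := by
    let N := (T' : Subgroup (H ⧸ O)).comap π
    haveI : N.Normal := hTn.comap _
    have hTN : (T : Subgroup H) ≤ N := fun t ht => ⟨t, ht, rfl⟩
    have htop : O ⊔ normalizer ((T : Subgroup H) : Set H) = ⊤ := by
      rw [eq_top_iff, ← Sylow.normalizer_sup_eq_top' T hTN]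
      refine sup_le le_sup_right fun x hx => ?_
      rw [show N = (T : Subgroup H) ⊔ O from by
        show ((T : Subgroup H).map π).comap π = _
        simp only [π, comap_map_eq, QuotientGroup.ker_mk']] at hx
      exact (sup_le (le_normalizer.trans le_sup_right) le_sup_left) hx
    intro g hg
    obtain ⟨o, ho, n, hn, e⟩ := mem_sup_of_normal_left.1 (htop.symm ▸ mem_top (⟨g, hg⟩ : H))
    refine ⟨o, (hmemO o).1 ho, n, mem_inf.2 ⟨?_, n.2⟩, (congrArg Subtype.val e).symm⟩
    refine mem_normalizer_iff.2 fun w => ⟨fun hw => ?_, fun hw => ?_⟩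
    · exact mem_subgroupOf.1 ((mem_normalizer_iff.1 hn ⟨w, hSH hw⟩).1 hw)
    · have hwC : w ∈ H := by
        have := mul_mem (mul_mem (inv_mem n.2) (hSH hw)) n.2
        simpa [mul_assoc] using this
      exact mem_subgroupOf.1 ((mem_normalizer_iff.1 hn ⟨w, hwC⟩).2 hw)
  refine ⟨hsol, hdec, ?_, ?_, fun o ho => ?_, ?_⟩
  · intro c hc hcs
    refine hOS' ⟨c, hc⟩ (hZT (hCT (mem_centralizer_iff.2 ?_)))
    rintro _ ⟨s, hs, rfl⟩
    rw [← map_mul, ← map_mul]
    exact congrArg π (Subtype.ext (hcs s hs).symm)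
  · intro x hx hxx c hc
    have hcH : c ∈ H := mem_centralizer_singleton_iff.2 (by
      rw [← hxx, ← mul_assoc, mem_centralizer_singleton_iff.1 hc, mul_assoc,
        mem_centralizer_singleton_iff.1 hc, mul_assoc])
    have e : π ⟨x, hSH hx⟩ * π ⟨x, hSH hx⟩ = zq := by
      rw [← map_mul]; exact congrArg π (Subtype.ext hxx)
    refine hOS' ⟨c, hcH⟩ (hcentfix (π ⟨x, hSH hx⟩) ⟨_, hx, rfl⟩ (hnZ _ e) ?_)
    refine mem_centralizer_singleton_iff.2 ?_
    rw [← map_mul, ← map_mul]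
    exact congrArg π (Subtype.ext (mem_centralizer_singleton_iff.1 hc))
  · obtain ⟨g', hg', e⟩ := hL ho
    exact e ▸ hOS g' hg'
  · have hm15 : m = 1 ∨ m = 5 := by
      have h5 : m ∣ 5 := Nat.dvd_of_mul_dvd_mul_left (by norm_num : 0 < 4) hm5
      exact (Nat.dvd_prime Nat.prime_five).1 h5
    rcases hm15 with hm1 | hm5'
    · left
      intro g hg
      refine hOS' ⟨g, hg⟩ ?_
      rw [Subgroup.index_eq_one.1 hm1]
      exact mem_top _
    · right
      haveI := hTn
      have hc5 : Nat.card ((H ⧸ O) ⧸ (T' : Subgroup (H ⧸ O))) = 5 := by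
        rw [← index_eq_card]; exact hm5'
      haveI : Fact (Nat.Prime 5) := ⟨Nat.prime_five⟩
      haveI : IsCyclic ((H ⧸ O) ⧸ (T' : Subgroup (H ⧸ O))) := isCyclic_of_prime_card hc5
      let φ : (H ⧸ O) ⧸ (T' : Subgroup (H ⧸ O)) ≃* Multiplicative (ZMod 5) :=
        mulEquivOfCyclicCardEq (by rw [hc5, Nat.card_congr Multiplicative.toAdd, Nat.card_zmod])
      refine ⟨⟨φ.toMonoidHom.comp ((QuotientGroup.mk' _).comp π),
        φ.surjective.comp ((QuotientGroup.mk'_surjective _).comp hπ), fun g => ?_⟩, ?_, ?_⟩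
      · show φ (QuotientGroup.mk' _ (π g)) = 1 ↔ _
        rw [MulEquiv.map_eq_one_iff, QuotientGroup.mk'_apply, QuotientGroup.eq_one_iff]
        exact ⟨hOS' g, hL' g⟩
      · rw [Subgroup.card_eq_card_quotient_mul_card_subgroup O, hcardQ, hm5',
          show Nat.card O = Nat.card (Cfsg.centralizerPPrimeCore 2 z) from
            (Subgroup.card_map_of_injective H.subtype_injective).symm]
      · intro x hx y hy hxx hyy
        let X : Ω := ⟨π ⟨x, hSH hx⟩, ⟨_, hx, rfl⟩, by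
          rw [← map_mul]; exact congrArg π (Subtype.ext hxx)⟩
        let Y : Ω := ⟨π ⟨y, hSH hy⟩, ⟨_, hy, rfl⟩, by
          rw [← map_mul]; exact congrArg π (Subtype.ext hyy)⟩
        have hall : IsConj X.1 Y.1 := by
          by_contra hne
          have h20 := horb X
          rw [hm5'] at h20
          have hlt := Finset.card_lt_card (s := Finset.univ.filter fun w : Ω => IsConj X.1 w.1)
            (t := Finset.univ) (Finset.filter_ssubset.2 ⟨Y, Finset.mem_univ _, hne⟩)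
          rw [← Fintype.card_subtype, ← Nat.card_eq_fintype_card, h20, Finset.card_univ,
            ← Nat.card_eq_fintype_card, hΩ] at hlt
          omega
        obtain ⟨q, hq⟩ := isConj_iff.1 hall
        obtain ⟨g, rfl⟩ := hπ q
        obtain ⟨o, ho, n, hn, hgn⟩ := hdec g g.2
        refine ⟨n, hn.1, ?_⟩
        have hgq : π g = π ⟨n, hn.2⟩ := by
          refine QuotientGroup.eq.2 ?_
          rw [hmemO]
          show (g : G)⁻¹ * n ∈ Cfsg.centralizerPPrimeCore 2 z
          rw [hgn, show (o * n)⁻¹ * n = n⁻¹ * o⁻¹ * (n⁻¹)⁻¹ by group]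
          exact core_conj (inv_mem hn.2) (inv_mem ho)
        rw [hgq, ← map_inv, ← map_mul, ← map_mul] at hq
        have hmem : n * x * n⁻¹ ∈ (P : Subgroup G) := (mem_normalizer_iff.1 hn.1 x).1 hx
        have := core_inter (z := z) (P := P) (o := (n * x * n⁻¹)⁻¹ * y)
          ((hmemO _).1 (QuotientGroup.eq.1 hq)) (mul_mem (inv_mem hmem) hy)
        exact inv_mul_eq_one.1 this

end UShape

end CfsgLib.Invol.UThreeFour
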