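import Cfsg.Agent.Lib.Invol.UThreeFour.Cases

/-!
Search certificates for the reduced degree systems of PSU(3,4), generated by `notes/u34_py/h12/emit.py`.
-/

set_option autoImplicit false
set_option maxHeartbeats 0
set_option maxRecDepth 100000

namespace CfsgLib.Invol.UThreeFour

open Search

/-- Certificate. -/
def certTree1_0 : Tree := .bound 2 113 [[.bound 2 329 [[.force 1 0 0 (.bound 0 73 [[.bound 0 24 [[.force 0 1 0 (.quot 1 0)], []], .bound 0 22 [[.force 0 1 0 (.quot 1 0)], []]], [.bound 0 0 [[], []], .bound 0 0 [[], []]], [.bound 0 0 [[], []], .bound 0 74 [[], []]]]), .force 1 0 0 (.bound 0 75 [[.bound 0 24 [[.force 0 1 0 (.quot 1 0)], []], .bound 0 21 [[.force 0 1 0 (.quot 1 0)], []]], [.bound 0 0 [[], []], .bound 0 0 [[], []]], [.bound 0 0 [[], []], .bound 0 76 [[.dead 0 1 0], []]]]), .force 1 0 0 (.bound 0 79 [[.bound 0 25 [[.force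 0 1 0 (.quot 1 0)], []], .bound 0 21 [[.force 0 1 0 (.quot 1 0)], []], .bound 0 83 [[.force 0 1 0 (.quot 1 0), .dead 0 1 0, .force 0 1 0 (.quot 1 0)], [.dead 0 1 0, .dead 0 1 0]]], [.bound 0 0 [[], []], .bound 0 0 [[], []], .bound 0 83 [[], [.dead 0 1 0, .force 0 1 0 (.quot 1 0)]]], [.bound 0 0 [[], []], .bound 0 80 [[], []]]]), .force 1 0 0 (.bound 0 89 [[.bound 0 27 [[.force 0 1 0 (.quot 1 0)], []], .bound 0 20 [[.force 0 1 0 (.quot 1 0)], []], .bound 0 106 [[.force 0 1 0 (.quot 1 0), .dead 0 1 0, .force 0 1 0 (.quot 1 0)], [.dead 0 1 0, .dead 0 1 0]]], [.bound 0 0 [[], []], .bound 0 0 [[], []], .bound 0 109 [[], [.dead 0 1 0, .force 0 1 0 (.quot 1 0)]]], [.bound 0 0 [[], []], .bound 0 90 [[], []]]]), .force 1 0 0 (.bound 0 158 [[.bound 0 53 [[.force 0 1 0 (.quot 1 0), .force 0 1 0 (.quot 1 0)], []], .bound 0 35 [[.force 0 1 0 (.quot 1 0)],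 []], .bound 0 17 [[.force 0 1 0 (.quot 1 0)], []], .bound 0 1910 [[.force 0 1 0 (.quot 1 0), .force 0 1 0 (.quot 1 0), .force 0 1 0 (.quot 1 0), .force 0 1 0 (.quot 1 0), .force 0 1 0 (.quot 1 0), .force 0 1 0 (.quot 1 0), .force 0 1 0 (.quot 1 0), .force 0 1 0 (.quot 1 0), .force 0 1 0 (.quot 1 0), .force 0 1 0 (.quot 1 0), .force 0 1 0 (.quot 1 0), .force 0 1 0 (.quot 1 0), .force 0 1 0 (.quot 1 0), .force 0 1 0 (.quot 1 0), .force 0 1 0 (.quot 1 0), .force 0 1 0 (.quot 1 0), .force 0 1 0 (.quot 1 0), .force 0 1 0 (.quot 1 0), .force 0 1 0 (.quot 1 0), .force 0 1 0 (.quot 1 0), .force 0 1 0 (.quot 1 0), .force 0 1 0 (.quot 1 0), .force 0 1 0 (.quot 1 0), .force 0 1 0 (.quot 1 0), .force 0 1 0 (.quot 1 0), .force 0 1 0 (.quot 1 0), .force 0 1 0 (.quot 1 0), .force 0 1 0 (.quot 1 0), .force 0 1 0 (.quot 1 0), .force 0 1 0 (.quot 1 0), .dead 0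 1 0, .force 0 1 0 (.quot 1 0), .force 0 1 0 (.quot 1 0), .force 0 1 0 (.quot 1 0), .force 0 1 0 (.quot 1 0), .force 0 1 0 (.quot 1 0), .force 0 1 0 (.quot 1 0), .force 0 1 0 (.quot 1 0), .force 0 1 0 (.quot 1 0), .force 0 1 0 (.quot 1 0), .force 0 1 0 (.quot 1 0), .force 0 1 0 (.quot 1 0), .force 0 1 0 (.quot 1 0), .force 0 1 0 (.quot 1 0), .force 0 1 0 (.quot 1 0), .force 0 1 0 (.quot 1 0), .force 0 1 0 (.quot 1 0), .force 0 1 0 (.quot 1 0), .force 0 1 0 (.quot 1 0), .force 0 1 0 (.quot 1 0), .force 0 1 0 (.quot 1 0), .force 0 1 0 (.quot 1 0), .force 0 1 0 (.quot 1 0), .force 0 1 0 (.quot 1 0), .force 0 1 0 (.quot 1 0), .force 0 1 0 (.quot 1 0), .force 0 1 0 (.quot 1 0), .force 0 1 0 (.quot 1 0), .force 0 1 0 (.quot 1 0), .force 0 1 0 (.quot 1 0)], [.dead 0 1 0, .dead 0 1 0, .dead 0 1 0, .dead 0 1 0, .dead 0 1 0, .dead 0 1 0, .dead 0 1 0, .dead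 0 1 0, .dead 0 1 0, .dead 0 1 0, .dead 0 1 0, .dead 0 1 0, .dead 0 1 0, .dead 0 1 0, .dead 0 1 0, .dead 0 1 0, .dead 0 1 0, .dead 0 1 0, .dead 0 1 0, .dead 0 1 0, .dead 0 1 0, .dead 0 1 0, .dead 0 1 0, .dead 0 1 0, .dead 0 1 0, .dead 0 1 0, .dead 0 1 0, .dead 0 1 0, .dead 0 1 0, .dead 0 1 0, .dead 0 1 0, .dead 0 1 0, .dead 0 1 0, .dead 0 1 0, .dead 0 1 0, .dead 0 1 0, .dead 0 1 0, .dead 0 1 0, .dead 0 1 0, .dead 0 1 0, .dead 0 1 0, .dead 0 1 0, .dead 0 1 0, .dead 0 1 0, .dead 0 1 0, .dead 0 1 0, .dead 0 1 0, .dead 0 1 0, .dead 0 1 0, .dead 0 1 0, .dead 0 1 0, .dead 0 1 0, .dead 0 1 0, .dead 0 1 0, .dead 0 1 0, .dead 0 1 0, .dead 0 1 0, .dead 0 1 0]], .bound 0 178 [[.force 0 1 0 (.quot 1 0), .force 0 1 0 (.quot 1 0), .force 0 1 0 (.quot 1 0), .force 0 1 0 (.quot 1 0), .force 0 1 0 (.quot 1 0)], [.dead 0 1 0, .dead 0 1 0, .dead 0 1 0, .dead 0 1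 0]]], [.bound 0 3 [[], []], .bound 0 2 [[], []], .bound 0 0 [[], []], .bound 1 200 [[.dead 0 1 0, .dead 0 1 0, .dead 0 1 0, .dead 0 1 0, .force 0 1 0 (.quot 1 0), .force 0 1 0 (.quot 1 0)], [.bound 1 336 [[.force 0 1 0 (.quot 1 0), .force 0 1 0 (.quot 1 0), .force 0 1 0 (.quot 1 0), .force 0 1 0 (.quot 1 0)], [.dead 0 0 1, .dead 0 0 1, .dead 0 0 1, .dead 0 0 1, .dead 0 0 1, .dead 0 0 1, .dead 0 0 1]], .bound 1 368 [[.force 0 1 0 (.quot 1 0), .force 0 1 0 (.quot 1 0), .force 0 1 0 (.quot 1 0), .force 0 1 0 (.quot 1 0)], [.dead 0 0 1, .dead 0 0 1, .dead 0 0 1, .dead 0 0 1, .dead 0 0 1, .dead 0 0 1, .dead 0 0 1, .dead 0 0 1, .dead 0 0 1]], .bound 1 0 [[], []], .bound 1 0 [[], []], .bound 1 0 [[], []]]], .bound 0 183 [[.dead 0 1 0], [.dead 0 1 0, .dead 0 1 0, .force 0 1 0 (.quot 1 0), .force 0 1 0 (.quot 1 0)]]], [.bound 0 0 [[], []], .bound 0 0 [[],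 []], .bound 0 165 [[], []], .bound 0 159 [[], []]]]), .force 1 0 0 (.bound 2 0 []), .force 1 0 0 (.bound 2 0 []), .force 1 0 0 (.bound 2 0 []), .dead 1 0 0, .dead 1 0 0]], .bound 1 93 [[.bound 1 47 [[], [], []], .bound 0 20 [[.dead 0 1 0], [.force 1 0 0 (.bound 0 58 [[.force 0 1 0 (.bound 1 75 [[.force 0 0 1 (.leaf), .force 0 0 1 (.leaf)]])], []])], [], []], .bound 1 100 [[.force 0 1 0 (.bound 1 91 [[.force 1 0 0 (.quot 1 0)], [.bound 1 0 [[], []], .bound 0 102 [[.force 1 0 0 (.quot 1 0), .dead 1 0 0, .dead 1 0 0], []]]]), .force 0 1 0 (.bound 0 40 [[.force 1 0 0 (.quot 1 0)], []])], [.force 1 0 0 (.bound 0 18 [[.force 0 1 0 (.quot 1 0)], []])], [.bound 1 0 [[], [], []], .bound 0 68 [[.dead 0 1 0, .force 0 1 0 (.bound 3 0 [])], [.force 1 0 0 (.bound 0 0 [[], []]), .dead 1 0 0], [], []]]]], [.bound 1 84 [[], [.force 1 0 0 (.bound 0 17 [[.dead 0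 1 0], []])], [.bound 1 0 [[], [], []], .bound 1 137 [[.force 0 1 0 (.bound 1 53 [[], [.force 0 0 1 (.quot 0 1)]])], [.force 1 0 0 (.bound 0 39 [[.dead 0 1 0], []])], [.bound 1 0 [[], []], .bound 1 0 [[]], .bound 1 179 [[.force 0 1 0 (.force 0 0 1 (.quot 0 1)), .force 0 1 0 (.dead 0 0 1)], []]]]]], .bound 1 94 [[], [.force 1 0 0 (.bound 0 18 [[.dead 0 1 0], []])], [.bound 1 0 [[], [], []], .bound 1 171 [[.force 0 1 0 (.bound 1 61 [[], [.force 0 0 1 (.quot 0 1)]]), .force 0 1 0 (.bound 0 47 [[.dead 1 0 0], []])], [.force 1 0 0 (.bound 0 34 [[.dead 0 1 0], []])], [.bound 1 0 [[], []], .bound 1 0 [[], []], .bound 1 0 [[]], .bound 0 187 [[.dead 0 1 0, .dead 0 1 0, .dead 0 1 0, .dead 0 1 0, .dead 0 1 0, .dead 0 1 0], [.force 1 0 0 (.dead 0 0 1), .force 1 0 0 (.force 0 0 1 (.quot 0 1)), .dead 1 0 0, .dead 1 0 0, .dead 1 0 0, .dead 1 0 0], [.force 0 1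 0 (.force 0 0 1 (.quot 0 1))], []]]]]]], [.force 1 0 0 (.bound 0 17 [[.bound 0 0 [[], []]], [], []])], [.bound 1 0 [[], [], [], []], .bound 1 159 [[.bound 1 60 [[], [], [.bound 1 65 [[.force 0 1 0 (.force 0 0 1 (.quot 0 1)), .force 0 1 0 (.force 0 0 1 (.quot 0 1))]]]], .bound 0 88 [[.force 0 1 0 (.bound 1 152 [[.force 1 0 0 (.quot 1 0)], [.force 0 0 1 (.quot 0 1), .force 0 0 1 (.quot 0 1), .dead 0 0 1, .dead 0 0 1]]), .force 0 1 0 (.bound 3 0 []), .force 0 1 0 (.bound 0 27 [[.dead 1 0 0], []])], [.force 1 0 0 (.bound 0 0 [[], []]), .dead 1 0 0, .dead 1 0 0], [], []]], [.bound 1 135 [[], [.force 1 0 0 (.bound 0 38 [[.dead 0 1 0], []])], [.bound 1 0 [[], []], .bound 1 0 [[]], .bound 1 213 [[.force 0 1 0 (.force 0 0 1 (.quot 0 1)), .force 0 1 0 (.dead 0 0 1), .force 0 1 0 (.dead 0 0 1)], [.force 1 0 0 (.dead 0 0 1)]]]], .bound 1 161 [[], [.force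 1 0 0 (.bound 0 35 [[.dead 0 1 0], []])], [.bound 1 0 [[], []], .bound 1 0 [[], []], .bound 1 0 [[]], .bound 1 333 [[.force 0 1 0 (.force 0 0 1 (.quot 0 1)), .force 0 1 0 (.force 0 0 1 (.quot 0 1)), .force 0 1 0 (.dead 0 0 1), .force 0 1 0 (.dead 0 0 1), .force 0 1 0 (.dead 0 0 1), .force 0 1 0 (.dead 0 0 1)], [.force 1 0 0 (.dead 0 0 1), .force 1 0 0 (.dead 0 0 1), .force 1 0 0 (.dead 0 0 1)]]]]], [.force 1 0 0 (.bound 0 36 [[.bound 0 0 [[], []]], [], []])], [.bound 1 0 [[], [], []], .bound 1 0 [[], [], []], .bound 1 0 [[], []], .bound 1 288 [[.bound 1 0 [[], []], .bound 1 0 [[], []], .bound 1 0 [[]], .bound 0 102 [[.force 0 1 0 (.force 0 0 1 (.quot 0 1)), .force 0 1 0 (.force 0 0 1 (.quot 0 1)), .force 0 1 0 (.force 0 0 1 (.quot 0 1))], [.dead 1 0 0, .dead 1 0 0, .dead 1 0 0], [], []]], [.bound 1 0 [[], []], .bound 1 0 [[], []], .bound 1 304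 [[], [.force 1 0 0 (.force 0 0 1 (.quot 0 1)), .force 1 0 0 (.dead 0 0 1)]], .bound 1 292 [[], [.force 1 0 0 (.force 0 0 1 (.quot 0 1)), .force 1 0 0 (.dead 0 0 1)]]], [.force 1 0 0 (.bound 1 292 [[], []]), .force 1 0 0 (.bound 1 289 [[], []])]]]]]]], [.bound 2 141 [[]], .bound 2 0 [[]], .bound 2 0 [[]]]]

/-- Certificate. -/
def certTree1_1 : Tree := .bound 2 113 [[.bound 2 329 [[.force 1 0 0 (.bound 0 73 [[.bound 0 24 [[.force 0 1 0 (.quot 1 0)], []], .bound 0 22 [[.force 0 1 0 (.quot 1 0)], []]], [.bound 0 0 [[], []], .bound 0 0 [[], []]], [.bound 0 0 [[], []], .bound 0 74 [[], []]]]), .force 1 0 0 (.bound 0 75 [[.bound 0 24 [[.force 0 1 0 (.quot 1 0)], []], .bound 0 21 [[.force 0 1 0 (.quot 1 0)], []]], [.bound 0 0 [[], []], .bound 0 0 [[], []]], [.bound 0 0 [[], []], .bound 0 76 [[.dead 0 1 0], []]]]), .force 1 0 0 (.bound 0 79 [[.bound 0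 25 [[.force 0 1 0 (.quot 1 0)], []], .bound 0 21 [[.force 0 1 0 (.quot 1 0)], []], .bound 0 83 [[.force 0 1 0 (.quot 1 0), .dead 0 1 0, .force 0 1 0 (.quot 1 0)], [.dead 0 1 0, .dead 0 1 0]]], [.bound 0 0 [[], []], .bound 0 0 [[], []], .bound 0 83 [[], [.dead 0 1 0, .force 0 1 0 (.quot 1 0)]]], [.bound 0 0 [[], []], .bound 0 80 [[], []]]]), .force 1 0 0 (.bound 0 89 [[.bound 0 27 [[.force 0 1 0 (.quot 1 0)], []], .bound 0 20 [[.force 0 1 0 (.quot 1 0)], []], .bound 0 106 [[.force 0 1 0 (.quot 1 0), .dead 0 1 0, .force 0 1 0 (.quot 1 0)], [.dead 0 1 0, .dead 0 1 0]]], [.bound 0 0 [[], []], .bound 0 0 [[], []], .bound 0 109 [[], [.dead 0 1 0, .force 0 1 0 (.quot 1 0)]]], [.bound 0 0 [[], []], .bound 0 90 [[], []]]]), .force 1 0 0 (.bound 0 158 [[.bound 0 53 [[.force 0 1 0 (.quot 1 0), .force 0 1 0 (.quot 1 0)], []], .bound 0 35 [[.force 0 1 0 (.quot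 1 0)], []], .bound 0 17 [[.force 0 1 0 (.quot 1 0)], []], .bound 0 1910 [[.force 0 1 0 (.quot 1 0), .force 0 1 0 (.quot 1 0), .force 0 1 0 (.quot 1 0), .force 0 1 0 (.quot 1 0), .force 0 1 0 (.quot 1 0), .force 0 1 0 (.quot 1 0), .force 0 1 0 (.quot 1 0), .force 0 1 0 (.quot 1 0), .force 0 1 0 (.quot 1 0), .force 0 1 0 (.quot 1 0), .force 0 1 0 (.quot 1 0), .force 0 1 0 (.quot 1 0), .force 0 1 0 (.quot 1 0), .force 0 1 0 (.quot 1 0), .force 0 1 0 (.quot 1 0), .force 0 1 0 (.quot 1 0), .force 0 1 0 (.quot 1 0), .force 0 1 0 (.quot 1 0), .force 0 1 0 (.quot 1 0), .force 0 1 0 (.quot 1 0), .force 0 1 0 (.quot 1 0), .force 0 1 0 (.quot 1 0), .force 0 1 0 (.quot 1 0), .force 0 1 0 (.quot 1 0), .force 0 1 0 (.quot 1 0), .force 0 1 0 (.quot 1 0), .force 0 1 0 (.quot 1 0), .force 0 1 0 (.quot 1 0), .force 0 1 0 (.quot 1 0), .force 0 1 0 (.quot 1 0), .dead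 0 1 0, .force 0 1 0 (.quot 1 0), .force 0 1 0 (.quot 1 0), .force 0 1 0 (.quot 1 0), .force 0 1 0 (.quot 1 0), .force 0 1 0 (.quot 1 0), .force 0 1 0 (.quot 1 0), .force 0 1 0 (.quot 1 0), .force 0 1 0 (.quot 1 0), .force 0 1 0 (.quot 1 0), .force 0 1 0 (.quot 1 0), .force 0 1 0 (.quot 1 0), .force 0 1 0 (.quot 1 0), .force 0 1 0 (.quot 1 0), .force 0 1 0 (.quot 1 0), .force 0 1 0 (.quot 1 0), .force 0 1 0 (.quot 1 0), .force 0 1 0 (.quot 1 0), .force 0 1 0 (.quot 1 0), .force 0 1 0 (.quot 1 0), .force 0 1 0 (.quot 1 0), .force 0 1 0 (.quot 1 0), .force 0 1 0 (.quot 1 0), .force 0 1 0 (.quot 1 0), .force 0 1 0 (.quot 1 0), .force 0 1 0 (.quot 1 0), .force 0 1 0 (.quot 1 0), .force 0 1 0 (.quot 1 0), .force 0 1 0 (.quot 1 0), .force 0 1 0 (.quot 1 0)], [.dead 0 1 0, .dead 0 1 0, .dead 0 1 0, .dead 0 1 0, .dead 0 1 0, .dead 0 1 0, .dead 0 1 0, .dead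 0 1 0, .dead 0 1 0, .dead 0 1 0, .dead 0 1 0, .dead 0 1 0, .dead 0 1 0, .dead 0 1 0, .dead 0 1 0, .dead 0 1 0, .dead 0 1 0, .dead 0 1 0, .dead 0 1 0, .dead 0 1 0, .dead 0 1 0, .dead 0 1 0, .dead 0 1 0, .dead 0 1 0, .dead 0 1 0, .dead 0 1 0, .dead 0 1 0, .dead 0 1 0, .dead 0 1 0, .dead 0 1 0, .dead 0 1 0, .dead 0 1 0, .dead 0 1 0, .dead 0 1 0, .dead 0 1 0, .dead 0 1 0, .dead 0 1 0, .dead 0 1 0, .dead 0 1 0, .dead 0 1 0, .dead 0 1 0, .dead 0 1 0, .dead 0 1 0, .dead 0 1 0, .dead 0 1 0, .dead 0 1 0, .dead 0 1 0, .dead 0 1 0, .dead 0 1 0, .dead 0 1 0, .dead 0 1 0, .dead 0 1 0, .dead 0 1 0, .dead 0 1 0, .dead 0 1 0, .dead 0 1 0, .dead 0 1 0, .dead 0 1 0]], .bound 0 178 [[.force 0 1 0 (.quot 1 0), .force 0 1 0 (.quot 1 0), .force 0 1 0 (.quot 1 0), .force 0 1 0 (.quot 1 0), .force 0 1 0 (.quot 1 0)], [.dead 0 1 0, .dead 0 1 0, .dead 0 1 0, .dead 0 1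 0]]], [.bound 0 3 [[], []], .bound 0 2 [[], []], .bound 0 0 [[], []], .bound 1 151 [[.dead 0 1 0, .dead 0 1 0, .dead 0 1 0, .force 0 1 0 (.quot 1 0)], [.bound 1 158 [[], [.bound 1 1479 [[.force 0 1 0 (.quot 1 0), .force 0 1 0 (.quot 1 0), .force 0 1 0 (.quot 1 0), .force 0 1 0 (.quot 1 0), .force 0 1 0 (.quot 1 0), .force 0 1 0 (.quot 1 0), .force 0 1 0 (.quot 1 0), .force 0 1 0 (.quot 1 0), .force 0 1 0 (.quot 1 0), .force 0 1 0 (.quot 1 0), .force 0 1 0 (.quot 1 0), .force 0 1 0 (.quot 1 0), .force 0 1 0 (.quot 1 0), .force 0 1 0 (.quot 1 0), .force 0 1 0 (.quot 1 0), .force 0 1 0 (.quot 1 0), .force 0 1 0 (.quot 1 0), .force 0 1 0 (.quot 1 0), .force 0 1 0 (.quot 1 0), .force 0 1 0 (.quot 1 0), .dead 0 1 0, .force 0 1 0 (.quot 1 0), .force 0 1 0 (.quot 1 0), .force 0 1 0 (.quot 1 0), .force 0 1 0 (.quot 1 0), .force 0 1 0 (.quot 1 0), .force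 0 1 0 (.quot 1 0), .force 0 1 0 (.quot 1 0), .force 0 1 0 (.quot 1 0), .force 0 1 0 (.quot 1 0), .force 0 1 0 (.quot 1 0), .force 0 1 0 (.quot 1 0), .force 0 1 0 (.quot 1 0), .force 0 1 0 (.quot 1 0), .force 0 1 0 (.quot 1 0), .force 0 1 0 (.quot 1 0), .force 0 1 0 (.quot 1 0), .force 0 1 0 (.quot 1 0), .force 0 1 0 (.quot 1 0), .force 0 1 0 (.quot 1 0), .force 0 1 0 (.quot 1 0), .force 0 1 0 (.quot 1 0)], [.dead 0 0 1, .dead 0 0 1, .dead 0 0 1, .dead 0 0 1, .dead 0 0 1, .dead 0 0 1, .dead 0 0 1, .dead 0 0 1, .dead 0 0 1, .dead 0 0 1, .dead 0 0 1, .dead 0 0 1, .dead 0 0 1, .dead 0 0 1, .dead 0 0 1, .dead 0 0 1, .dead 0 0 1, .dead 0 0 1, .dead 0 0 1, .dead 0 0 1, .dead 0 0 1, .dead 0 0 1, .dead 0 0 1]], .bound 1 82 [[], [.dead 0 0 1]], .bound 1 0 [[]], .bound 1 0 [[]]]], .bound 1 289 [[.force 0 1 0 (.quot 1 0), .dead 0 1 0, .force 0 1 0 (.quot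 1 0), .force 0 1 0 (.quot 1 0)], [.bound 0 1278 [[.force 0 1 0 (.quot 1 0), .force 0 1 0 (.quot 1 0), .force 0 1 0 (.quot 1 0), .force 0 1 0 (.quot 1 0), .force 0 1 0 (.quot 1 0), .force 0 1 0 (.quot 1 0), .force 0 1 0 (.quot 1 0), .force 0 1 0 (.quot 1 0), .force 0 1 0 (.quot 1 0), .force 0 1 0 (.quot 1 0), .force 0 1 0 (.quot 1 0), .force 0 1 0 (.quot 1 0), .force 0 1 0 (.quot 1 0), .force 0 1 0 (.quot 1 0), .force 0 1 0 (.quot 1 0), .dead 0 1 0, .dead 0 1 0, .dead 0 1 0, .dead 0 1 0, .force 0 1 0 (.quot 1 0), .force 0 1 0 (.quot 1 0), .force 0 1 0 (.quot 1 0), .force 0 1 0 (.quot 1 0), .force 0 1 0 (.quot 1 0), .force 0 1 0 (.quot 1 0), .force 0 1 0 (.quot 1 0), .force 0 1 0 (.quot 1 0), .force 0 1 0 (.quot 1 0), .force 0 1 0 (.quot 1 0), .force 0 1 0 (.quot 1 0), .force 0 1 0 (.quot 1 0), .force 0 1 0 (.quot 1 0), .force 0 1 0 (.quot 1 0),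 .force 0 1 0 (.quot 1 0), .force 0 1 0 (.quot 1 0)], [.dead 0 1 0, .dead 0 1 0, .dead 0 1 0, .dead 0 1 0, .dead 0 1 0, .dead 0 1 0, .dead 0 1 0, .dead 0 1 0, .dead 0 1 0, .dead 0 1 0, .dead 0 1 0, .dead 0 1 0, .dead 0 1 0, .dead 0 1 0, .dead 0 1 0, .dead 0 1 0, .dead 0 1 0, .dead 0 1 0, .dead 0 1 0, .dead 0 1 0, .dead 0 1 0, .dead 0 1 0, .dead 0 1 0, .dead 0 1 0, .dead 0 1 0, .dead 0 1 0, .dead 0 1 0, .dead 0 1 0, .dead 0 1 0, .dead 0 1 0]], .bound 1 485 [[.force 0 1 0 (.quot 1 0), .force 0 1 0 (.quot 1 0), .force 0 1 0 (.quot 1 0), .force 0 1 0 (.quot 1 0), .force 0 1 0 (.quot 1 0), .force 0 1 0 (.quot 1 0)], [.dead 0 0 1, .dead 0 0 1, .dead 0 0 1, .dead 0 0 1, .dead 0 0 1, .dead 0 0 1, .dead 0 0 1]], .bound 1 156 [[], [.dead 0 0 1, .dead 0 0 1]], .bound 1 53 [[], [.dead 0 0 1]], .bound 1 0 [[]], .bound 1 0 [[]], .bound 1 0 [[]], .bound 1 0 [[]]]]],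 [.bound 1 180 [[], []], .bound 1 197 [[.dead 0 1 0, .force 0 1 0 (.quot 1 0)], [.bound 1 0 [[], []], .bound 1 432 [[.force 0 1 0 (.quot 1 0), .force 0 1 0 (.quot 1 0), .force 0 1 0 (.quot 1 0), .force 0 1 0 (.quot 1 0), .force 0 1 0 (.quot 1 0), .force 0 1 0 (.quot 1 0)], [.dead 0 0 1, .dead 0 0 1, .dead 0 0 1, .dead 0 0 1]], .bound 1 466 [[.force 0 1 0 (.quot 1 0), .force 0 1 0 (.quot 1 0), .force 0 1 0 (.quot 1 0), .force 0 1 0 (.quot 1 0), .force 0 1 0 (.quot 1 0), .force 0 1 0 (.quot 1 0), .force 0 1 0 (.quot 1 0), .force 0 1 0 (.quot 1 0)]]]], .bound 1 0 [[], []], .bound 1 0 [[], []]]], .bound 0 183 [[.dead 0 1 0], [.dead 0 1 0, .dead 0 1 0, .force 0 1 0 (.quot 1 0), .force 0 1 0 (.quot 1 0)]]], [.bound 0 0 [[], []], .bound 0 0 [[], []], .bound 0 165 [[], []], .bound 0 159 [[], []]]]), .force 1 0 0 (.bound 2 0 []), .force 1 0 0 (.bound 2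 0 []), .force 1 0 0 (.bound 2 0 []), .dead 1 0 0, .dead 1 0 0]], .bound 1 76 [[.bound 1 36 [[], [], [], []], .bound 1 62 [[], [], [.bound 1 0 [[], []]]]], [.bound 1 68 [[], [.force 1 0 0 (.bound 0 18 [[.dead 0 1 0], []])], [.bound 1 78 [[.force 0 1 0 (.bound 1 80 [[], [.bound 1 0 [[]], .bound 1 81 [[.dead 0 0 1]]]])], [], [.bound 1 0 [[], []], .bound 1 229 [[.force 0 1 0 (.bound 1 0 [[]]), .force 0 1 0 (.bound 1 0 [[]]), .force 0 1 0 (.bound 0 60 [[.force 1 0 0 (.quot 1 0), .dead 1 0 0], []]), .force 0 1 0 (.bound 0 60 [[.force 1 0 0 (.quot 1 0), .dead 1 0 0], []])], [.force 1 0 0 (.bound 1 234 [[]]), .force 1 0 0 (.bound 1 230 [[]])]]]]], [.bound 1 97 [[.force 0 1 0 (.bound 1 157 [[.force 1 0 0 (.quot 1 0)], [.bound 0 99 [[.dead 1 0 0, .dead 1 0 0, .dead 1 0 0], []]]])], [], []]]], .bound 1 77 [[.force 0 1 0 (.bound 0 40 [[.force 1 0 0 (.quot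 1 0)], []])], [.force 1 0 0 (.bound 0 18 [[.dead 0 1 0], []])], [.bound 1 88 [[], [], [.bound 1 0 [[], []], .bound 0 187 [[.dead 0 1 0, .dead 0 1 0, .dead 0 1 0, .dead 0 1 0, .dead 0 1 0, .dead 0 1 0], [.force 1 0 0 (.bound 0 0 [[], []]), .force 1 0 0 (.bound 0 0 [[], []]), .force 1 0 0 (.bound 0 0 [[], []]), .dead 1 0 0, .dead 1 0 0, .dead 1 0 0], [.force 0 1 0 (.bound 0 0 [[], []]), .force 0 1 0 (.bound 0 0 [[], []]), .force 0 1 0 (.bound 0 0 [[], []])], [.dead 1 0 0]]]]], [.bound 1 0 [[], [], []], .bound 1 122 [[.force 0 1 0 (.bound 1 0 [[], []])], [], [.bound 1 125 [[], []]]]]]], [.force 1 0 0 (.bound 0 18 [[.bound 0 78 [[.force 0 1 0 (.quot 1 0)], []]], [], []])], [.bound 1 87 [[.bound 1 95 [[], [], [.bound 1 0 [[], []], .bound 1 76 [[], [.bound 1 109 [[]]]]]]], [], [], [.bound 1 0 [[], [], []], .bound 0 202 [[.bound 0 214 [[.force 1 0 0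 (.bound 0 0 [[], []]), .force 1 0 0 (.bound 0 0 [[], []]), .force 1 0 0 (.bound 0 0 [[], []]), .dead 1 0 0, .dead 1 0 0, .dead 1 0 0, .dead 1 0 0], [.force 0 1 0 (.bound 1 0 [[]]), .force 0 1 0 (.bound 1 0 [[]]), .dead 0 1 0, .force 0 1 0 (.bound 0 0 [[], []])], [.dead 0 1 0, .dead 0 1 0, .dead 0 1 0, .dead 0 1 0], [.dead 1 0 0, .dead 1 0 0]], .bound 0 303 [[.force 1 0 0 (.bound 0 105 [[], []]), .force 1 0 0 (.bound 0 93 [[], []]), .force 1 0 0 (.bound 0 0 [[], []]), .force 1 0 0 (.bound 0 0 [[], []]), .dead 1 0 0, .dead 1 0 0, .dead 1 0 0, .dead 1 0 0, .dead 1 0 0], [.force 0 1 0 (.bound 1 0 [[]]), .force 0 1 0 (.bound 1 0 [[]]), .force 0 1 0 (.bound 1 0 [[]]), .force 0 1 0 (.bound 0 0 [[], []]), .force 0 1 0 (.bound 0 0 [[], []]), .force 0 1 0 (.bound 0 0 [[], []])], [.dead 0 1 0, .dead 0 1 0, .dead 0 1 0, .dead 0 1 0, .dead 0 1 0, .dead 0 1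 0], [.dead 1 0 0, .dead 1 0 0, .dead 1 0 0]], .bound 1 419 [[.force 0 1 0 (.bound 1 0 [[]]), .force 0 1 0 (.bound 1 0 [[]]), .force 0 1 0 (.bound 1 0 [[]]), .force 0 1 0 (.bound 1 0 [[]]), .force 0 1 0 (.bound 1 0 [[]]), .force 0 1 0 (.bound 1 182 [[.force 0 0 1 (.quot 0 1), .force 0 0 1 (.quot 0 1)]]), .force 0 1 0 (.bound 1 382 [[.force 0 0 1 (.quot 0 1), .force 0 0 1 (.quot 0 1), .force 0 0 1 (.quot 0 1), .force 0 0 1 (.quot 0 1), .force 0 0 1 (.quot 0 1)]]), .force 0 1 0 (.bound 1 920 [[.force 0 0 1 (.quot 0 1), .force 0 0 1 (.quot 0 1), .force 0 0 1 (.quot 0 1), .force 0 0 1 (.quot 0 1), .force 0 0 1 (.quot 0 1), .force 0 0 1 (.quot 0 1), .force 0 0 1 (.quot 0 1), .force 0 0 1 (.quot 0 1), .force 0 0 1 (.quot 0 1), .force 0 0 1 (.quot 0 1), .force 0 0 1 (.quot 0 1), .force 0 0 1 (.quot 0 1), .force 0 0 1 (.quot 0 1), .force 0 0 1 (.quot 0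 1)]]), .force 0 1 0 (.bound 1 7298 [[.force 0 0 1 (.quot 0 1), .force 0 0 1 (.quot 0 1), .force 0 0 1 (.quot 0 1), .force 0 0 1 (.quot 0 1), .force 0 0 1 (.quot 0 1), .force 0 0 1 (.quot 0 1), .force 0 0 1 (.quot 0 1), .force 0 0 1 (.quot 0 1), .force 0 0 1 (.quot 0 1), .force 0 0 1 (.quot 0 1), .force 0 0 1 (.quot 0 1), .force 0 0 1 (.quot 0 1), .force 0 0 1 (.quot 0 1), .force 0 0 1 (.quot 0 1), .force 0 0 1 (.quot 0 1), .force 0 0 1 (.quot 0 1), .force 0 0 1 (.quot 0 1), .force 0 0 1 (.quot 0 1), .force 0 0 1 (.quot 0 1), .force 0 0 1 (.quot 0 1), .force 0 0 1 (.quot 0 1), .force 0 0 1 (.quot 0 1), .force 0 0 1 (.quot 0 1), .force 0 0 1 (.quot 0 1), .force 0 0 1 (.quot 0 1), .force 0 0 1 (.quot 0 1), .force 0 0 1 (.quot 0 1), .force 0 0 1 (.quot 0 1), .force 0 0 1 (.quot 0 1), .force 0 0 1 (.quot 0 1), .force 0 0 1 (.quot 0 1), .force 0 0 1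 (.quot 0 1), .force 0 0 1 (.quot 0 1), .force 0 0 1 (.quot 0 1), .force 0 0 1 (.quot 0 1), .force 0 0 1 (.quot 0 1), .force 0 0 1 (.quot 0 1), .force 0 0 1 (.quot 0 1), .force 0 0 1 (.quot 0 1), .force 0 0 1 (.quot 0 1), .force 0 0 1 (.quot 0 1), .force 0 0 1 (.quot 0 1), .force 0 0 1 (.quot 0 1), .force 0 0 1 (.quot 0 1), .force 0 0 1 (.quot 0 1), .force 0 0 1 (.quot 0 1), .force 0 0 1 (.quot 0 1), .force 0 0 1 (.quot 0 1), .force 0 0 1 (.quot 0 1), .force 0 0 1 (.quot 0 1), .force 0 0 1 (.quot 0 1), .force 0 0 1 (.quot 0 1), .force 0 0 1 (.quot 0 1), .force 0 0 1 (.quot 0 1), .force 0 0 1 (.quot 0 1), .force 0 0 1 (.quot 0 1), .force 0 0 1 (.quot 0 1), .force 0 0 1 (.quot 0 1), .force 0 0 1 (.quot 0 1), .force 0 0 1 (.quot 0 1), .force 0 0 1 (.quot 0 1), .force 0 0 1 (.quot 0 1), .force 0 0 1 (.quot 0 1), .force 0 0 1 (.quot 0 1), .force 0 0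 1 (.quot 0 1), .force 0 0 1 (.quot 0 1), .force 0 0 1 (.quot 0 1), .force 0 0 1 (.quot 0 1), .force 0 0 1 (.quot 0 1), .force 0 0 1 (.quot 0 1), .force 0 0 1 (.quot 0 1), .force 0 0 1 (.quot 0 1), .force 0 0 1 (.quot 0 1), .force 0 0 1 (.quot 0 1), .force 0 0 1 (.quot 0 1), .force 0 0 1 (.quot 0 1), .force 0 0 1 (.quot 0 1), .force 0 0 1 (.quot 0 1), .force 0 0 1 (.quot 0 1), .force 0 0 1 (.quot 0 1), .force 0 0 1 (.quot 0 1), .force 0 0 1 (.quot 0 1), .force 0 0 1 (.quot 0 1), .force 0 0 1 (.quot 0 1), .force 0 0 1 (.quot 0 1), .force 0 0 1 (.quot 0 1), .force 0 0 1 (.quot 0 1), .force 0 0 1 (.quot 0 1), .force 0 0 1 (.quot 0 1), .force 0 0 1 (.quot 0 1), .force 0 0 1 (.quot 0 1), .force 0 0 1 (.quot 0 1), .force 0 0 1 (.quot 0 1), .force 0 0 1 (.quot 0 1), .force 0 0 1 (.quot 0 1), .force 0 0 1 (.quot 0 1), .force 0 0 1 (.quot 0 1), .force 0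 0 1 (.quot 0 1), .force 0 0 1 (.quot 0 1), .force 0 0 1 (.quot 0 1), .force 0 0 1 (.quot 0 1), .force 0 0 1 (.quot 0 1), .force 0 0 1 (.quot 0 1), .force 0 0 1 (.quot 0 1), .force 0 0 1 (.quot 0 1), .force 0 0 1 (.quot 0 1), .force 0 0 1 (.quot 0 1), .force 0 0 1 (.quot 0 1), .force 0 0 1 (.quot 0 1), .force 0 0 1 (.quot 0 1), .force 0 0 1 (.quot 0 1), .force 0 0 1 (.quot 0 1), .force 0 0 1 (.quot 0 1)]]), .force 0 1 0 (.bound 1 0 [[]])], [.dead 0 1 0, .dead 0 1 0, .dead 0 1 0, .dead 0 1 0, .dead 0 1 0, .dead 0 1 0, .dead 0 1 0, .dead 0 1 0, .dead 0 1 0, .dead 0 1 0], [.force 1 0 0 (.bound 0 0 [[], []]), .force 1 0 0 (.bound 0 0 [[], []]), .force 1 0 0 (.bound 1 426 [[], []]), .force 1 0 0 (.bound 1 422 [[], []]), .force 1 0 0 (.bound 1 420 [[], []])]], .bound 0 11 [[], [], [], []], .bound 0 66 [[.force 1 0 0 (.bound 0 0 [[], []]), .dead 1 0 0],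 [], [], []], .bound 0 97 [[.force 1 0 0 (.bound 0 0 [[], []]), .dead 1 0 0, .dead 1 0 0], [], [], []]], [.force 1 0 0 (.bound 0 0 [[], [], []]), .force 1 0 0 (.bound 0 0 [[], [], []]), .force 1 0 0 (.bound 0 0 [[], [], []]), .dead 1 0 0, .dead 1 0 0, .dead 1 0 0], [.bound 1 0 [[], []], .bound 1 0 [[], []], .bound 0 0 [[], [], [], []]], [.bound 0 203 [[], [], [], [.dead 1 0 0, .dead 1 0 0]], .bound 0 205 [[.dead 0 1 0], [.dead 1 0 0], [.force 0 1 0 (.bound 0 0 [[], []])], [.dead 1 0 0, .dead 1 0 0]], .bound 0 0 [[], [], [], []], .bound 0 0 [[], [], [], []]], [.dead 1 0 0, .dead 1 0 0]]]]], [.bound 1 0 [[], [], [], []], .bound 1 115 [[.bound 1 0 [[], [], []], .bound 0 68 [[.dead 0 1 0, .force 0 1 0 (.bound 3 0 [])], [.force 1 0 0 (.bound 0 0 [[], []]), .dead 1 0 0], [], []]], [], [], []]]]], [.bound 2 141 [[]], .bound 2 0 [[]], .bound 2 0 [[]]]]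

/-- Certificate. -/
def certTree1_2 : Tree := .bound 2 113 [[.bound 2 329 [[.force 1 0 0 (.bound 0 73 [[.bound 0 24 [[.force 0 1 0 (.quot 1 0)], []], .bound 0 22 [[.force 0 1 0 (.quot 1 0)], []]], [.bound 0 0 [[], []], .bound 0 0 [[], []]], [.bound 0 0 [[], []], .bound 0 74 [[], []]]]), .force 1 0 0 (.bound 0 75 [[.bound 0 24 [[.force 0 1 0 (.quot 1 0)], []], .bound 0 21 [[.force 0 1 0 (.quot 1 0)], []]], [.bound 0 0 [[], []], .bound 0 0 [[], []]], [.bound 0 0 [[], []], .bound 0 76 [[.dead 0 1 0], []]]]), .force 1 0 0 (.bound 0 79 [[.bound 0 25 [[.force 0 1 0 (.quot 1 0)], []], .bound 0 21 [[.force 0 1 0 (.quot 1 0)], []], .bound 0 83 [[.force 0 1 0 (.quot 1 0), .dead 0 1 0, .force 0 1 0 (.quot 1 0)], [.dead 0 1 0, .dead 0 1 0]]], [.bound 0 0 [[], []], .bound 0 0 [[], []], .bound 0 83 [[], [.dead 0 1 0, .force 0 1 0 (.quot 1 0)]]], [.bound 0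 0 [[], []], .bound 0 80 [[], []]]]), .force 1 0 0 (.bound 0 89 [[.bound 0 27 [[.force 0 1 0 (.quot 1 0)], []], .bound 0 20 [[.force 0 1 0 (.quot 1 0)], []], .bound 0 106 [[.force 0 1 0 (.quot 1 0), .dead 0 1 0, .force 0 1 0 (.quot 1 0)], [.dead 0 1 0, .dead 0 1 0]]], [.bound 0 0 [[], []], .bound 0 0 [[], []], .bound 0 109 [[], [.dead 0 1 0, .force 0 1 0 (.quot 1 0)]]], [.bound 0 0 [[], []], .bound 0 90 [[], []]]]), .force 1 0 0 (.bound 0 158 [[.bound 0 53 [[.force 0 1 0 (.quot 1 0), .force 0 1 0 (.quot 1 0)], []], .bound 0 35 [[.force 0 1 0 (.quot 1 0)], []], .bound 0 17 [[.force 0 1 0 (.quot 1 0)], []], .bound 0 1910 [[.force 0 1 0 (.quot 1 0), .force 0 1 0 (.quot 1 0), .force 0 1 0 (.quot 1 0), .force 0 1 0 (.quot 1 0), .force 0 1 0 (.quot 1 0), .force 0 1 0 (.quot 1 0), .force 0 1 0 (.quot 1 0), .force 0 1 0 (.quot 1 0), .force 0 1 0 (.quot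 1 0), .force 0 1 0 (.quot 1 0), .force 0 1 0 (.quot 1 0), .force 0 1 0 (.quot 1 0), .force 0 1 0 (.quot 1 0), .force 0 1 0 (.quot 1 0), .force 0 1 0 (.quot 1 0), .force 0 1 0 (.quot 1 0), .force 0 1 0 (.quot 1 0), .force 0 1 0 (.quot 1 0), .force 0 1 0 (.quot 1 0), .force 0 1 0 (.quot 1 0), .force 0 1 0 (.quot 1 0), .force 0 1 0 (.quot 1 0), .force 0 1 0 (.quot 1 0), .force 0 1 0 (.quot 1 0), .force 0 1 0 (.quot 1 0), .force 0 1 0 (.quot 1 0), .force 0 1 0 (.quot 1 0), .force 0 1 0 (.quot 1 0), .force 0 1 0 (.quot 1 0), .force 0 1 0 (.quot 1 0), .dead 0 1 0, .force 0 1 0 (.quot 1 0), .force 0 1 0 (.quot 1 0), .force 0 1 0 (.quot 1 0), .force 0 1 0 (.quot 1 0), .force 0 1 0 (.quot 1 0), .force 0 1 0 (.quot 1 0), .force 0 1 0 (.quot 1 0), .force 0 1 0 (.quot 1 0), .force 0 1 0 (.quot 1 0), .force 0 1 0 (.quot 1 0), .force 0 1 0 (.quot 1 0), .force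 0 1 0 (.quot 1 0), .force 0 1 0 (.quot 1 0), .force 0 1 0 (.quot 1 0), .force 0 1 0 (.quot 1 0), .force 0 1 0 (.quot 1 0), .force 0 1 0 (.quot 1 0), .force 0 1 0 (.quot 1 0), .force 0 1 0 (.quot 1 0), .force 0 1 0 (.quot 1 0), .force 0 1 0 (.quot 1 0), .force 0 1 0 (.quot 1 0), .force 0 1 0 (.quot 1 0), .force 0 1 0 (.quot 1 0), .force 0 1 0 (.quot 1 0), .force 0 1 0 (.quot 1 0), .force 0 1 0 (.quot 1 0), .force 0 1 0 (.quot 1 0), .force 0 1 0 (.quot 1 0)], [.dead 0 1 0, .dead 0 1 0, .dead 0 1 0, .dead 0 1 0, .dead 0 1 0, .dead 0 1 0, .dead 0 1 0, .dead 0 1 0, .dead 0 1 0, .dead 0 1 0, .dead 0 1 0, .dead 0 1 0, .dead 0 1 0, .dead 0 1 0, .dead 0 1 0, .dead 0 1 0, .dead 0 1 0, .dead 0 1 0, .dead 0 1 0, .dead 0 1 0, .dead 0 1 0, .dead 0 1 0, .dead 0 1 0, .dead 0 1 0, .dead 0 1 0, .dead 0 1 0, .dead 0 1 0, .dead 0 1 0, .dead 0 1 0, .dead 0 1 0, .dead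 0 1 0, .dead 0 1 0, .dead 0 1 0, .dead 0 1 0, .dead 0 1 0, .dead 0 1 0, .dead 0 1 0, .dead 0 1 0, .dead 0 1 0, .dead 0 1 0, .dead 0 1 0, .dead 0 1 0, .dead 0 1 0, .dead 0 1 0, .dead 0 1 0, .dead 0 1 0, .dead 0 1 0, .dead 0 1 0, .dead 0 1 0, .dead 0 1 0, .dead 0 1 0, .dead 0 1 0, .dead 0 1 0, .dead 0 1 0, .dead 0 1 0, .dead 0 1 0, .dead 0 1 0, .dead 0 1 0]], .bound 0 178 [[.force 0 1 0 (.quot 1 0), .force 0 1 0 (.quot 1 0), .force 0 1 0 (.quot 1 0), .force 0 1 0 (.quot 1 0), .force 0 1 0 (.quot 1 0)], [.dead 0 1 0, .dead 0 1 0, .dead 0 1 0, .dead 0 1 0]]], [.bound 0 3 [[], []], .bound 0 2 [[], []], .bound 0 0 [[], []], .bound 1 103 [[.dead 0 1 0, .dead 0 1 0], [.bound 1 155 [[.dead 0 1 0, .force 0 1 0 (.quot 1 0)], [.bound 1 590 [[.force 0 1 0 (.quot 1 0), .force 0 1 0 (.quot 1 0), .force 0 1 0 (.quot 1 0), .force 0 1 0 (.quot 1 0), .force 0 1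 0 (.quot 1 0), .force 0 1 0 (.quot 1 0), .dead 0 1 0, .force 0 1 0 (.quot 1 0), .force 0 1 0 (.quot 1 0), .force 0 1 0 (.quot 1 0), .force 0 1 0 (.quot 1 0), .force 0 1 0 (.quot 1 0), .force 0 1 0 (.quot 1 0), .force 0 1 0 (.quot 1 0)]], .bound 1 368 [[.force 0 1 0 (.quot 1 0), .force 0 1 0 (.quot 1 0), .dead 0 1 0, .force 0 1 0 (.quot 1 0), .force 0 1 0 (.quot 1 0), .force 0 1 0 (.quot 1 0)], [.bound 1 0 [[]], .bound 1 0 [[]], .bound 0 1278 [[.force 0 1 0 (.quot 1 0), .force 0 1 0 (.quot 1 0), .force 0 1 0 (.quot 1 0), .force 0 1 0 (.quot 1 0), .force 0 1 0 (.quot 1 0), .force 0 1 0 (.quot 1 0), .force 0 1 0 (.quot 1 0), .force 0 1 0 (.quot 1 0), .force 0 1 0 (.quot 1 0), .force 0 1 0 (.quot 1 0), .force 0 1 0 (.quot 1 0), .force 0 1 0 (.quot 1 0), .force 0 1 0 (.quot 1 0), .force 0 1 0 (.quot 1 0), .dead 0 1 0, .dead 0 1 0, .dead 0 1 0, .dead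 0 1 0, .dead 0 1 0, .dead 0 1 0, .force 0 1 0 (.quot 1 0), .force 0 1 0 (.quot 1 0), .force 0 1 0 (.quot 1 0), .force 0 1 0 (.quot 1 0), .force 0 1 0 (.quot 1 0), .force 0 1 0 (.quot 1 0), .force 0 1 0 (.quot 1 0), .force 0 1 0 (.quot 1 0), .force 0 1 0 (.quot 1 0), .force 0 1 0 (.quot 1 0), .force 0 1 0 (.quot 1 0), .force 0 1 0 (.quot 1 0), .force 0 1 0 (.quot 1 0), .force 0 1 0 (.quot 1 0), .force 0 1 0 (.quot 1 0)], [.dead 0 1 0, .dead 0 1 0, .dead 0 1 0, .dead 0 1 0, .dead 0 1 0, .dead 0 1 0, .dead 0 1 0, .dead 0 1 0, .dead 0 1 0, .dead 0 1 0, .dead 0 1 0, .dead 0 1 0, .dead 0 1 0, .dead 0 1 0, .dead 0 1 0, .dead 0 1 0, .dead 0 1 0, .dead 0 1 0, .dead 0 1 0, .dead 0 1 0, .dead 0 1 0, .dead 0 1 0, .dead 0 1 0, .dead 0 1 0, .dead 0 1 0, .dead 0 1 0, .dead 0 1 0, .dead 0 1 0]], .bound 1 649 [[.force 0 1 0 (.quot 1 0), .force 0 1 0 (.quot 1 0),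 .force 0 1 0 (.quot 1 0), .force 0 1 0 (.quot 1 0), .force 0 1 0 (.quot 1 0), .force 0 1 0 (.quot 1 0), .force 0 1 0 (.quot 1 0), .force 0 1 0 (.quot 1 0), .force 0 1 0 (.quot 1 0), .force 0 1 0 (.quot 1 0)], [.dead 0 0 1, .dead 0 0 1, .dead 0 0 1, .dead 0 0 1, .dead 0 0 1, .dead 0 0 1, .dead 0 0 1]], .bound 1 440 [[.force 0 1 0 (.quot 1 0), .force 0 1 0 (.quot 1 0)], [.dead 0 0 1, .dead 0 0 1, .dead 0 0 1]]]]]]]], .bound 0 183 [[.dead 0 1 0], [.dead 0 1 0, .dead 0 1 0, .force 0 1 0 (.quot 1 0), .force 0 1 0 (.quot 1 0)]]], [.bound 0 0 [[], []], .bound 0 0 [[], []], .bound 0 165 [[], []], .bound 0 159 [[], []]]]), .force 1 0 0 (.bound 2 0 []), .force 1 0 0 (.bound 2 0 []), .force 1 0 0 (.bound 2 0 []), .dead 1 0 0, .dead 1 0 0]], .bound 1 60 [[.bound 1 24 [[], [], []], .bound 1 42 [[], []]], [], [], [.bound 1 63 [[], [.bound 1 0 [[], [], []]],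 [], [.bound 1 72 [[], [.bound 1 67 [[], [.force 1 0 0 (.bound 1 73 [[]])]]], [.force 1 0 0 (.bound 1 0 [[], []])]]]]]]], [.bound 2 141 [[]], .bound 2 0 [[]], .bound 2 0 [[]]]]

/-- Certificate. -/
def certTree1_3 : Tree := .bound 2 114 [[.bound 0 99 [[.bound 0 43 [[.dead 1 0 0], [.force 0 1 0 (.bound 0 0 [[]])], [], []], .bound 3 22 [[.force 0 1 0 (.bound 3 0 [])], []], .bound 0 114 [[.dead 1 0 0, .dead 1 0 0, .dead 1 0 0], [.force 0 1 0 (.bound 0 0 [[], []]), .dead 0 1 0, .force 0 1 0 (.bound 1 105 [[.force 1 0 0 (.quot 1 0)], [.bound 1 274 [[.bound 1 0 [[]], .bound 1 0 [[]], .bound 0 193 [[.dead 1 0 0, .dead 1 0 0, .dead 1 0 0], [.force 1 0 0 (.quot 1 0), .force 1 0 0 (.quot 1 0)]], .bound 1 312 [[.dead 0 0 1, .dead 0 0 1]]]], .bound 1 0 [[]]]])], [.dead 0 1 0, .dead 0 1 0], [.force 1 0 0 (.bound 0 0 [[], []])]]], [.dead 1 0 0, .dead 1 0 0,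 .dead 1 0 0], [.bound 0 3 [[], [], [], []], .bound 0 0 [[], [], []], .bound 1 106 [[.dead 0 1 0, .force 0 1 0 (.bound 0 3 [[], []])], [.force 1 0 0 (.bound 0 0 [[], []])], [.bound 0 117 [[.dead 0 1 0], [.dead 1 0 0], [], []], .bound 1 0 [[], []]]]], [.bound 0 24 [[], [], [], []], .bound 0 100 [[], [], [], [.force 1 0 0 (.bound 0 0 [[], []])]]], [.force 1 0 0 (.bound 0 0 [[], [], []])]], .bound 1 92 [[.bound 1 46 [[], [], []], .bound 1 43 [[], [], []], .bound 1 99 [[.force 0 1 0 (.bound 0 96 [[.dead 1 0 0, .dead 1 0 0, .dead 1 0 0]]), .force 0 1 0 (.bound 0 38 [[.dead 1 0 0]])], [.bound 0 66 [[.dead 0 1 0, .force 0 1 0 (.bound 3 0 [])], [.dead 1 0 0, .dead 1 0 0], []]], [.bound 1 0 [[], []], .bound 0 66 [[.dead 0 1 0, .force 0 1 0 (.bound 3 0 [])], [.dead 1 0 0, .dead 1 0 0], []]]]], [.bound 1 84 [[], [.bound 1 100 [[], [.bound 1 135 [[.force 0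 1 0 (.bound 1 52 [[]])], [.bound 1 0 [[]], .bound 1 21 [[], []], .bound 1 175 [[.force 0 1 0 (.force 0 0 1 (.quot 0 1))]]]]], [.bound 1 0 [[], []], .bound 1 378 [[.force 0 1 0 (.bound 1 0 [[]]), .force 0 1 0 (.bound 1 0 [[]]), .force 0 1 0 (.bound 1 0 [[]]), .force 0 1 0 (.bound 1 0 [[]]), .force 0 1 0 (.bound 1 0 [[]]), .force 0 1 0 (.bound 1 10 [[]]), .force 0 1 0 (.bound 1 69 [[.force 1 0 0 (.quot 1 0)]]), .force 0 1 0 (.bound 0 59 [[.dead 1 0 0, .dead 1 0 0]]), .force 0 1 0 (.bound 0 60 [[.dead 1 0 0, .dead 1 0 0]])], [.bound 0 165 [[.dead 0 1 0, .dead 0 1 0, .dead 0 1 0, .dead 0 1 0, .dead 0 1 0], [.dead 1 0 0, .dead 1 0 0, .dead 1 0 0, .dead 1 0 0, .force 1 0 0 (.dead 0 0 1)], []], .bound 0 165 [[.dead 0 1 0, .dead 0 1 0, .dead 0 1 0, .dead 0 1 0, .dead 0 1 0], [.dead 1 0 0, .dead 1 0 0, .dead 1 0 0, .dead 1 0 0, .force 1 0 0 (.dead 0 0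 1)], []], .bound 1 608 [[.force 0 1 0 (.dead 0 0 1), .force 0 1 0 (.dead 0 0 1), .force 0 1 0 (.dead 0 0 1), .force 0 1 0 (.force 0 0 1 (.quot 0 1)), .force 0 1 0 (.force 0 0 1 (.quot 0 1)), .force 0 1 0 (.force 0 0 1 (.quot 0 1)), .force 0 1 0 (.force 0 0 1 (.quot 0 1))]], .bound 1 448 [[.force 0 1 0 (.dead 0 0 1), .force 0 1 0 (.force 0 0 1 (.quot 0 1))]], .bound 1 382 [[]]]]]]], [.bound 1 0 [[], []], .bound 1 135 [[.force 0 1 0 (.bound 1 0 [[]])], [.bound 1 145 [[.force 0 1 0 (.bound 1 152 [[.force 0 0 1 (.quot 0 1)]])], [.bound 1 175 [[]]]]]]]], .bound 1 93 [[], [.bound 1 113 [[], [.bound 1 169 [[.force 0 1 0 (.bound 1 60 [[.dead 0 0 1]]), .force 0 1 0 (.bound 0 46 [[.dead 1 0 0]])], [.bound 1 0 [[]], .bound 1 0 [[]], .bound 1 4 [[], []], .bound 1 447 [[.force 0 1 0 (.dead 0 0 1), .force 0 1 0 (.dead 0 0 1), .force 0 1 0 (.dead 0 0 1), .force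 0 1 0 (.dead 0 0 1), .force 0 1 0 (.dead 0 0 1), .force 0 1 0 (.force 0 0 1 (.quot 0 1)), .force 0 1 0 (.force 0 0 1 (.quot 0 1)), .force 0 1 0 (.force 0 0 1 (.quot 0 1)), .force 0 1 0 (.force 0 0 1 (.quot 0 1))]]]]], [.bound 1 0 [[], []], .bound 0 183 [[.dead 0 1 0, .dead 0 1 0, .dead 0 1 0, .dead 0 1 0, .dead 0 1 0, .dead 0 1 0], [.dead 1 0 0, .dead 1 0 0, .dead 1 0 0, .dead 1 0 0, .dead 1 0 0, .force 1 0 0 (.bound 0 196 [[], [.force 0 1 0 (.quot 1 0), .force 0 1 0 (.quot 1 0), .force 0 1 0 (.quot 1 0)]])], [.force 0 1 0 (.bound 0 0 [[]]), .force 0 1 0 (.bound 0 0 [[]]), .force 0 1 0 (.bound 0 0 [[]])]]]]], [.bound 1 0 [[], []], .bound 1 169 [[.force 0 1 0 (.bound 1 0 [[]]), .force 0 1 0 (.bound 0 46 [[.dead 1 0 0]])], [.bound 1 207 [[.force 0 1 0 (.bound 1 0 [[]]), .force 0 1 0 (.bound 0 49 [[.dead 1 0 0]])], [.bound 1 447 [[.force 0 1 0 (.dead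 0 0 1), .force 0 1 0 (.dead 0 0 1), .force 0 1 0 (.dead 0 0 1), .force 0 1 0 (.dead 0 0 1), .force 0 1 0 (.force 0 0 1 (.quot 0 1)), .force 0 1 0 (.force 0 0 1 (.quot 0 1)), .force 0 1 0 (.force 0 0 1 (.quot 0 1))]], .bound 1 230 [[]]]]]]]]], [.bound 1 110 [[], [], [.bound 1 158 [[.bound 1 59 [[], [.bound 1 82 [[.force 0 1 0 (.dead 0 0 1), .force 0 1 0 (.dead 0 0 1)], [.force 1 0 0 (.dead 0 0 1)]]]], .bound 1 171 [[.force 0 1 0 (.bound 0 67 [[.dead 1 0 0, .dead 1 0 0]]), .force 0 1 0 (.bound 0 45 [[.dead 1 0 0]])], [.bound 1 0 [[]], .bound 1 0 [[]], .bound 1 0 [[], []], .bound 1 11 [[], []]]]], [.bound 1 133 [[], [.bound 1 0 [[]], .bound 1 13 [[], []], .bound 1 207 [[.force 0 1 0 (.dead 0 0 1), .force 0 1 0 (.force 0 0 1 (.quot 0 1)), .force 0 1 0 (.force 0 0 1 (.quot 0 1))]]]], .bound 1 159 [[], [.bound 1 0 [[]], .bound 1 0 [[]], .bound 1 5 [[],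 []], .bound 1 324 [[.force 0 1 0 (.dead 0 0 1), .force 0 1 0 (.dead 0 0 1), .force 0 1 0 (.force 0 0 1 (.quot 0 1)), .force 0 1 0 (.force 0 0 1 (.quot 0 1)), .force 0 1 0 (.force 0 0 1 (.quot 0 1))]]]]], [.bound 1 0 [[], []], .bound 1 0 [[], []], .bound 1 8 [[], [], []], .bound 1 281 [[.bound 1 0 [[]], .bound 1 0 [[]], .bound 1 119 [[], [.force 1 0 0 (.force 0 0 1 (.quot 0 1))]], .bound 0 100 [[.force 0 1 0 (.dead 0 0 1), .force 0 1 0 (.dead 0 0 1), .force 0 1 0 (.dead 0 0 1)], [.dead 1 0 0, .dead 1 0 0, .dead 1 0 0], []]], [.bound 1 0 [[]], .bound 1 0 [[]], .bound 1 296 [[]], .bound 1 284 [[]]]]]]], [.bound 1 0 [[], [], []], .bound 0 198 [[.bound 0 208 [[.dead 1 0 0, .dead 1 0 0, .dead 1 0 0, .dead 1 0 0, .dead 1 0 0, .force 1 0 0 (.bound 0 274 [[.force 0 1 0 (.quot 1 0), .force 0 1 0 (.quot 1 0), .force 0 1 0 (.quot 1 0), .dead 0 1 0, .force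 0 1 0 (.quot 1 0), .force 0 1 0 (.quot 1 0)], [.dead 0 1 0, .dead 0 1 0, .dead 0 1 0, .dead 0 1 0, .dead 0 1 0, .dead 0 1 0]]), .force 1 0 0 (.bound 0 195 [[.force 0 1 0 (.quot 1 0), .force 0 1 0 (.quot 1 0), .dead 0 1 0], [.force 0 1 0 (.quot 1 0), .dead 0 1 0, .dead 0 1 0, .dead 0 1 0]])], [.force 0 1 0 (.bound 1 0 [[]]), .force 0 1 0 (.bound 1 0 [[]]), .dead 0 1 0, .force 0 1 0 (.bound 0 0 [[]])], [.dead 0 1 0, .dead 0 1 0, .dead 0 1 0, .dead 0 1 0]], .bound 0 295 [[.dead 1 0 0, .dead 1 0 0, .dead 1 0 0, .dead 1 0 0, .dead 1 0 0, .dead 1 0 0, .force 1 0 0 (.bound 1 572 [[.force 0 1 0 (.quot 1 0), .force 0 1 0 (.quot 1 0), .force 0 1 0 (.quot 1 0), .force 0 1 0 (.quot 1 0), .force 0 1 0 (.quot 1 0), .force 0 1 0 (.quot 1 0), .force 0 1 0 (.quot 1 0), .force 0 1 0 (.quot 1 0), .force 0 1 0 (.quot 1 0), .force 0 1 0 (.quot 1 0), .force 0 1 0 (.quot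 1 0), .force 0 1 0 (.quot 1 0), .force 0 1 0 (.quot 1 0), .force 0 1 0 (.quot 1 0), .force 0 1 0 (.quot 1 0)], [.dead 0 1 0, .dead 0 1 0, .dead 0 1 0, .dead 0 1 0, .dead 0 1 0, .dead 0 1 0, .dead 0 1 0, .dead 0 1 0, .dead 0 1 0, .dead 0 1 0, .dead 0 1 0, .dead 0 1 0, .dead 0 1 0, .dead 0 1 0], [.dead 0 2 (-1), .dead 0 2 (-1), .dead 0 2 (-1), .dead 0 2 (-1), .dead 0 2 (-1), .dead 0 2 (-1), .dead 0 2 (-1), .dead 0 2 (-1)]]), .force 1 0 0 (.bound 0 396 [[.force 0 1 0 (.quot 1 0), .force 0 1 0 (.quot 1 0), .force 0 1 0 (.quot 1 0), .force 0 1 0 (.quot 1 0), .force 0 1 0 (.quot 1 0), .force 0 1 0 (.quot 1 0), .force 0 1 0 (.quot 1 0), .force 0 1 0 (.quot 1 0), .force 0 1 0 (.quot 1 0)], [.dead 0 1 0, .dead 0 1 0, .dead 0 1 0, .dead 0 1 0, .dead 0 1 0, .dead 0 1 0, .dead 0 1 0, .dead 0 1 0, .dead 0 1 0, .dead 0 1 0]]), .force 1 0 0 (.bound 0 296 [[.force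 0 1 0 (.quot 1 0), .force 0 1 0 (.quot 1 0), .force 0 1 0 (.quot 1 0), .force 0 1 0 (.quot 1 0), .force 0 1 0 (.quot 1 0), .force 0 1 0 (.quot 1 0)], [.dead 0 1 0, .dead 0 1 0, .dead 0 1 0, .dead 0 1 0, .dead 0 1 0, .dead 0 1 0]])], [.force 0 1 0 (.bound 1 0 [[]]), .force 0 1 0 (.bound 1 0 [[]]), .force 0 1 0 (.bound 1 0 [[]]), .force 0 1 0 (.bound 0 0 [[]]), .force 0 1 0 (.bound 0 0 [[]]), .force 0 1 0 (.bound 0 0 [[]])], [.dead 0 1 0, .dead 0 1 0, .dead 0 1 0, .dead 0 1 0, .dead 0 1 0, .dead 0 1 0]], .bound 1 665 [[.force 0 1 0 (.bound 1 164 [[.force 0 0 1 (.quot 0 1)]]), .force 0 1 0 (.bound 1 157 [[.force 0 0 1 (.quot 0 1)]]), .force 0 1 0 (.bound 1 150 [[.force 0 0 1 (.quot 0 1)]]), .force 0 1 0 (.bound 1 141 [[.force 0 0 1 (.quot 0 1)]]), .force 0 1 0 (.bound 1 131 [[.force 0 0 1 (.quot 0 1)]]), .force 0 1 0 (.bound 1 119 [[.force 0 0 1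 (.quot 0 1)]]), .force 0 1 0 (.bound 1 0 [[]]), .force 0 1 0 (.bound 1 0 [[]]), .force 0 1 0 (.bound 1 0 [[]]), .force 0 1 0 (.bound 1 7 [[]]), .force 0 1 0 (.bound 1 15 [[]]), .force 0 1 0 (.bound 1 36 [[]]), .force 0 1 0 (.bound 1 291 [[.force 1 0 0 (.quot 1 0), .force 1 0 0 (.quot 1 0), .force 1 0 0 (.quot 1 0), .force 1 0 0 (.quot 1 0)]]), .force 0 1 0 (.bound 1 1962 [[.dead 0 0 1, .dead 0 0 1, .dead 0 0 1, .dead 0 0 1, .dead 0 0 1, .dead 0 0 1, .dead 0 0 1, .dead 0 0 1, .dead 0 0 1, .dead 0 0 1, .dead 0 0 1, .dead 0 0 1, .dead 0 0 1, .dead 0 0 1, .dead 0 0 1, .dead 0 0 1, .dead 0 0 1, .force 0 0 1 (.quot 0 1), .force 0 0 1 (.quot 0 1), .force 0 0 1 (.quot 0 1), .force 0 0 1 (.quot 0 1), .force 0 0 1 (.quot 0 1), .force 0 0 1 (.quot 0 1), .force 0 0 1 (.quot 0 1), .force 0 0 1 (.quot 0 1), .force 0 0 1 (.quot 0 1), .force 0 0 1 (.quot 0 1),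 .force 0 0 1 (.quot 0 1), .force 0 0 1 (.quot 0 1)]]), .force 0 1 0 (.bound 1 1022 [[.dead 0 0 1, .dead 0 0 1, .dead 0 0 1, .dead 0 0 1, .dead 0 0 1, .dead 0 0 1, .dead 0 0 1, .dead 0 0 1, .dead 0 0 1, .dead 0 0 1, .dead 0 0 1, .dead 0 0 1, .dead 0 0 1, .dead 0 0 1, .dead 0 0 1]]), .force 0 1 0 (.bound 1 750 [[.dead 0 0 1, .dead 0 0 1, .dead 0 0 1, .dead 0 0 1, .dead 0 0 1, .dead 0 0 1, .dead 0 0 1, .dead 0 0 1, .dead 0 0 1, .dead 0 0 1]]), .force 0 1 0 (.bound 1 620 [[.dead 0 0 1, .dead 0 0 1, .dead 0 0 1, .dead 0 0 1, .dead 0 0 1, .dead 0 0 1, .dead 0 0 1, .dead 0 0 1]]), .force 0 1 0 (.bound 1 544 [[.dead 0 0 1, .dead 0 0 1, .dead 0 0 1, .dead 0 0 1, .dead 0 0 1, .dead 0 0 1, .dead 0 0 1]])], [.dead 0 1 0, .dead 0 1 0, .dead 0 1 0, .dead 0 1 0, .dead 0 1 0, .dead 0 1 0, .dead 0 1 0, .dead 0 1 0, .dead 0 1 0, .dead 0 1 0, .dead 0 1 0, .dead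 0 1 0, .dead 0 1 0, .dead 0 1 0, .dead 0 1 0, .dead 0 1 0, .dead 0 1 0, .dead 0 1 0], [.bound 1 17 [[], [], []], .bound 0 702 [[.dead 1 0 0, .dead 1 0 0, .dead 1 0 0, .dead 1 0 0, .dead 1 0 0, .dead 1 0 0, .dead 1 0 0, .dead 1 0 0, .dead 1 0 0, .dead 1 0 0, .dead 1 0 0, .dead 1 0 0, .dead 1 0 0, .force 1 0 0 (.dead 0 2 (-1)), .force 1 0 0 (.dead 0 2 (-1)), .force 1 0 0 (.dead 0 2 (-1)), .force 1 0 0 (.dead 0 2 (-1)), .force 1 0 0 (.dead 0 2 (-1)), .force 1 0 0 (.dead 0 2 (-1)), .force 1 0 0 (.dead 0 2 (-1)), .force 1 0 0 (.dead 0 2 (-1)), .force 1 0 0 (.dead 0 2 (-1))], [.force 0 1 0 (.force 0 0 1 (.quot 0 1))], [], [.force 1 0 0 (.dead 0 2 (-1)), .dead 1 0 0, .dead 1 0 0, .dead 1 0 0, .dead 1 0 0, .dead 1 0 0, .dead 1 0 0, .dead 1 0 0, .dead 1 0 0, .dead 1 0 0]], .bound 0 702 [[.dead 1 0 0, .dead 1 0 0, .dead 1 0 0, .dead 1 0 0, .dead 1 0 0,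 .dead 1 0 0, .dead 1 0 0, .dead 1 0 0, .dead 1 0 0, .dead 1 0 0, .dead 1 0 0, .dead 1 0 0, .dead 1 0 0, .force 1 0 0 (.dead 0 2 (-1)), .force 1 0 0 (.dead 0 2 (-1)), .force 1 0 0 (.dead 0 2 (-1)), .force 1 0 0 (.dead 0 2 (-1)), .force 1 0 0 (.dead 0 2 (-1)), .force 1 0 0 (.dead 0 2 (-1)), .force 1 0 0 (.dead 0 2 (-1)), .force 1 0 0 (.dead 0 2 (-1)), .force 1 0 0 (.dead 0 2 (-1))], [.force 0 1 0 (.force 0 0 1 (.quot 0 1))], [], [.force 1 0 0 (.dead 0 2 (-1)), .dead 1 0 0, .dead 1 0 0, .dead 1 0 0, .dead 1 0 0, .dead 1 0 0, .dead 1 0 0, .dead 1 0 0, .dead 1 0 0, .dead 1 0 0]], .bound 0 702 [[.dead 1 0 0, .dead 1 0 0, .dead 1 0 0, .dead 1 0 0, .dead 1 0 0, .dead 1 0 0, .dead 1 0 0, .dead 1 0 0, .dead 1 0 0, .dead 1 0 0, .dead 1 0 0, .dead 1 0 0, .dead 1 0 0, .force 1 0 0 (.dead 0 2 (-1)), .force 1 0 0 (.dead 0 2 (-1)), .force 1 0 0 (.dead 0 2 (-1)),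 .force 1 0 0 (.dead 0 2 (-1)), .force 1 0 0 (.dead 0 2 (-1)), .force 1 0 0 (.dead 0 2 (-1)), .force 1 0 0 (.dead 0 2 (-1)), .force 1 0 0 (.dead 0 2 (-1)), .force 1 0 0 (.dead 0 2 (-1))], [.force 0 1 0 (.force 0 0 1 (.quot 0 1))], [], [.force 1 0 0 (.dead 0 2 (-1)), .dead 1 0 0, .dead 1 0 0, .dead 1 0 0, .dead 1 0 0, .dead 1 0 0, .dead 1 0 0, .dead 1 0 0, .dead 1 0 0, .dead 1 0 0]], .bound 0 702 [[.dead 1 0 0, .dead 1 0 0, .dead 1 0 0, .dead 1 0 0, .dead 1 0 0, .dead 1 0 0, .dead 1 0 0, .dead 1 0 0, .dead 1 0 0, .dead 1 0 0, .dead 1 0 0, .dead 1 0 0, .dead 1 0 0, .force 1 0 0 (.dead 0 2 (-1)), .force 1 0 0 (.dead 0 2 (-1)), .force 1 0 0 (.dead 0 2 (-1)), .force 1 0 0 (.dead 0 2 (-1)), .force 1 0 0 (.dead 0 2 (-1)), .force 1 0 0 (.dead 0 2 (-1)), .force 1 0 0 (.dead 0 2 (-1)), .force 1 0 0 (.dead 0 2 (-1)), .force 1 0 0 (.dead 0 2 (-1))], [.force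 0 1 0 (.force 0 0 1 (.quot 0 1))], [], [.force 1 0 0 (.dead 0 2 (-1)), .dead 1 0 0, .dead 1 0 0, .dead 1 0 0, .dead 1 0 0, .dead 1 0 0, .dead 1 0 0, .dead 1 0 0, .dead 1 0 0, .dead 1 0 0]], .bound 1 987 [[.force 0 1 0 (.force 0 0 1 (.quot 0 1)), .force 0 1 0 (.force 0 0 1 (.quot 0 1)), .force 0 1 0 (.force 0 0 1 (.quot 0 1)), .force 0 1 0 (.force 0 0 1 (.quot 0 1)), .force 0 1 0 (.force 0 0 1 (.quot 0 1)), .force 0 1 0 (.dead 0 0 1), .force 0 1 0 (.dead 0 0 1), .force 0 1 0 (.dead 0 0 1), .force 0 1 0 (.dead 0 0 1), .force 0 1 0 (.dead 0 0 1)], [.dead 0 1 0, .dead 0 1 0, .dead 0 1 0, .dead 0 1 0, .dead 0 1 0, .dead 0 1 0, .dead 0 1 0, .dead 0 1 0, .dead 0 1 0, .dead 0 1 0]], .bound 1 836 [[.force 0 1 0 (.force 0 0 1 (.quot 0 1)), .force 0 1 0 (.force 0 0 1 (.quot 0 1)), .force 0 1 0 (.force 0 0 1 (.quot 0 1)), .force 0 1 0 (.dead 0 0 1), .force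 0 1 0 (.dead 0 0 1)], [.dead 0 1 0, .dead 0 1 0, .dead 0 1 0, .dead 0 1 0, .dead 0 1 0, .dead 0 1 0]], .bound 1 747 [[.force 0 1 0 (.force 0 0 1 (.quot 0 1)), .force 0 1 0 (.dead 0 0 1)], [.dead 0 1 0, .dead 0 1 0]], .bound 1 689 [[], []]]], .bound 0 11 [[], [], []], .bound 0 54 [[.dead 1 0 0, .dead 1 0 0], [], []], .bound 0 80 [[.dead 1 0 0, .dead 1 0 0, .dead 1 0 0], [], []]], [.dead 1 0 0, .dead 1 0 0, .dead 1 0 0, .dead 1 0 0, .dead 1 0 0, .force 1 0 0 (.bound 0 221 [[.bound 0 0 [[], []]], [.bound 1 0 [[], []], .bound 1 0 [[], []], .bound 0 0 [[], []], .bound 0 0 [[], []]], [.bound 0 222 [[], []], .bound 0 226 [[], []], .bound 0 0 [[], []], .bound 0 0 [[], []]]])], [.bound 1 0 [[], []], .bound 1 0 [[], []], .bound 0 0 [[], [], []]], [.bound 0 199 [[], [], []], .bound 0 201 [[], [], []], .bound 0 0 [[], [], []], .bound 0 0 [[], [], []]]]]]],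 [.bound 1 0 [[], [], []], .bound 1 158 [[.bound 1 0 [[], []], .bound 1 171 [[.force 0 1 0 (.bound 1 144 [[.bound 0 67 [[.dead 1 0 0, .dead 1 0 0]]]]), .force 0 1 0 (.bound 0 45 [[.dead 1 0 0]])], [.bound 0 84 [[.force 0 1 0 (.bound 1 205 [[.force 0 0 1 (.quot 0 1), .force 0 0 1 (.quot 0 1)]]), .force 0 1 0 (.bound 3 0 []), .force 0 1 0 (.bound 0 27 [[.dead 1 0 0]])], [.dead 1 0 0, .dead 1 0 0, .dead 1 0 0], []]]]], [.bound 1 133 [[], [.bound 1 157 [[.force 0 1 0 (.bound 0 67 [[.dead 1 0 0, .dead 1 0 0]])], [.bound 1 207 [[.force 0 1 0 (.dead 0 0 1), .force 0 1 0 (.force 0 0 1 (.quot 0 1))]]]]]], .bound 1 159 [[], [.bound 1 187 [[.force 0 1 0 (.bound 1 0 [[]])], [.bound 1 324 [[.force 0 1 0 (.dead 0 0 1), .force 0 1 0 (.dead 0 0 1), .force 0 1 0 (.force 0 0 1 (.quot 0 1)), .force 0 1 0 (.force 0 0 1 (.quot 0 1))]], .bound 1 192 [[]]]]]]], [.bound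 1 182 [[.bound 1 0 [[], []]], [], [.bound 1 281 [[.bound 1 0 [[]], .bound 1 85 [[], [.force 1 0 0 (.force 0 0 1 (.quot 0 1))]], .bound 0 100 [[.force 0 1 0 (.dead 0 0 1), .force 0 1 0 (.dead 0 0 1), .force 0 1 0 (.dead 0 0 1)], [.dead 1 0 0, .dead 1 0 0, .dead 1 0 0], []]], [.bound 1 0 [[]], .bound 1 0 [[]], .bound 1 296 [[]], .bound 1 284 [[]]]], .bound 1 183 [[], []]]]]]]]], [.bound 2 142 [[], [.dead 1 0 0, .dead 1 0 0]], .bound 2 0 [[], []], .bound 2 2 [[], []]], [.bound 2 115 [[], []]]]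

/-- Certificate. -/
def certTree1_4 : Tree := .bound 2 114 [[.bound 0 99 [[.bound 0 43 [[.dead 1 0 0], [.force 0 1 0 (.bound 0 0 [[]])], [], []], .bound 3 22 [[.force 0 1 0 (.bound 3 0 [])], []], .bound 0 114 [[.dead 1 0 0, .dead 1 0 0, .dead 1 0 0], [.force 0 1 0 (.bound 0 0 [[], []]), .dead 0 1 0, .force 0 1 0 (.bound 1 53 [[], []])], [.dead 0 1 0, .dead 0 1 0], [.force 1 0 0 (.bound 0 0 [[], []])]]], [.dead 1 0 0, .dead 1 0 0, .dead 1 0 0], [.bound 0 3 [[], [], [], []], .bound 0 0 [[], [], []], .bound 1 58 [[], [], []]], [.bound 0 24 [[], [], [], []], .bound 0 100 [[], [], [], [.force 1 0 0 (.bound 0 0 [[], []])]]], [.force 1 0 0 (.bound 0 0 [[], [], []])]], .bound 1 76 [[.bound 1 35 [[], []], .bound 1 23 [[], [], []]], [.bound 1 67 [[], [.bound 1 77 [[.force 0 1 0 (.bound 1 78 [[.bound 1 151 [[.bound 1 84 [[.force 1 0 0 (.quot 1 0)], [.dead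 0 0 1]], .bound 0 96 [[.dead 1 0 0, .dead 1 0 0, .dead 1 0 0]]]]]])], [.bound 1 96 [[], [.bound 1 223 [[.force 0 1 0 (.bound 1 0 []), .force 0 1 0 (.bound 1 0 []), .force 0 1 0 (.bound 0 57 [[.dead 1 0 0, .dead 1 0 0]]), .force 0 1 0 (.bound 0 57 [[.dead 1 0 0, .dead 1 0 0]])]]]]]]]], .bound 1 76 [[], [.bound 1 87 [[.force 0 1 0 (.bound 0 38 [[.dead 1 0 0]])], [.bound 1 120 [[.force 0 1 0 (.bound 1 0 [[]])], [.bound 0 183 [[.dead 0 1 0, .dead 0 1 0, .dead 0 1 0, .dead 0 1 0, .dead 0 1 0, .dead 0 1 0], [.dead 1 0 0, .dead 1 0 0, .dead 1 0 0, .dead 1 0 0, .dead 1 0 0, .force 1 0 0 (.bound 0 196 [[], [.force 0 1 0 (.quot 1 0), .force 0 1 0 (.quot 1 0)]])], [.force 0 1 0 (.bound 0 0 [[]]), .force 0 1 0 (.bound 0 0 [[]])]], .bound 1 122 [[]]]]]]]]], [.bound 1 86 [[.bound 1 94 [[], [.bound 0 66 [[.dead 0 1 0, .force 0 1 0 (.bound 3 0 [])], [.dead 1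 0 0, .dead 1 0 0], []]]]], [], [.bound 1 114 [[], [], [.bound 0 198 [[.bound 0 208 [[.dead 1 0 0, .dead 1 0 0, .dead 1 0 0, .dead 1 0 0, .dead 1 0 0, .force 1 0 0 (.bound 0 274 [[.force 0 1 0 (.quot 1 0), .force 0 1 0 (.quot 1 0), .force 0 1 0 (.quot 1 0), .dead 0 1 0, .force 0 1 0 (.quot 1 0), .force 0 1 0 (.quot 1 0)], [.dead 0 1 0, .dead 0 1 0, .dead 0 1 0, .dead 0 1 0, .dead 0 1 0, .dead 0 1 0]]), .force 1 0 0 (.bound 0 195 [[.force 0 1 0 (.quot 1 0), .force 0 1 0 (.quot 1 0), .dead 0 1 0], [.force 0 1 0 (.quot 1 0), .dead 0 1 0, .dead 0 1 0, .dead 0 1 0]])], [.force 0 1 0 (.bound 1 0 []), .force 0 1 0 (.bound 1 0 []), .dead 0 1 0, .force 0 1 0 (.bound 0 0 [[]])], [.dead 0 1 0, .dead 0 1 0, .dead 0 1 0, .dead 0 1 0]], .bound 1 409 [[.force 0 1 0 (.bound 1 0 []), .force 0 1 0 (.bound 1 0 []), .force 0 1 0 (.bound 1 0 []), .force 0 1 0 (.bound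 1 0 []), .force 0 1 0 (.bound 1 0 []), .force 0 1 0 (.bound 0 67 [[.dead 1 0 0, .dead 1 0 0]]), .force 0 1 0 (.bound 0 79 [[.dead 1 0 0, .dead 1 0 0, .dead 1 0 0]]), .force 0 1 0 (.bound 0 87 [[.dead 1 0 0, .dead 1 0 0, .dead 1 0 0]]), .force 0 1 0 (.bound 0 93 [[.dead 1 0 0, .dead 1 0 0, .dead 1 0 0]]), .force 0 1 0 (.bound 1 0 [])], [.dead 0 1 0, .dead 0 1 0, .dead 0 1 0, .dead 0 1 0, .dead 0 1 0, .dead 0 1 0, .dead 0 1 0, .dead 0 1 0, .dead 0 1 0, .dead 0 1 0]], .bound 1 409 [[.force 0 1 0 (.bound 1 0 []), .force 0 1 0 (.bound 1 0 []), .force 0 1 0 (.bound 1 0 []), .force 0 1 0 (.bound 1 0 []), .force 0 1 0 (.bound 1 0 []), .force 0 1 0 (.bound 1 190 [[.force 1 0 0 (.quot 1 0), .force 1 0 0 (.quot 1 0)], [.dead 0 0 1, .dead 0 0 1]]), .force 0 1 0 (.bound 1 397 [[.force 1 0 0 (.quot 1 0), .force 1 0 0 (.quot 1 0), .force 1 0 0 (.quot 1 0), .force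 1 0 0 (.quot 1 0), .force 1 0 0 (.quot 1 0), .force 1 0 0 (.quot 1 0)], [.dead 0 0 1, .dead 0 0 1, .dead 0 0 1, .dead 0 0 1, .dead 0 0 1, .dead 0 0 1]]), .force 0 1 0 (.bound 1 957 [[.force 1 0 0 (.quot 1 0), .force 1 0 0 (.quot 1 0), .force 1 0 0 (.quot 1 0), .force 1 0 0 (.quot 1 0), .force 1 0 0 (.quot 1 0), .force 1 0 0 (.quot 1 0), .force 1 0 0 (.quot 1 0), .force 1 0 0 (.quot 1 0), .force 1 0 0 (.quot 1 0), .force 1 0 0 (.quot 1 0), .force 1 0 0 (.quot 1 0), .force 1 0 0 (.quot 1 0), .force 1 0 0 (.quot 1 0), .force 1 0 0 (.quot 1 0)], [.dead 0 0 1, .dead 0 0 1, .dead 0 0 1, .dead 0 0 1, .dead 0 0 1, .dead 0 0 1, .dead 0 0 1, .dead 0 0 1, .dead 0 0 1, .dead 0 0 1, .dead 0 0 1, .dead 0 0 1, .dead 0 0 1, .dead 0 0 1]]), .force 0 1 0 (.bound 1 7590 [[.force 1 0 0 (.quot 1 0), .force 1 0 0 (.quot 1 0), .force 1 0 0 (.quot 1 0), .force 1 0 0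 (.quot 1 0), .force 1 0 0 (.quot 1 0), .force 1 0 0 (.quot 1 0), .force 1 0 0 (.quot 1 0), .force 1 0 0 (.quot 1 0), .force 1 0 0 (.quot 1 0), .force 1 0 0 (.quot 1 0), .force 1 0 0 (.quot 1 0), .force 1 0 0 (.quot 1 0), .force 1 0 0 (.quot 1 0), .force 1 0 0 (.quot 1 0), .force 1 0 0 (.quot 1 0), .force 1 0 0 (.quot 1 0), .force 1 0 0 (.quot 1 0), .force 1 0 0 (.quot 1 0), .force 1 0 0 (.quot 1 0), .force 1 0 0 (.quot 1 0), .force 1 0 0 (.quot 1 0), .force 1 0 0 (.quot 1 0), .force 1 0 0 (.quot 1 0), .force 1 0 0 (.quot 1 0), .force 1 0 0 (.quot 1 0), .force 1 0 0 (.quot 1 0), .force 1 0 0 (.quot 1 0), .force 1 0 0 (.quot 1 0), .force 1 0 0 (.quot 1 0), .force 1 0 0 (.quot 1 0), .force 1 0 0 (.quot 1 0), .force 1 0 0 (.quot 1 0), .force 1 0 0 (.quot 1 0), .force 1 0 0 (.quot 1 0), .force 1 0 0 (.quot 1 0), .force 1 0 0 (.quot 1 0), .force 1 0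 0 (.quot 1 0), .force 1 0 0 (.quot 1 0), .force 1 0 0 (.quot 1 0), .force 1 0 0 (.quot 1 0), .force 1 0 0 (.quot 1 0), .force 1 0 0 (.quot 1 0), .force 1 0 0 (.quot 1 0), .force 1 0 0 (.quot 1 0), .force 1 0 0 (.quot 1 0), .force 1 0 0 (.quot 1 0), .force 1 0 0 (.quot 1 0), .force 1 0 0 (.quot 1 0), .force 1 0 0 (.quot 1 0), .force 1 0 0 (.quot 1 0), .force 1 0 0 (.quot 1 0), .force 1 0 0 (.quot 1 0), .force 1 0 0 (.quot 1 0), .force 1 0 0 (.quot 1 0), .force 1 0 0 (.quot 1 0), .force 1 0 0 (.quot 1 0), .force 1 0 0 (.quot 1 0), .force 1 0 0 (.quot 1 0), .force 1 0 0 (.quot 1 0), .force 1 0 0 (.quot 1 0), .force 1 0 0 (.quot 1 0), .force 1 0 0 (.quot 1 0), .force 1 0 0 (.quot 1 0), .force 1 0 0 (.quot 1 0), .force 1 0 0 (.quot 1 0), .force 1 0 0 (.quot 1 0), .force 1 0 0 (.quot 1 0), .force 1 0 0 (.quot 1 0), .force 1 0 0 (.quot 1 0), .force 1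 0 0 (.quot 1 0), .force 1 0 0 (.quot 1 0), .force 1 0 0 (.quot 1 0), .force 1 0 0 (.quot 1 0), .force 1 0 0 (.quot 1 0), .force 1 0 0 (.quot 1 0), .force 1 0 0 (.quot 1 0), .force 1 0 0 (.quot 1 0), .force 1 0 0 (.quot 1 0), .force 1 0 0 (.quot 1 0), .force 1 0 0 (.quot 1 0), .force 1 0 0 (.quot 1 0), .force 1 0 0 (.quot 1 0), .force 1 0 0 (.quot 1 0), .force 1 0 0 (.quot 1 0), .force 1 0 0 (.quot 1 0), .force 1 0 0 (.quot 1 0), .force 1 0 0 (.quot 1 0), .force 1 0 0 (.quot 1 0), .force 1 0 0 (.quot 1 0), .force 1 0 0 (.quot 1 0), .force 1 0 0 (.quot 1 0), .force 1 0 0 (.quot 1 0), .force 1 0 0 (.quot 1 0), .force 1 0 0 (.quot 1 0), .force 1 0 0 (.quot 1 0), .force 1 0 0 (.quot 1 0), .force 1 0 0 (.quot 1 0), .force 1 0 0 (.quot 1 0), .force 1 0 0 (.quot 1 0), .force 1 0 0 (.quot 1 0), .force 1 0 0 (.quot 1 0), .force 1 0 0 (.quot 1 0), .force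 1 0 0 (.quot 1 0), .force 1 0 0 (.quot 1 0), .force 1 0 0 (.quot 1 0), .force 1 0 0 (.quot 1 0), .force 1 0 0 (.quot 1 0), .force 1 0 0 (.quot 1 0), .force 1 0 0 (.quot 1 0), .force 1 0 0 (.quot 1 0), .force 1 0 0 (.quot 1 0), .force 1 0 0 (.quot 1 0), .force 1 0 0 (.quot 1 0), .force 1 0 0 (.quot 1 0), .force 1 0 0 (.quot 1 0), .force 1 0 0 (.quot 1 0), .force 1 0 0 (.quot 1 0), .force 1 0 0 (.quot 1 0)], [.dead 0 0 1, .dead 0 0 1, .dead 0 0 1, .dead 0 0 1, .dead 0 0 1, .dead 0 0 1, .dead 0 0 1, .dead 0 0 1, .dead 0 0 1, .dead 0 0 1, .dead 0 0 1, .dead 0 0 1, .dead 0 0 1, .dead 0 0 1, .dead 0 0 1, .dead 0 0 1, .dead 0 0 1, .dead 0 0 1, .dead 0 0 1, .dead 0 0 1, .dead 0 0 1, .dead 0 0 1, .dead 0 0 1, .dead 0 0 1, .dead 0 0 1, .dead 0 0 1, .dead 0 0 1, .dead 0 0 1, .dead 0 0 1, .dead 0 0 1, .dead 0 0 1, .dead 0 0 1, .dead 0 0 1, .dead 0 0 1, .dead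 0 0 1, .dead 0 0 1, .dead 0 0 1, .dead 0 0 1, .dead 0 0 1, .dead 0 0 1, .dead 0 0 1, .dead 0 0 1, .dead 0 0 1, .dead 0 0 1, .dead 0 0 1, .dead 0 0 1, .dead 0 0 1, .dead 0 0 1, .dead 0 0 1, .dead 0 0 1, .dead 0 0 1, .dead 0 0 1, .dead 0 0 1, .dead 0 0 1, .dead 0 0 1, .dead 0 0 1, .dead 0 0 1, .dead 0 0 1, .dead 0 0 1, .dead 0 0 1, .dead 0 0 1, .dead 0 0 1, .dead 0 0 1, .dead 0 0 1, .dead 0 0 1, .dead 0 0 1, .dead 0 0 1, .dead 0 0 1, .dead 0 0 1, .dead 0 0 1, .dead 0 0 1, .dead 0 0 1, .dead 0 0 1, .dead 0 0 1, .dead 0 0 1, .dead 0 0 1, .dead 0 0 1, .dead 0 0 1, .dead 0 0 1, .dead 0 0 1, .dead 0 0 1, .dead 0 0 1, .dead 0 0 1, .dead 0 0 1, .dead 0 0 1, .dead 0 0 1, .dead 0 0 1, .dead 0 0 1, .dead 0 0 1, .dead 0 0 1, .dead 0 0 1, .dead 0 0 1, .dead 0 0 1, .dead 0 0 1, .dead 0 0 1, .dead 0 0 1, .dead 0 0 1, .dead 0 0 1, .dead 0 0 1, .dead 0 0 1, .dead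 0 0 1, .dead 0 0 1, .dead 0 0 1, .dead 0 0 1, .dead 0 0 1, .dead 0 0 1, .dead 0 0 1, .dead 0 0 1, .dead 0 0 1, .dead 0 0 1, .dead 0 0 1, .dead 0 0 1, .dead 0 0 1, .dead 0 0 1, .dead 0 0 1, .dead 0 0 1, .dead 0 0 1, .dead 0 0 1]]), .force 0 1 0 (.bound 1 0 [])], [.dead 0 1 0, .dead 0 1 0, .dead 0 1 0, .dead 0 1 0, .dead 0 1 0, .dead 0 1 0, .dead 0 1 0, .dead 0 1 0, .dead 0 1 0, .dead 0 1 0]], .bound 0 11 [[], [], []], .bound 0 53 [[.dead 1 0 0, .dead 1 0 0], [], []], .bound 0 77 [[.dead 1 0 0, .dead 1 0 0, .dead 1 0 0], [], []]], [.dead 1 0 0, .dead 1 0 0, .dead 1 0 0, .dead 1 0 0, .dead 1 0 0, .force 1 0 0 (.bound 0 221 [[.bound 0 0 [[], []]], [.bound 1 0 [[]], .bound 1 0 [[]], .bound 0 0 [[], []], .bound 0 0 [[], []]], [.bound 0 222 [[], []], .bound 0 226 [[], []], .bound 0 0 [[], []], .bound 0 0 [[], []]]])], [.bound 1 0 [[]], .bound 1 0 [[]],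 .bound 0 0 [[], [], []]], [.bound 0 199 [[], [], []], .bound 0 201 [[], [], []], .bound 0 0 [[], [], []], .bound 0 0 [[], [], []]]]]]]]]]], [.bound 2 142 [[], [.dead 1 0 0, .dead 1 0 0]], .bound 2 0 [[], []], .bound 2 2 [[], []]], [.bound 2 115 [[], []]]]

theorem configOk1 : tableOk (configs.getD 1 []) [certTree1_0, certTree1_1, certTree1_2, certTree1_3, certTree1_4] = true := by
  decide +kernel

end CfsgLib.Invol.UThreeFour
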