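import Cfsg.Agent.Lib.Invol.UThreeFour.CertSearch

/-!
The orbit shapes for groups of `U3(4)` type: enumeration of multisets with given quadratic invariants.
-/

set_option autoImplicit false
set_option linter.unusedVariables false

namespace CfsgLib.Invol.UThreeFour.Cert

/-- a coefficient vector -/
structure W where
  w0 : ℤ
  w1 : ℤ
  w2 : ℤ
  w3 : ℤ
  w4 : ℤ
  w5 : ℤ
deriving DecidableEq, Repr

/-- the Galois shift -/
def W.g (w : W) : W := ⟨w.w0, w.w2, w.w4, w.w1, w.w3, w.w5⟩

/-- negation -/
def W.neg (w : W) : W := ⟨-w.w0, -w.w1, -w.w2, -w.w3, -w.w4, -w.w5⟩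

/-- value at an involution -/
def W.val (w : W) : ℤ := 5 * w.w5 - 4 * (w.w0 + w.w1 + w.w2 + w.w3 + w.w4)

/-- length of the orbit -/
def W.per (w : W) : ℕ := if w.g = w then 1 else if w.g.g = w then 2 else 4

/-- the orbit -/
def W.orb (w : W) : List W :=
  if w.g = w then [w] else if w.g.g = w then [w, w.g] else [w, w.g, w.g.g, w.g.g.g]

/-- invariants: eight quadratic ones and three indicator sums -/
structure Inv where
  q00 : ℤ
  q11 : ℤ
  q55 : ℤ
  q01 : ℤ
  q05 : ℤ
  q15 : ℤ
  q12 : ℤ
  q14 : ℤ
  n0 : ℤ
  n1 : ℤ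
  n5 : ℤ
deriving DecidableEq, Repr

/-- zero -/
def Inv.zero : Inv := ⟨0, 0, 0, 0, 0, 0, 0, 0, 0, 0, 0⟩

/-- sum -/
def Inv.add (a b : Inv) : Inv :=
  ⟨a.q00 + b.q00, a.q11 + b.q11, a.q55 + b.q55, a.q01 + b.q01, a.q05 + b.q05, a.q15 + b.q15, a.q12 + b.q12,
    a.q14 + b.q14, a.n0 + b.n0, a.n1 + b.n1, a.n5 + b.n5⟩

/-- difference -/
def Inv.sub (a b : Inv) : Inv :=
  ⟨a.q00 - b.q00, a.q11 - b.q11, a.q55 - b.q55, a.q01 - b.q01, a.q05 - b.q05, a.q15 - b.q15, a.q12 - b.q12,
    a.q14 - b.q14, a.n0 - b.n0, a.n1 - b.n1, a.n5 - b.n5⟩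

/-- evaluate before using -/
def Inv.force {α : Sort*} (r : Inv) (k : Inv → α) : α :=
  forceInt r.q00 fun a => forceInt r.q11 fun b => forceInt r.q55 fun c => forceInt r.q01 fun d =>
    forceInt r.q05 fun e => forceInt r.q15 fun f => forceInt r.q12 fun g => forceInt r.q14 fun h =>
    forceInt r.n0 fun i => forceInt r.n1 fun j => forceInt r.n5 fun l => k ⟨a, b, c, d, e, f, g, h, i, j, l⟩

@[simp] theorem Inv.force_eq {α : Sort*} (r : Inv) (k : Inv → α) : r.force k = k r := by simp [Inv.force]

/-- necessary for being a sum of orbit invariants -/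
def Inv.pos (r : Inv) : Bool :=
  decide (0 ≤ r.q00) && decide (0 ≤ r.q11) && decide (0 ≤ r.q55) && decide (2 * r.q01 ≤ r.q00 + r.q11) &&
    decide (-(2 * r.q01) ≤ r.q00 + r.q11) && decide (2 * r.q05 ≤ r.q00 + r.q55) &&
    decide (-(2 * r.q05) ≤ r.q00 + r.q55) && decide (2 * r.q15 ≤ r.q11 + r.q55) &&
    decide (-(2 * r.q15) ≤ r.q11 + r.q55) && decide (r.q12 ≤ r.q11) && decide (-r.q12 ≤ r.q11) &&
    decide (r.q14 ≤ r.q11) && decide (-r.q14 ≤ r.q11)

/-- orbit sums of the three coordinates used in the equations -/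
def W.coef (w : W) : V3 :=
  ⟨(w.orb.map W.w0).sum, (w.orb.map W.w1).sum, (w.orb.map W.w5).sum⟩

/-- quadratic invariants of the orbit -/
def W.quad (w : W) : Inv :=
  ⟨(w.orb.map fun u => u.w0 * u.w0).sum, (w.orb.map fun u => u.w1 * u.w1).sum,
    (w.orb.map fun u => u.w5 * u.w5).sum, (w.orb.map fun u => u.w0 * u.w1).sum,
    (w.orb.map fun u => u.w0 * u.w5).sum, (w.orb.map fun u => u.w1 * u.w5).sum,
    (w.orb.map fun u => u.w1 * u.w2).sum, (w.orb.map fun u => u.w1 * u.w4).sum, 0, 0, 0⟩

/-- an orbit of rows: class, multiplicity and indicator -/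
structure Var where
  t : W
  m : ℕ
  nu : ℤ
deriving DecidableEq, Repr

/-- invariants of an orbit of rows -/
def Var.inv (x : Var) : Inv :=
  let q := x.t.quad
  let c := x.t.coef
  ⟨x.m * q.q00, x.m * q.q11, x.m * q.q55, x.m * q.q01, x.m * q.q05, x.m * q.q15, x.m * q.q12, x.m * q.q14,
    x.nu * c.x, x.nu * c.y, x.nu * c.z⟩

/-- the unknown of an orbit of rows -/
def Var.item (x : Var) : PI :=
  ⟨x.t.val, (-3 * x.t.val - 60 * x.t.w5) % 64, ⟨x.m * x.t.coef.x, x.m * x.t.coef.y, x.m * x.t.coef.z⟩,
    if x.t.val % 2 = 0 then 0 else x.nu⟩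

/-- all possibilities over a class -/
def variants (t : W) : List Var :=
  if t.per = 4 then [⟨t, 1, 0⟩] else [⟨t, 1, 1⟩, ⟨t, 1, -1⟩, ⟨t, 2, 0⟩]

/-- invariants left after removing a list -/
def consume {α : Type*} (wt : α → Inv) : Inv → List α → Inv
  | r, [] => r
  | r, x :: xs => consume wt (r.sub (wt x)) xs

/-- multisets from `T` that bring `r` to a final state -/
def go {α : Type*} (wt : α → Inv) (stop fin : Inv → Bool) : ℕ → List α → Inv → List (List α × Inv)
  | 0, _, _ => []
  | n + 1, T, r =>
    if stop r then (if fin r then [([], r)] else [])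
    else
      match T with
      | [] => []
      | t :: T' =>
        ((r.sub (wt t)).force fun r' =>
          if r'.pos then (go wt stop fin n (t :: T') r').map fun x => (t :: x.1, x.2) else []) ++
          go wt stop fin n T' r

theorem Inv.pos_iff {r : Inv} : r.pos = true ↔ 0 ≤ r.q00 ∧ 0 ≤ r.q11 ∧ 0 ≤ r.q55 ∧ 2 * r.q01 ≤ r.q00 + r.q11 ∧
    -(2 * r.q01) ≤ r.q00 + r.q11 ∧ 2 * r.q05 ≤ r.q00 + r.q55 ∧ -(2 * r.q05) ≤ r.q00 + r.q55 ∧
    2 * r.q15 ≤ r.q11 + r.q55 ∧ -(2 * r.q15) ≤ r.q11 + r.q55 ∧ r.q12 ≤ r.q11 ∧ -r.q12 ≤ r.q11 ∧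
    r.q14 ≤ r.q11 ∧ -r.q14 ≤ r.q11 := by
  simp only [Inv.pos, Bool.and_eq_true, decide_eq_true_eq]
  tauto

theorem pos_of_sub {r w : Inv} (hw : w.pos = true) (h : (r.sub w).pos = true) : r.pos = true := by
  rw [Inv.pos_iff] at hw h ⊢
  simp only [Inv.sub] at h
  omega

theorem pos_of_consume {α : Type*} {wt : α → Inv} : ∀ {M : List α} {r : Inv}, (∀ x ∈ M, (wt x).pos = true) →
    (consume wt r M).pos = true → r.pos = true := by
  intro M
  induction M with
  | nil => intro r _ h; exact h
  | cons x M ih =>
    intro r hw h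
    exact pos_of_sub (hw x List.mem_cons_self) (ih (fun y hy => hw y (List.mem_cons_of_mem _ hy)) h)

theorem consume_perm {α : Type*} (wt : α → Inv) {M M' : List α} (h : M.Perm M') :
    ∀ r : Inv, consume wt r M = consume wt r M' := by
  induction h with
  | nil => exact fun _ => rfl
  | cons x _ ih => exact fun r => ih _
  | swap x y l =>
    intro r
    show consume wt ((r.sub (wt y)).sub (wt x)) l = consume wt ((r.sub (wt x)).sub (wt y)) l
    congr 1
    simp only [Inv.sub, Inv.mk.injEq]
    omega
  | trans _ _ ih ih' => exact fun r => (ih r).trans (ih' r)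

theorem consume_append {α : Type*} (wt : α → Inv) : ∀ {A B : List α} {r : Inv},
    consume wt r (A ++ B) = consume wt (consume wt r A) B := by
  intro A
  induction A with
  | nil => intro B r; rfl
  | cons x A ih => intro B r; exact ih

/-- **Completeness of the enumeration.** -/
theorem go_complete {α : Type*} [DecidableEq α] (wt : α → Inv) (stop fin : Inv → Bool)
    (hfs : ∀ r, fin r = true → stop r = true ∧ r.pos = true) :
    ∀ (n : ℕ) (T M : List α) (r : Inv), (∀ x ∈ T, (wt x).pos = true) →
      (∀ r x, stop r = true → x ∈ T → (r.sub (wt x)).pos = false) → T.length + M.length < n →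
      (∀ x ∈ M, x ∈ T) → fin (consume wt r M) = true →
      ∃ L, (L, consume wt r M) ∈ go wt stop fin n T r ∧ L.Perm M := by
  intro n
  induction n with
  | zero => intro T M r _ _ h; omega
  | succ n ih =>
    intro T M r hw hstop hlen hM hfin
    have hback : ∀ x ∈ M, (r.sub (wt x)).pos = true := fun x hx => by
      refine pos_of_consume (M := M.erase x) (fun y hy => hw y (hM y (List.mem_of_mem_erase hy))) ?_
      have h := (hfs _ hfin).2
      rwa [consume_perm wt (List.perm_cons_erase hx) r] at h
    rw [go.eq_def]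
    simp only [Inv.force_eq]
    split_ifs with hs hf
    · cases M with
      | nil => exact ⟨[], by simp [consume], List.Perm.refl _⟩
      | cons x M =>
        have := hback x List.mem_cons_self
        rw [hstop r x hs (hM x List.mem_cons_self)] at this
        simp at this
    · cases M with
      | nil => exact absurd hfin hf
      | cons x M =>
        have := hback x List.mem_cons_self
        rw [hstop r x hs (hM x List.mem_cons_self)] at this
        simp at this
    · cases T with
      | nil =>
        cases M with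
        | nil => exact absurd (hfs _ hfin).1 hs
        | cons x M => exact absurd (hM x List.mem_cons_self) List.not_mem_nil
      | cons t T =>
        simp only [List.mem_append]
        by_cases ht : t ∈ M
        · have hp := List.perm_cons_erase ht
          have hl : M.length = (M.erase t).length + 1 := by rw [hp.length_eq]; rfl
          have he : consume wt r M = consume wt (r.sub (wt t)) (M.erase t) := consume_perm wt hp r
          obtain ⟨L, hL, hperm⟩ := ih (t :: T) (M.erase t) (r.sub (wt t)) hw hstop (by omega)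
            (fun x hx => hM x (List.mem_of_mem_erase hx)) (he ▸ hfin)
          refine ⟨t :: L, Or.inl ?_, (hperm.cons t).trans hp.symm⟩
          rw [if_pos (hback t ht), List.mem_map]
          exact ⟨_, hL, by rw [he]⟩
        · obtain ⟨L, hL, hperm⟩ := ih T M r (fun x hx => hw x (List.mem_cons_of_mem _ hx))
            (fun r x hs hx => hstop r x hs (List.mem_cons_of_mem _ hx))
            (by simp only [List.length_cons] at hlen; omega) (fun x hx => by
              rcases List.mem_cons.1 (hM x hx) with rfl | h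
              · exact absurd hx ht
              · exact h) hfin
          exact ⟨L, Or.inr hL, hperm⟩

/-! ### The stages -/

/-- classes meeting the first coordinate -/
def stopOne (r : Inv) : Bool := decide (r.q00 = 0)

/-- final after the first stage -/
def finOne (r : Inv) : Bool :=
  decide (r.q00 = 0) && decide (r.q01 = 0) && decide (r.q05 = 0) && r.pos

/-- classes meeting the second coordinate -/
def stopTwo (r : Inv) : Bool := decide (r.q00 = 0) && decide (r.q11 = 0)

/-- final after the second stage -/
def finTwo (r : Inv) : Bool :=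
  decide (r.q00 = 0) && decide (r.q01 = 0) && decide (r.q05 = 0) && decide (r.q11 = 0) && decide (r.q15 = 0) &&
    decide (r.q12 = 0) && decide (r.q14 = 0) && r.pos

/-- everything used -/
def stopAll (r : Inv) : Bool := decide (r.q00 = 0) && decide (r.q11 = 0) && decide (r.q55 = 0)

/-- final -/
def finAll (r : Inv) : Bool := decide (r = Inv.zero)

/-- what is to be reached by the shapes -/
def target : Inv := ⟨4, 5, 15, 1, 3, 4, 1, 1, 0, 0, 0⟩

/-- what is to be reached by the cases -/
def targetCase : Inv := ⟨4, 5, 15, 1, 3, 4, 1, 1, -2, -1, -1⟩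

/-- final after the first stage, for cases -/
def finOneC (r : Inv) : Bool := finOne r && decide (r.n0 = 0)

/-- final after the second stage, for cases -/
def finTwoC (r : Inv) : Bool := finTwo r && decide (r.n0 = 0) && decide (r.n1 = 0)

/-- three stages of enumeration -/
def staged {α : Type*} (wt : α → Inv) (fin₁ fin₂ : Inv → Bool) (T₁ T₂ T₃ : List α) (r : Inv) :
    List (List α) :=
  (go wt stopOne fin₁ 400 T₁ r).flatMap fun a =>
    (go wt stopTwo fin₂ 400 T₂ a.2).flatMap fun b =>
      (go wt stopAll finAll 400 T₃ b.2).map fun c => a.1 ++ (b.1 ++ c.1)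

/-- the shapes from three lists of classes -/
def shapesOf (T₁ T₂ T₃ : List W) : List (List W) := staged W.quad finOne finTwo T₁ T₂ T₃ target

/-- the cases from three lists of possibilities -/
def casesOf (T : List Var × List Var × List Var) : List (List Var) :=
  staged Var.inv finOneC finTwoC T.1 T.2.1 T.2.2 targetCase

/-- run the search on all cases -/
def runAll : List (List Var) → List (List ℕ) → Bool
  | [], [] => true
  | x :: xs, c :: cs => run (x.map Var.item) c && runAll xs cs
  | _, _ => false

theorem runAll_mem : ∀ {xs : List (List Var)} {cs : List (List ℕ)}, runAll xs cs = true →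
    ∀ x ∈ xs, ∃ c, run (x.map Var.item) c = true := by
  intro xs
  induction xs with
  | nil => intro cs _ x hx; exact absurd hx List.not_mem_nil
  | cons y ys ih =>
    intro cs h x hx
    cases cs with
    | nil => simp [runAll] at h
    | cons c cs =>
      simp only [runAll, Bool.and_eq_true] at h
      rcases List.mem_cons.1 hx with rfl | hx
      · exact ⟨c, h.1⟩
      · exact ih h.2 x hx

end CfsgLib.Invol.UThreeFour.Cert
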