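import Cfsg.Agent.Lib.Invol.UThreeFour.CertData

/-!
Orbits of coefficient vectors: representatives, and completeness of the lists of classes.
-/

set_option autoImplicit false

namespace CfsgLib.Invol.UThreeFour.Cert

theorem W.g_four (w : W) : w.g.g.g.g = w := rfl

theorem W.g_neg (w : W) : w.neg.g = w.g.neg := rfl

theorem W.neg_neg (w : W) : w.neg.neg = w := by simp [W.neg]

theorem W.g_injective : Function.Injective W.g := fun a b h => by
  rw [← W.g_four a, ← W.g_four b, h]

theorem W.neg_injective : Function.Injective W.neg := fun a b h => by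
  rw [← W.neg_neg a, ← W.neg_neg b, h]

theorem W.val_g (w : W) : w.g.val = w.val := by simp only [W.val, W.g]; ring

theorem W.val_neg (w : W) : w.neg.val = -w.val := by simp only [W.val, W.neg]; ring

theorem W.iterate_four : W.g^[4] = id := funext W.g_four

theorem W.per_cases (w : W) : w.per = 1 ∨ w.per = 2 ∨ w.per = 4 := by
  unfold W.per; split_ifs <;> simp

theorem W.per_pos (w : W) : 0 < w.per := by rcases w.per_cases with h | h | h <;> omega

theorem W.orb_eq (w : W) : w.orb = (List.range w.per).map fun k => W.g^[k] w := by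
  unfold W.orb W.per; split_ifs <;> rfl

theorem W.per_g (w : W) : w.g.per = w.per := by
  unfold W.per
  simp only [W.g_injective.eq_iff]

theorem W.per_iterate (w : W) : ∀ k, (W.g^[k] w).per = w.per
  | 0 => rfl
  | k + 1 => by rw [Function.iterate_succ_apply', W.per_g, W.per_iterate w k]

theorem W.per_neg (w : W) : w.neg.per = w.per := by
  unfold W.per
  simp only [W.g_neg, W.neg_injective.eq_iff]

theorem W.orb_neg (w : W) : w.neg.orb = w.orb.map W.neg := by
  unfold W.orb
  simp only [W.g_neg, W.neg_injective.eq_iff]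
  split_ifs <;> rfl

theorem W.iterate_per (w : W) : W.g^[w.per] w = w := by
  unfold W.per
  split_ifs with h1 h2
  · simpa using h1
  · simpa using h2
  · rfl

theorem W.iterate_inj (w : W) {k l : ℕ} (hk : k < w.per) (hl : l < w.per) (h : W.g^[k] w = W.g^[l] w) : k = l := by
  by_cases h1 : w.g = w
  · simp only [W.per, if_pos h1] at hk hl
    omega
  by_cases h2 : w.g.g = w
  · simp only [W.per, if_neg h1, if_pos h2] at hk hl
    interval_cases k <;> interval_cases l <;> simp only [Function.iterate_succ, Function.iterate_zero,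
      Function.comp_apply, id_eq] at h ⊢
    · exact absurd h.symm h1
    · exact absurd h h1
  simp only [W.per, if_neg h1, if_neg h2] at hk hl
  have h3 : w.g.g.g ≠ w := fun h => h1 (W.g_injective.eq_iff.2 h.symm |>.trans (W.g_four w))
  interval_cases k <;> interval_cases l <;> simp only [Function.iterate_succ, Function.iterate_zero,
      Function.comp_apply, id_eq, W.g_injective.eq_iff] at h ⊢
  all_goals first
    | exact absurd h h1 | exact absurd h.symm h1 | exact absurd h h2 | exact absurd h.symm h2
    | exact absurd h h3 | exact absurd h.symm h3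

/-- lexicographic comparison -/
def W.leb (a b : W) : Bool :=
  decide (a.w0 < b.w0) || (decide (a.w0 = b.w0) && (decide (a.w1 < b.w1) || (decide (a.w1 = b.w1) &&
    (decide (a.w2 < b.w2) || (decide (a.w2 = b.w2) && (decide (a.w3 < b.w3) || (decide (a.w3 = b.w3) &&
      (decide (a.w4 < b.w4) || (decide (a.w4 = b.w4) && decide (a.w5 ≤ b.w5))))))))))

/-- the larger one -/
def W.maxW (a b : W) : W := if a.leb b then b else a

theorem W.maxW_comm (a b : W) : a.maxW b = b.maxW a := by
  obtain ⟨a0, a1, a2, a3, a4, a5⟩ := a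
  obtain ⟨b0, b1, b2, b3, b4, b5⟩ := b
  simp only [W.maxW, W.leb, Bool.or_eq_true, Bool.and_eq_true, decide_eq_true_eq]
  split_ifs <;> simp only [W.mk.injEq] <;> omega

/-- the largest in the orbit -/
def W.top4 (v : W) : W := (v.maxW v.g.g).maxW (v.g.maxW v.g.g.g)

/-- the representative of the orbit, compatible with signs -/
def W.rep (v : W) : W := if v.neg.top4.leb v.top4 then v.top4 else v.neg.top4.neg

theorem W.top4_g (v : W) : v.g.top4 = v.top4 := by
  show (v.g.maxW v.g.g.g).maxW (v.g.g.maxW v) = (v.maxW v.g.g).maxW (v.g.maxW v.g.g.g)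
  rw [W.maxW_comm v.g.g v, W.maxW_comm (v.g.maxW v.g.g.g)]

theorem W.rep_g (v : W) : v.g.rep = v.rep := by
  unfold W.rep
  rw [← W.g_neg, W.top4_g, W.top4_g]

theorem W.rep_iterate (v : W) : ∀ k, (W.g^[k] v).rep = v.rep
  | 0 => rfl
  | k + 1 => by rw [Function.iterate_succ_apply', W.rep_g, W.rep_iterate v k]

theorem W.top4_mem (v : W) : ∃ k, k < 4 ∧ v.top4 = W.g^[k] v := by
  simp only [W.top4, W.maxW]
  split_ifs
  all_goals first
    | exact ⟨0, by norm_num, rfl⟩ | exact ⟨1, by norm_num, rfl⟩ | exact ⟨2, by norm_num, rfl⟩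
    | exact ⟨3, by norm_num, rfl⟩

theorem W.neg_iterate (v : W) : ∀ k, W.g^[k] v.neg = (W.g^[k] v).neg
  | 0 => rfl
  | k + 1 => by rw [Function.iterate_succ_apply', Function.iterate_succ_apply', W.neg_iterate v k, W.g_neg]

theorem W.rep_mem (v : W) : ∃ k, v.rep = W.g^[k] v := by
  unfold W.rep
  split_ifs
  · exact (W.top4_mem v).imp fun k h => h.2
  · obtain ⟨k, -, hk⟩ := W.top4_mem v.neg
    exact ⟨k, by rw [hk, W.neg_iterate, W.neg_neg]⟩

theorem W.iterate_mod (w : W) (k : ℕ) : W.g^[k] w = W.g^[k % w.per] w := by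
  conv_lhs => rw [← Nat.mod_add_div k w.per, Function.iterate_add_apply, Function.iterate_mul]
  congr 1
  exact (Function.IsFixedPt.iterate (W.iterate_per w) _)

theorem W.exists_from_rep (v : W) : ∃ l, l < v.rep.per ∧ W.g^[l] v.rep = v := by
  obtain ⟨k, hk⟩ := W.rep_mem v
  refine ⟨(3 * k) % v.rep.per, Nat.mod_lt _ (W.per_pos _), ?_⟩
  rw [← W.iterate_mod, hk, ← Function.iterate_add_apply, show 3 * k + k = 4 * k by ring, Function.iterate_mul,
    W.iterate_four, Function.iterate_id, id_eq]

/-- the classes -/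
def classes : List W := classesOne ++ (classesTwo ++ classesThree)

/-- the interval `-n … n` -/
def ints (n : ℕ) : List ℤ := (List.range (2 * n + 1)).map fun i : ℕ => (i : ℤ) - n

/-- completeness of the classes on the vectors with given first and last coordinate -/
def classesCheck (a b : ℤ) : Bool :=
  (ints 2).all fun w1 => (ints 2).all fun w2 => (ints 2).all fun w3 => (ints 2).all fun w4 =>
    let v : W := ⟨a, w1, w2, w3, w4, b⟩
    decide (v.val = 0) || decide (4 < v.quad.q00) || decide (5 < v.quad.q11) || decide (15 < v.quad.q55) ||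
      decide (v.rep ≠ v) || decide (v ∈ classes) || decide (v.neg ∈ classes)

theorem mem_ints {n : ℕ} {z : ℤ} (h1 : -(n : ℤ) ≤ z) (h2 : z ≤ n) : z ∈ ints n :=
  List.mem_map.2 ⟨(z + n).toNat, List.mem_range.2 (by omega), by omega⟩

end CfsgLib.Invol.UThreeFour.Cert
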