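import Mathlib

/-!
The degree search for groups of `U3(4)` type: a checked replay of a branch and bound tree.

A state is a list of unknowns `(item, lower bound)`, the partial sums `L` (degree equations) and `R / den`
(quotient equations). The codes only say which combination of the equations to look at.
-/

set_option autoImplicit false
set_option linter.unusedVariables false

namespace CfsgLib.Invol.UThreeFour.Cert

/-- evaluate a natural number before using it -/
def forceNat {α : Sort*} (n : ℕ) (k : ℕ → α) : α :=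
  match n with
  | 0 => k 0
  | m + 1 => k (m + 1)

@[simp] theorem forceNat_eq {α : Sort*} (n : ℕ) (k : ℕ → α) : forceNat n k = k n := by cases n <;> rfl

/-- evaluate an integer before using it -/
def forceInt {α : Sort*} (x : ℤ) (k : ℤ → α) : α :=
  match x with
  | Int.ofNat n => forceNat n fun m => k (Int.ofNat m)
  | Int.negSucc n => forceNat n fun m => k (Int.negSucc m)

@[simp] theorem forceInt_eq {α : Sort*} (x : ℤ) (k : ℤ → α) : forceInt x k = k x := by
  cases x <;> simp [forceInt]

/-- three integers -/
structure V3 where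
  x : ℤ
  y : ℤ
  z : ℤ
deriving DecidableEq, Repr

/-- inner product -/
def V3.dot (l c : V3) : ℤ := l.x * c.x + l.y * c.y + l.z * c.z

/-- an unknown: value at an involution, residue, coefficients, forced sign -/
structure PI where
  a : ℤ
  r : ℤ
  c : V3
  sg : ℤ
deriving DecidableEq, Repr

/-- the value at an involution with the sign of `D` -/
def PI.val (p : PI) (D : ℤ) : ℤ := if 0 < D then p.a else -p.a

/-- admissible signed degrees -/
def PI.ok (p : PI) (lb : ℕ) (D : ℤ) : Bool :=
  decide (D ≠ 0) && decide ((D - p.r) % 64 = 0) && decide (lb ≤ D.natAbs) &&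
    decide (0 ≤ (D.natAbs : ℤ) + 3 * p.val D) && decide (p.val D < D.natAbs) &&
    (decide (p.sg = 0) || decide (0 < p.sg * D))

/-- admissible signed degrees of absolute value at most `B` -/
def cands (p : PI) (lb B : ℕ) : List ℤ :=
  ((List.range ((((B : ℤ) - p.r) / 64 - (-(B : ℤ) - p.r) / 64 + 1).toNat)).map
    fun k : ℕ => p.r + 64 * ((-(B : ℤ) - p.r) / 64 + (k : ℤ))).filter fun D => p.ok lb D && decide (D.natAbs ≤ B)

/-- a state -/
structure St where
  it : List (PI × ℕ)
  L : V3
  R : V3
  den : ℤ
  has : Bool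

/-- assign a value -/
def St.assign (s : St) (it : List (PI × ℕ)) (p : PI) (D : ℤ) : St where
  it := it
  L := ⟨s.L.x + p.c.x * D, s.L.y + p.c.y * D, s.L.z + p.c.z * D⟩
  R := ⟨s.R.x * D.natAbs + p.c.x * p.a * p.a * s.den * D.sign, s.R.y * D.natAbs + p.c.y * p.a * p.a * s.den * D.sign,
    s.R.z * D.natAbs + p.c.z * p.a * p.a * s.den * D.sign⟩
  den := s.den * D.natAbs
  has := s.has || (decide (D.natAbs = 12) && decide (p.val D = -4))

/-- evaluate the numbers of a state before using it -/
def St.force {α : Sort*} (s : St) (k : St → α) : α :=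
  forceInt s.L.x fun a => forceInt s.L.y fun b => forceInt s.L.z fun c => forceInt s.R.x fun d =>
    forceInt s.R.y fun e => forceInt s.R.z fun f => forceInt s.den fun g => k ⟨s.it, ⟨a, b, c⟩, ⟨d, e, f⟩, g, s.has⟩

@[simp] theorem St.force_eq {α : Sort*} (s : St) (k : St → α) : s.force k = k s := by simp [St.force]

/-- evaluate the numbers of the items before using them -/
def forceItems {α : Sort*} : List PI → (List PI → α) → α
  | [], k => k []
  | p :: ps, k => forceInt p.a fun a => forceInt p.r fun r => forceInt p.c.x fun x => forceInt p.c.y fun y =>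
      forceInt p.c.z fun z => forceInt p.sg fun g => forceItems ps fun qs => k (⟨a, r, ⟨x, y, z⟩, g⟩ :: qs)

@[simp] theorem forceItems_eq {α : Sort*} : ∀ (ps : List PI) (k : List PI → α), forceItems ps k = k ps
  | [], k => rfl
  | p :: ps, k => by simp [forceItems, forceItems_eq ps]

/-- linear combinations of the degree equations -/
def lins : List V3 :=
  [⟨1, 0, 0⟩, ⟨0, 1, 0⟩, ⟨0, 0, 1⟩, ⟨1, -1, 0⟩, ⟨2, -1, 0⟩, ⟨0, 4, -1⟩, ⟨0, 2, -1⟩, ⟨4, 0, -1⟩, ⟨1, 0, -1⟩]

/-- combinations of the quotient equations -/
def harms : List V3 := [⟨1, -1, 0⟩, ⟨-1, 1, 0⟩, ⟨0, 0, 1⟩, ⟨0, 0, -1⟩, ⟨1, 0, 0⟩, ⟨0, 1, 0⟩]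

/-- the unknown with the first nonzero coefficient, and the others if their coefficients vanish -/
def single (l : V3) : List (PI × ℕ) → Option ((PI × ℕ) × List (PI × ℕ))
  | [] => none
  | x :: xs =>
    if l.dot x.1.c = 0 then
      match single l xs with
      | none => none
      | some (y, rest) => some (y, x :: rest)
    else if xs.all (fun y => decide (l.dot y.1.c = 0)) then some (x, xs) else none

/-- coefficient in a quotient combination -/
def wt (l : V3) (p : PI) : ℤ := -l.dot p.c * p.a * p.a

/-- can contribute positively -/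
def useful (l : V3) (p : PI) : Bool :=
  decide (wt l p ≠ 0) && (decide (p.sg = 0) || decide (0 ≤ wt l p * p.sg))

/-- an upper bound `n / d` of the useful contributions when all exceed `B` -/
def capSum (l : V3) (B : ℕ) : List (PI × ℕ) → ℤ × ℤ
  | [] => (0, 1)
  | x :: xs =>
    match capSum l B xs with
    | (n, d) =>
      if useful l x.1 then
        forceNat (max x.2 (B + 1)) fun m => forceInt (n * (m : ℤ) + (wt l x.1).natAbs * d) fun n' =>
          forceInt (d * (m : ℤ)) fun d' => (n', d')
      else (n, d)

/-- the final test -/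
def leaf (s : St) : Bool :=
  !(decide (s.L = ⟨0, 0, 0⟩) && decide (s.R.x = s.R.y) && decide (s.R.z = 0) && decide (s.R.x < 0)) ||
    (decide (s.R.x * 195 = -32 * s.den) && s.has)

/-- children -/
def children (rec_ : St → List ℕ → Option (List ℕ)) (mk : ℤ → St) : List ℤ → List ℕ → Option (List ℕ)
  | [], cs => some cs
  | D :: Ds, cs =>
    match forceInt D fun D' => rec_ (mk D') cs with
    | none => none
    | some cs' => children rec_ mk Ds cs'

/-- branch over the useful unknowns -/
def branch (rec_ : St → List ℕ → Option (List ℕ)) (s : St) (l : V3) (B : ℕ) :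
    List (PI × ℕ) → List (PI × ℕ) → List ℕ → Option (List ℕ)
  | _, [], cs => some cs
  | pre, x :: post, cs =>
    if useful l x.1 then
      match children rec_ (fun D => s.assign (pre ++ post) x.1 D) (cands x.1 x.2 B) cs with
      | none => none
      | some cs' => forceNat (max x.2 (B + 1)) fun m => branch rec_ s l B (pre ++ [(x.1, m)]) post cs'
    else branch rec_ s l B (pre ++ [x]) post cs

/-- one linear step -/
def linStep (rec_ : St → List ℕ → Option (List ℕ)) (s : St) (l : V3) (cs : List ℕ) : Option (List ℕ) :=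
  if s.it.all (fun y => decide (l.dot y.1.c = 0)) && decide (l.dot s.L ≠ 0) then some cs
  else
    match single l s.it with
    | none => none
    | some (x, rest) =>
      forceInt (l.dot x.1.c) fun w => forceInt (-l.dot s.L) fun v =>
      if v % w ≠ 0 then some cs
      else forceInt (v / w) fun D => if x.1.ok x.2 D then rec_ (s.assign rest x.1 D) cs else some cs

/-- one harmonic step -/
def harmStep (rec_ : St → List ℕ → Option (List ℕ)) (s : St) (l : V3) (B : ℕ) (cs : List ℕ) : Option (List ℕ) :=
  if 0 ≤ l.x + l.y then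
    forceInt (l.dot s.R) fun ρ =>
    if (capSum l B s.it).1 * s.den < ρ * (capSum l B s.it).2 then branch rec_ s l B [] s.it cs
    else if decide (0 < l.x + l.y) && decide (0 ≤ ρ) && s.it.all (fun y => !useful l y.1) then some cs else none
  else none

/-- the search -/
def search : ℕ → St → List ℕ → Option (List ℕ)
  | 0, _, _ => none
  | n + 1, s₀, cs => s₀.force fun s =>
    if s.it.isEmpty then (if leaf s then some cs else none)
    else
      match cs with
      | [] => none
      | c :: cs' =>
        if c % 2 = 0 then linStep (search n) s (lins.getD (c / 2) ⟨0, 0, 0⟩) cs'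
        else harmStep (search n) s (harms.getD (c / 2 % 8) ⟨0, 0, 0⟩) (c / 16) cs'

/-- a case: all unknowns, with the trivial character already assigned -/
def initial (items : List PI) : St :=
  ⟨items.map fun p => (p, p.a.natAbs), ⟨1, 0, 1⟩, ⟨1, 0, 1⟩, 1, false⟩

/-- run a case -/
def run (items : List PI) (cs : List ℕ) : Bool :=
  forceItems items fun its => (search (its.length + 1) (initial its) cs).isSome

/-! ### Soundness -/

/-- the contribution of an assignment to a combination -/
def qv (l : V3) : List (PI × ℕ) → List ℤ → ℚ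
  | x :: xs, D :: Ds => (l.dot x.1.c : ℚ) * x.1.a * x.1.a / D + qv l xs Ds
  | _, _ => 0

/-- the contribution of an assignment to the degree equations -/
def lv (l : V3) : List (PI × ℕ) → List ℤ → ℤ
  | x :: xs, D :: Ds => l.dot x.1.c * D + lv l xs Ds
  | _, _ => 0

/-- the assignment has a row of degree twelve with value minus four -/
def Has (it : List (PI × ℕ)) (Ds : List ℤ) : Prop :=
  ∃ q ∈ it.zip Ds, q.2.natAbs = 12 ∧ q.1.1.val q.2 = -4

/-- a solution of a state -/
def Sol (s : St) (Q : ℚ) (Ds : List ℤ) : Prop :=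
  List.Forall₂ (fun (x : PI × ℕ) D => x.1.ok x.2 D = true) s.it Ds ∧
    (∀ l : V3, l.dot s.L + lv l s.it Ds = 0) ∧
    ∀ l : V3, (l.dot s.R : ℚ) / s.den + qv l s.it Ds = ((l.x + l.y : ℤ) : ℚ) * Q

/-- what is claimed about a solution -/
def Good (s : St) (Q : ℚ) (Ds : List ℤ) : Prop := Q = -32 / 195 ∧ (s.has = true ∨ Has s.it Ds)

theorem PI.ok_iff {p : PI} {lb : ℕ} {D : ℤ} :
    p.ok lb D = true ↔ D ≠ 0 ∧ (D - p.r) % 64 = 0 ∧ lb ≤ D.natAbs ∧ 0 ≤ (D.natAbs : ℤ) + 3 * p.val D ∧
      p.val D < D.natAbs ∧ (p.sg = 0 ∨ 0 < p.sg * D) := by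
  simp only [PI.ok, Bool.and_eq_true, Bool.or_eq_true, decide_eq_true_eq]
  tauto

theorem PI.ok_natAbs {p : PI} {D : ℤ} (h : p.ok 0 D = true) : p.ok p.a.natAbs D = true := by
  rw [PI.ok_iff] at h ⊢
  obtain ⟨h0, h1, -, h3, h4, h5⟩ := h
  refine ⟨h0, h1, ?_, h3, h4, h5⟩
  unfold PI.val at h3 h4
  split_ifs at h3 h4 <;> omega

theorem mem_cands {p : PI} {lb B : ℕ} {D : ℤ} (h : p.ok lb D = true) (hB : D.natAbs ≤ B) : D ∈ cands p lb B := by
  have h64 := (PI.ok_iff.1 h).2.1
  refine List.mem_filter.2 ⟨List.mem_map.2 ⟨((D - p.r) / 64 - (-(B : ℤ) - p.r) / 64).toNat, ?_, ?_⟩, by simp [h, hB]⟩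
  · rw [List.mem_range]; omega
  · show p.r + 64 * ((-(B : ℤ) - p.r) / 64 + (((D - p.r) / 64 - (-(B : ℤ) - p.r) / 64).toNat : ℤ)) = D
    omega

theorem children_some {rec_ : St → List ℕ → Option (List ℕ)} {mk : ℤ → St} :
    ∀ {Ds : List ℤ} {cs cs' : List ℕ}, children rec_ mk Ds cs = some cs' → ∀ D ∈ Ds,
      ∃ c c', rec_ (mk D) c = some c' := by
  intro Ds
  induction Ds with
  | nil => intro cs cs' _ D hD; cases hD
  | cons E Es ih =>
    intro cs cs' h D hD
    simp only [children, forceInt_eq] at h
    split at h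
    · exact absurd h (by simp)
    · rename_i c1 h1
      rcases List.mem_cons.1 hD with rfl | hD
      · exact ⟨cs, c1, h1⟩
      · exact ih h D hD

theorem lv_append (l : V3) : ∀ {xs ys : List (PI × ℕ)} {Ds Es : List ℤ}, xs.length = Ds.length →
    lv l (xs ++ ys) (Ds ++ Es) = lv l xs Ds + lv l ys Es := by
  intro xs
  induction xs with
  | nil => intro ys Ds Es h; obtain rfl := List.length_eq_zero_iff.1 h.symm; simp [lv]
  | cons x xs ih =>
    intro ys Ds Es h
    cases Ds with
    | nil => simp at h
    | cons D Ds => simp [lv, ih (Nat.succ.inj h), add_assoc]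

theorem qv_append (l : V3) : ∀ {xs ys : List (PI × ℕ)} {Ds Es : List ℤ}, xs.length = Ds.length →
    qv l (xs ++ ys) (Ds ++ Es) = qv l xs Ds + qv l ys Es := by
  intro xs
  induction xs with
  | nil => intro ys Ds Es h; obtain rfl := List.length_eq_zero_iff.1 h.symm; simp [qv]
  | cons x xs ih =>
    intro ys Ds Es h
    cases Ds with
    | nil => simp at h
    | cons D Ds => simp [qv, ih (Nat.succ.inj h), add_assoc]

/-- assigning one unknown -/
theorem assign_sol {s : St} {Q : ℚ} (hden : 0 < s.den) {pre post : List (PI × ℕ)} {x : PI × ℕ} {Ds Es : List ℤ}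
    {D : ℤ} (hlen : pre.length = Ds.length) (h : Sol { s with it := pre ++ x :: post } Q (Ds ++ D :: Es)) :
    0 < (s.assign (pre ++ post) x.1 D).den ∧ Sol (s.assign (pre ++ post) x.1 D) Q (Ds ++ Es) ∧
      (Good (s.assign (pre ++ post) x.1 D) Q (Ds ++ Es) → Good { s with it := pre ++ x :: post } Q (Ds ++ D :: Es)) := by
  obtain ⟨hok, hL, hR⟩ := h
  have hsplit := List.forall₂_take (n := pre.length) hok |>.imp fun _ _ h => h
  have hdrop := List.forall₂_drop (n := pre.length) hok
  simp only [List.take_left, List.drop_left] at hsplit hdrop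
  rw [hlen, List.take_left] at hsplit
  rw [hlen, List.drop_left] at hdrop
  obtain ⟨hx, hpost⟩ := List.forall₂_cons.1 hdrop
  have hD0 : D ≠ 0 := (PI.ok_iff.1 hx).1
  have hpos : (0 : ℤ) < D.natAbs := by omega
  refine ⟨mul_pos hden hpos, ⟨List.rel_append hsplit hpost, fun l => ?_, fun l => ?_⟩, ?_⟩
  · have h1 := hL l
    simp only [lv_append l hlen, lv] at h1
    show l.x * (s.L.x + x.1.c.x * D) + l.y * (s.L.y + x.1.c.y * D) + l.z * (s.L.z + x.1.c.z * D) +
      lv l (pre ++ post) (Ds ++ Es) = 0
    rw [lv_append l hlen]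
    simp only [V3.dot] at h1
    linear_combination h1
  · have h1 := hR l
    simp only [qv_append l hlen, qv] at h1
    show ((l.dot (s.assign (pre ++ post) x.1 D).R : ℤ) : ℚ) / ((s.den * D.natAbs : ℤ) : ℚ) +
      qv l (pre ++ post) (Ds ++ Es) = _
    rw [qv_append l hlen, ← h1]
    have hs : (D.sign : ℚ) * D = (D.natAbs : ℤ) := by exact_mod_cast Int.sign_mul_self_eq_natAbs D
    have hDq : (D : ℚ) ≠ 0 := by exact_mod_cast hD0
    have hdq : (s.den : ℚ) ≠ 0 := by exact_mod_cast hden.ne'
    have hnq : ((D.natAbs : ℤ) : ℚ) ≠ 0 := by exact_mod_cast hpos.ne'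
    simp only [V3.dot, St.assign]
    push_cast
    push_cast at hs hnq
    field_simp
    linear_combination ((l.x : ℚ) * x.1.c.x + l.y * x.1.c.y + l.z * x.1.c.z) * x.1.a * x.1.a * s.den * hs
  · rintro ⟨hQ, hh⟩
    refine ⟨hQ, ?_⟩
    rcases hh with hh | ⟨q, hq, hq'⟩
    · simp only [St.assign, Bool.or_eq_true, Bool.and_eq_true, decide_eq_true_eq] at hh
      rcases hh with hh | hh
      · exact Or.inl hh
      · exact Or.inr ⟨(x, D), by simp [List.zip_append hlen], hh⟩
    · refine Or.inr ⟨q, ?_, hq'⟩
      change q ∈ (pre ++ post).zip (Ds ++ Es) at hq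
      rw [List.zip_append hlen, List.mem_append] at hq
      show q ∈ (pre ++ x :: post).zip (Ds ++ D :: Es)
      rw [List.zip_append hlen, List.zip_cons_cons, List.mem_append, List.mem_cons]
      tauto

theorem single_some (l : V3) : ∀ {xs rest : List (PI × ℕ)} {x : PI × ℕ}, single l xs = some (x, rest) →
    ∃ pre post, xs = pre ++ x :: post ∧ rest = pre ++ post ∧ l.dot x.1.c ≠ 0 ∧
      (∀ y ∈ pre, l.dot y.1.c = 0) ∧ ∀ y ∈ post, l.dot y.1.c = 0 := by
  intro xs
  induction xs with
  | nil => intro rest x h; simp [single] at h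
  | cons z zs ih =>
    intro rest x h
    rw [single] at h
    split_ifs at h with h0 hall
    · split at h
      · exact absurd h (by simp)
      · rename_i y r hy
        obtain ⟨rfl, rfl⟩ := Prod.mk.injEq _ _ _ _ ▸ (Option.some.inj h)
        obtain ⟨pre, post, rfl, rfl, hne, hpre, hpost⟩ := ih hy
        refine ⟨z :: pre, post, rfl, rfl, hne, ?_, hpost⟩
        intro w hw
        rcases List.mem_cons.1 hw with rfl | hw
        · exact h0
        · exact hpre w hw
    · obtain ⟨rfl, rfl⟩ := Prod.mk.injEq _ _ _ _ ▸ (Option.some.inj h)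
      refine ⟨[], zs, rfl, rfl, h0, fun y hy => (List.not_mem_nil hy).elim, fun y hy => ?_⟩
      simpa using List.all_eq_true.1 hall y hy

theorem lv_zero (l : V3) : ∀ {xs : List (PI × ℕ)} {Ds : List ℤ}, (∀ y ∈ xs, l.dot y.1.c = 0) → lv l xs Ds = 0 := by
  intro xs
  induction xs with
  | nil => intro Ds _; simp [lv]
  | cons x xs ih =>
    intro Ds h
    cases Ds with
    | nil => simp [lv]
    | cons D Ds => simp [lv, h x List.mem_cons_self, ih fun y hy => h y (List.mem_cons_of_mem _ hy)]

theorem not_useful_le (l : V3) {x : PI × ℕ} {D : ℤ} (h : x.1.ok x.2 D = true) (hu : useful l x.1 = false) :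
    0 ≤ (l.dot x.1.c : ℚ) * x.1.a * x.1.a / D := by
  obtain ⟨hD, -, -, -, -, hsg⟩ := PI.ok_iff.1 h
  have hu' : wt l x.1 = 0 ∨ (x.1.sg ≠ 0 ∧ wt l x.1 * x.1.sg < 0) := by
    by_contra hc
    rw [not_or, not_and, not_lt] at hc
    have : useful l x.1 = true := by
      simp only [useful, Bool.and_eq_true, Bool.or_eq_true, decide_eq_true_eq]
      exact ⟨hc.1, (em (x.1.sg = 0)).imp_right hc.2⟩
    rw [hu] at this
    exact absurd this (by simp)
  simp only [wt] at hu'
  rcases hu' with hu | ⟨hs0, hneg⟩
  · rw [show (l.dot x.1.c : ℚ) * x.1.a * x.1.a = ((l.dot x.1.c * x.1.a * x.1.a : ℤ) : ℚ) by push_cast; rfl,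
      show l.dot x.1.c * x.1.a * x.1.a = 0 by linarith, Int.cast_zero, zero_div]
  · have hpos := hsg.resolve_left hs0
    rw [show (l.dot x.1.c : ℚ) * x.1.a * x.1.a = ((l.dot x.1.c * x.1.a * x.1.a : ℤ) : ℚ) by push_cast; rfl]
    rcases lt_or_gt_of_ne hD with hlt | hgt
    · refine div_nonneg_of_nonpos ?_ (by exact_mod_cast hlt.le)
      exact_mod_cast show l.dot x.1.c * x.1.a * x.1.a ≤ 0 by nlinarith
    · refine div_nonneg ?_ (by exact_mod_cast hgt.le)
      exact_mod_cast show 0 ≤ l.dot x.1.c * x.1.a * x.1.a by nlinarith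

theorem qv_ge_cap (l : V3) (B : ℕ) : ∀ {xs : List (PI × ℕ)} {Ds : List ℤ},
    List.Forall₂ (fun (x : PI × ℕ) D => x.1.ok x.2 D = true) xs Ds →
    (∀ q ∈ xs.zip Ds, useful l q.1.1 = true → B < q.2.natAbs) →
    0 < (capSum l B xs).2 ∧ -(((capSum l B xs).1 : ℚ) / (capSum l B xs).2) ≤ qv l xs Ds := by
  intro xs Ds h
  induction h with
  | nil => intro _; simp [capSum, qv]
  | @cons x D xs Ds hx hxs ih =>
    intro hbig
    obtain ⟨hd, hle⟩ := ih fun q hq => hbig q (by rw [List.zip_cons_cons]; exact List.mem_cons_of_mem _ hq)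
    simp only [capSum, qv, forceInt_eq, forceNat_eq]
    by_cases hu : useful l x.1 = true
    swap
    · rw [if_neg hu]
      exact ⟨hd, by linarith [not_useful_le l hx (by simpa using hu)]⟩
    rw [if_pos hu]
    have hB := hbig (x, D) (by rw [List.zip_cons_cons]; exact List.mem_cons_self) hu
    have hlb := (PI.ok_iff.1 hx).2.2.1
    set m : ℕ := max x.2 (B + 1) with hm
    have hm1 : 1 ≤ m := le_trans (by omega) (le_max_right _ _)
    have hmD : (m : ℚ) ≤ |(D : ℚ)| := by
      rw [← Int.cast_abs, Int.abs_eq_natAbs, Int.cast_natCast]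
      exact_mod_cast max_le hlb hB
    refine ⟨mul_pos hd (by exact_mod_cast hm1), ?_⟩
    have hterm : -((((wt l x.1).natAbs : ℕ) : ℚ) / m) ≤ (l.dot x.1.c : ℚ) * x.1.a * x.1.a / D := by
      have e1 : (((wt l x.1).natAbs : ℕ) : ℚ) = |(l.dot x.1.c : ℚ) * x.1.a * x.1.a| := by
        rw [← Int.cast_natCast (R := ℚ), Int.natCast_natAbs, Int.cast_abs, wt]
        push_cast
        rw [neg_mul, neg_mul, abs_neg]
      rw [e1]
      refine le_trans ?_ (neg_abs_le _)
      rw [neg_le_neg_iff, abs_div]
      exact div_le_div_of_nonneg_left (abs_nonneg _) (by exact_mod_cast hm1) hmD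
    have e2 : ((((capSum l B xs).1 * (m : ℤ) + ((wt l x.1).natAbs : ℤ) * (capSum l B xs).2 : ℤ) : ℚ) /
        (((capSum l B xs).2 * (m : ℤ) : ℤ) : ℚ)) =
        ((capSum l B xs).1 : ℚ) / (capSum l B xs).2 + (((wt l x.1).natAbs : ℕ) : ℚ) / m := by
      have h1 : ((capSum l B xs).2 : ℚ) ≠ 0 := by exact_mod_cast hd.ne'
      have h2 : (m : ℚ) ≠ 0 := by exact_mod_cast (show m ≠ 0 by omega)
      simp only [Int.cast_add, Int.cast_mul, Int.cast_natCast]
      field_simp
    show -((((capSum l B xs).1 * (m : ℤ) + ((wt l x.1).natAbs : ℤ) * (capSum l B xs).2 : ℤ) : ℚ) /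
        (((capSum l B xs).2 * (m : ℤ) : ℤ) : ℚ)) ≤ _
    rw [e2]
    linarith

/-- a state is solved -/
def Solved (s : St) : Prop := ∀ (Q : ℚ) (Ds : List ℤ), Q < 0 → 0 < s.den → Sol s Q Ds → Good s Q Ds

theorem branch_sound {rec_ : St → List ℕ → Option (List ℕ)} (hrec : ∀ t c c', rec_ t c = some c' → Solved t)
    {s : St} (hden : 0 < s.den) {l : V3} {B : ℕ} {Q : ℚ} (hQ : Q < 0) :
    ∀ {post pre : List (PI × ℕ)} {cs cs' : List ℕ} {Ps Ds : List ℤ},
      branch rec_ s l B pre post cs = some cs' → pre.length = Ps.length →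
      Sol { s with it := pre ++ post } Q (Ps ++ Ds) →
      (∃ q ∈ post.zip Ds, useful l q.1.1 = true ∧ q.2.natAbs ≤ B) →
      Good { s with it := pre ++ post } Q (Ps ++ Ds) := by
  intro post
  induction post with
  | nil => intro pre cs cs' Ps Ds _ _ _ ⟨q, hq, _⟩; simp at hq
  | cons x post ih =>
    intro pre cs cs' Ps Ds h hlen hsol hex
    cases Ds with
    | nil => obtain ⟨q, hq, -⟩ := hex; simp at hq
    | cons D Ds =>
      have hokall := hsol.1
      have hdrop := List.forall₂_drop (n := pre.length) hokall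
      simp only [List.drop_left] at hdrop
      rw [hlen, List.drop_left] at hdrop
      obtain ⟨hx, hpost⟩ := List.forall₂_cons.1 hdrop
      have hpre := List.forall₂_take (n := pre.length) hokall
      simp only [List.take_left] at hpre
      rw [hlen, List.take_left] at hpre
      simp only [branch, forceNat_eq] at h
      have hrest : useful l x.1 = true → B < D.natAbs ∨ (Good { s with it := pre ++ x :: post } Q (Ps ++ D :: Ds)) := by
        intro hu
        rw [if_pos hu] at h
        split at h
        · exact absurd h (by simp)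
        · rename_i c1 h1
          rcases Nat.lt_or_ge B D.natAbs with hlt | hge
          · exact Or.inl hlt
          · obtain ⟨c, c', hc⟩ := children_some h1 D (mem_cands hx hge)
            obtain ⟨hden', hsol', hback⟩ := assign_sol hden hlen hsol
            exact Or.inr (hback (hrec _ _ _ hc Q _ hQ hden' hsol'))
      by_cases hu : useful l x.1 = true
      · rcases hrest hu with hlt | hgood
        swap
        · exact hgood
        rw [if_pos hu] at h
        split at h
        · exact absurd h (by simp)
        · have hlen' : (pre ++ [(x.1, max x.2 (B + 1))]).length = (Ps ++ [D]).length := by simp [hlen]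
          have hx' : x.1.ok (max x.2 (B + 1)) D = true := by
            rw [PI.ok_iff] at hx ⊢
            exact ⟨hx.1, hx.2.1, max_le hx.2.2.1 hlt, hx.2.2.2⟩
          have hsol2 : Sol { s with it := (pre ++ [(x.1, max x.2 (B + 1))]) ++ post } Q ((Ps ++ [D]) ++ Ds) := by
            refine ⟨List.rel_append (List.rel_append hpre (List.Forall₂.cons hx' List.Forall₂.nil)) hpost,
              fun m => ?_, fun m => ?_⟩
            · have e := hsol.2.1 m
              simp only [lv_append m hlen', lv_append m hlen, lv] at e ⊢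
              linarith
            · have e := hsol.2.2 m
              simp only [qv_append m hlen', qv_append m hlen, qv] at e ⊢
              linarith
          have hex2 : ∃ q ∈ post.zip Ds, useful l q.1.1 = true ∧ q.2.natAbs ≤ B := by
            obtain ⟨q, hq, hq1, hq2⟩ := hex
            rw [List.zip_cons_cons, List.mem_cons] at hq
            rcases hq with rfl | hq
            · exact absurd hq2 (not_le.2 hlt)
            · exact ⟨q, hq, hq1, hq2⟩
          obtain ⟨g1, g2⟩ := ih h hlen' hsol2 hex2
          refine ⟨g1, g2.imp_right ?_⟩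
          rintro ⟨q, hq, hq1⟩
          show ∃ q ∈ (pre ++ x :: post).zip (Ps ++ D :: Ds), _
          simp only [List.zip_append hlen', List.zip_append hlen, List.zip_cons_cons, List.zip_nil_right,
            List.mem_append, List.mem_singleton] at hq
          rcases hq with (hq | rfl) | hq
          · exact ⟨q, by simp [List.zip_append hlen, hq], hq1⟩
          · exact ⟨(x, D), by simp [List.zip_append hlen], hq1⟩
          · exact ⟨q, by simp [List.zip_append hlen, hq], hq1⟩
      · rw [if_neg hu] at h
        have hlen' : (pre ++ [x]).length = (Ps ++ [D]).length := by simp [hlen]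
        have e1 : pre ++ x :: post = (pre ++ [x]) ++ post := by simp
        have e2 : Ps ++ D :: Ds = (Ps ++ [D]) ++ Ds := by simp
        have hex2 : ∃ q ∈ post.zip Ds, useful l q.1.1 = true ∧ q.2.natAbs ≤ B := by
          obtain ⟨q, hq, hq1, hq2⟩ := hex
          rw [List.zip_cons_cons, List.mem_cons] at hq
          rcases hq with rfl | hq
          · exact absurd hq1 hu
          · exact ⟨q, hq, hq1, hq2⟩
        rw [e1, e2] at hsol ⊢
        exact ih h hlen' hsol hex2

theorem search_sound : ∀ (n : ℕ) (s : St) (cs cs' : List ℕ), search n s cs = some cs' → Solved s := by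
  intro n
  induction n with
  | zero => intro s cs cs' h; simp [search] at h
  | succ n ih =>
    intro s cs cs' h Q Ds hQ hden hsol
    have hdenq : (0 : ℚ) < s.den := by exact_mod_cast hden
    simp only [search, St.force_eq] at h
    split_ifs at h with hemp hleaf
    · rw [List.isEmpty_iff] at hemp
      obtain ⟨hok, hL, hR⟩ := hsol
      rw [hemp] at hok
      cases hok
      have h1 := hL ⟨1, 0, 0⟩
      have h2 := hL ⟨0, 1, 0⟩
      have h3 := hL ⟨0, 0, 1⟩
      have q1 := hR ⟨1, 0, 0⟩
      have q2 := hR ⟨0, 1, 0⟩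
      have q3 := hR ⟨0, 0, 1⟩
      simp [hemp, V3.dot, lv, qv] at h1 h2 h3 q1 q2 q3
      rw [div_eq_iff hdenq.ne'] at q1 q2
      have hxy : s.R.x = s.R.y := by exact_mod_cast q1.trans q2.symm
      have hz : s.R.z = 0 := by
        rcases q3 with q3 | q3
        · exact q3
        · exact absurd q3 hden.ne'
      have hx : s.R.x < 0 := by
        have : (s.R.x : ℚ) < 0 := by rw [q1]; exact mul_neg_of_neg_of_pos hQ hdenq
        exact_mod_cast this
      have hV : s.L = ⟨0, 0, 0⟩ := by
        obtain ⟨⟨a, b, c⟩⟩ : Nonempty V3 := ⟨s.L⟩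
        cases hs : s.L
        simp_all
      simp [leaf, hV, hz, hxy ▸ hx, hxy] at hleaf
      refine ⟨?_, Or.inl hleaf.2⟩
      have : (s.R.x : ℚ) * 195 = -32 * s.den := by
        have h : s.R.x * 195 = -(32 * s.den) := by linarith [hleaf.1, hxy]
        have h' : ((s.R.x * 195 : ℤ) : ℚ) = ((-(32 * s.den) : ℤ) : ℚ) := by rw [h]
        push_cast at h'
        linarith
      rw [q1] at this
      rw [eq_div_iff (by norm_num)]
      exact mul_right_cancel₀ hdenq.ne' (by linarith)
    · cases cs with
      | nil => simp at h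
      | cons c cs₁ =>
        simp only at h
        split_ifs at h with hc
        · -- linear step
          generalize hl : lins.getD (c / 2) ⟨0, 0, 0⟩ = l at h
          simp only [linStep, forceInt_eq] at h
          split_ifs at h with hnone
          · exfalso
            simp only [Bool.and_eq_true, List.all_eq_true, decide_eq_true_eq] at hnone
            have e := hsol.2.1 l
            rw [lv_zero l hnone.1, add_zero] at e
            exact hnone.2 e
          · split at h
            · exact absurd h (by simp)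
            · rename_i x rest hsi
              obtain ⟨pre, post, hit, rfl, hne, hpre, hpost⟩ := single_some l hsi
              obtain ⟨hok, hL, hR⟩ := hsol
              rw [hit] at hok
              obtain ⟨Ps, Es, hps, hes, rfl⟩ : ∃ Ps Es, List.Forall₂ (fun (x : PI × ℕ) D => x.1.ok x.2 D = true) pre Ps ∧
                  List.Forall₂ (fun (x : PI × ℕ) D => x.1.ok x.2 D = true) (x :: post) Es ∧ Ds = Ps ++ Es :=
                ⟨Ds.take pre.length, Ds.drop pre.length, by simpa using List.forall₂_take (n := pre.length) hok,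
                  by simpa using List.forall₂_drop (n := pre.length) hok, (List.take_append_drop _ _).symm⟩
              cases hes with
              | @cons _ D _ Es hx hes =>
                have hlen := hps.length_eq
                have e := hL l
                rw [hit, lv_append l hlen, lv, lv_zero l hpre, lv_zero l hpost, zero_add, add_zero] at e
                have hv : -l.dot s.L = l.dot x.1.c * D := by linarith
                have hD : (-l.dot s.L) / l.dot x.1.c = D := by rw [hv, Int.mul_ediv_cancel_left _ hne]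
                have hmod : (-l.dot s.L) % l.dot x.1.c = 0 := by rw [hv]; exact Int.mul_emod_right _ _
                simp only [hmod, ne_eq, not_true_eq_false, if_false, hD, hx, if_true] at h
                have hsol' : Sol { s with it := pre ++ x :: post } Q (Ps ++ D :: Es) := by
                  rw [show ({ s with it := pre ++ x :: post } : St) = s by cases s; simp_all]
                  exact ⟨hit ▸ hok, hL, hR⟩
                obtain ⟨hden', hs', hback⟩ := assign_sol hden hlen hsol'
                have := hback (ih _ _ _ h Q _ hQ hden' hs')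
                rwa [show ({ s with it := pre ++ x :: post } : St) = s by cases s; simp_all] at this
        · -- harmonic step
          generalize hl : harms.getD (c / 2 % 8) ⟨0, 0, 0⟩ = l at h
          simp only [harmStep, forceInt_eq] at h
          split_ifs at h with hl0 hcap hsign
          · by_cases hex : ∃ q ∈ s.it.zip Ds, useful l q.1.1 = true ∧ q.2.natAbs ≤ c / 16
            · exact branch_sound (post := s.it) (pre := []) (Ps := []) ih hden hQ h rfl hsol hex
            exfalso
            push Not at hex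
            obtain ⟨hd, hge⟩ := qv_ge_cap l (c / 16) hsol.1 hex
            have e := hsol.2.2 l
            have hlQ : ((l.x + l.y : ℤ) : ℚ) * Q ≤ 0 :=
              mul_nonpos_of_nonneg_of_nonpos (by exact_mod_cast hl0) hQ.le
            have hlt : ((capSum l (c / 16) s.it).1 : ℚ) / (capSum l (c / 16) s.it).2 < (l.dot s.R : ℚ) / s.den := by
              rw [div_lt_div_iff₀ (by exact_mod_cast hd) hdenq]
              exact_mod_cast hcap
            linarith
          · exfalso
            simp only [Bool.and_eq_true, List.all_eq_true, decide_eq_true_eq, Bool.not_eq_true'] at hsign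
            have hq : ∀ {xs : List (PI × ℕ)} {Es : List ℤ},
                List.Forall₂ (fun (x : PI × ℕ) D => x.1.ok x.2 D = true) xs Es →
                (∀ y ∈ xs, useful l y.1 = false) → 0 ≤ qv l xs Es := by
              intro xs Es hf
              induction hf with
              | nil => intro _; simp [qv]
              | cons hx _ ih' =>
                intro hu
                rw [qv]
                exact add_nonneg (not_useful_le l hx (hu _ List.mem_cons_self))
                  (ih' fun y hy => hu y (List.mem_cons_of_mem _ hy))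
            have e := hsol.2.2 l
            have hlQ : ((l.x + l.y : ℤ) : ℚ) * Q < 0 := mul_neg_of_pos_of_neg (by exact_mod_cast hsign.1.1) hQ
            have h0 : 0 ≤ (l.dot s.R : ℚ) / s.den := div_nonneg (by exact_mod_cast hsign.1.2) hdenq.le
            linarith [hq hsol.1 hsign.2]

/-- **A checked case.** -/
theorem run_sound {items : List PI} {cs : List ℕ} (h : run items cs = true) {Q : ℚ} (hQ : Q < 0) {Ds : List ℤ}
    (hok : List.Forall₂ (fun (p : PI) D => p.ok 0 D = true) items Ds)
    (hL : ∀ l : V3, l.dot ⟨1, 0, 1⟩ + lv l ((items.map fun p => (p, p.a.natAbs))) Ds = 0)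
    (hR : ∀ l : V3, (l.dot ⟨1, 0, 1⟩ : ℚ) + qv l ((items.map fun p => (p, p.a.natAbs))) Ds = ((l.x + l.y : ℤ) : ℚ) * Q) :
    Q = -32 / 195 ∧ ∃ q ∈ items.zip Ds, q.2.natAbs = 12 ∧ q.1.val q.2 = -4 := by
  obtain ⟨cs', hcs⟩ := Option.isSome_iff_exists.1 (by simpa [run] using h)
  obtain ⟨h1, h2⟩ := search_sound _ _ _ _ hcs Q Ds hQ (by norm_num [initial])
    ⟨List.forall₂_map_left_iff.2 (hok.imp fun _ _ hp => PI.ok_natAbs hp), hL, fun l => by
      simpa [initial] using hR l⟩
  refine ⟨h1, ?_⟩
  rcases h2 with h2 | ⟨⟨⟨p, lb⟩, D⟩, hq, hq'⟩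
  · simp [initial] at h2
  · refine ⟨(p, D), ?_, hq'⟩
    rw [show (initial items).it = items.map (fun p => (p, p.a.natAbs)) from rfl, List.zip_map_left, List.mem_map] at hq
    obtain ⟨⟨p', D'⟩, hm, he⟩ := hq
    simp only [Prod.map_apply, id_eq, Prod.mk.injEq] at he
    obtain ⟨⟨rfl, -⟩, rfl⟩ := he
    exact hm

end CfsgLib.Invol.UThreeFour.Cert
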