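import Cfsg.Agent.Lib.Invol.UThreeFour.CharsLocal
import Cfsg.Agent.Lib.Invol.PrincipalBlock
import Cfsg.Agent.Lib.Block.KerNormal
import Cfsg.Agent.Lib.BlockA.PrincipalType

/-!
The principal 2-block of the centralizer of the involution, and the sums over its section of the
characters outside the principal block.
-/

set_option autoImplicit false
set_option linter.unusedSectionVars false
set_option maxHeartbeats 1000000

namespace CfsgLib.Invol.UThreeFour.Chars

open Cfsg
open scoped ComplexConjugate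

universe u

variable {G : Type u} [Group G] [Finite G] (D : Loc G)

/-- The fibre of the 2-part over the involution. -/
noncomputable abbrev fib [Fintype (H D)] : Finset ↥(H D) :=
  open Classical in Finset.univ.filter fun x => twoPart x = zH D

theorem mem_fib [Fintype (H D)] {x : H D} : x ∈ fib D ↔ twoPart x = zH D := by
  classical simp [fib]

theorem zH_two : ∃ k : ℕ, orderOf (zH D) = 2 ^ k :=
  ⟨1, by rw [← Subgroup.orderOf_coe]; exact D.hz.trans (pow_one 2).symm⟩

theorem twoPart_z_mul {y : H D} (hy : Odd (orderOf y)) : twoPart (zH D * y) = zH D :=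
  twoPart_mul (zH_central D y) (zH_two D) hy

theorem mul_K_mem_fib [Fintype (H D)] {x u : H D} (hx : x ∈ fib D) (hu : u ∈ K D) :
    x * u ∈ fib D := by
  rw [mem_fib] at hx ⊢
  have h : Odd (orderOf ((twoPart x)⁻¹ * x * u)) := by
    rw [← odd_q_iff, map_mul _ _ u, show q D u = 1 from (QuotientGroup.eq_one_iff u).2 hu, mul_one,
      odd_q_iff]
    exact odd_orderOf_twoPart_inv_mul x
  rw [hx] at h
  have := twoPart_z_mul D h
  rwa [← mul_assoc, ← mul_assoc, mul_inv_cancel, one_mul] at this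

/-! ### The principal block of the centralizer -/

variable {M : Ideal AlgInt} (hM : IsPModular 2 M)

include hM in
theorem mem_principal_iff [Fintype ↥(K D)] (ξ : IrrCharacter ↥(H D)) :
    ξ ∈ principalBlock M ↥(H D) ↔
      classInner (fun k : ↥(K D) => (ξ : ↥(H D) → ℂ) k)
        ((CfsgLib.Block.trivIrr : IrrCharacter ↥(K D)) : ↥(K D) → ℂ) ≠ 0 := by
  classical
  have := Fintype.ofFinite ↥(H D)
  have := CfsgLib.Block.isPrime_of_pmodular hM
  have := K_normal D
  obtain ⟨B, hB, hiff, -⟩ := CfsgLib.BlockA.principalType (K := K D) hM (quot_constrained D)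
    (CfsgLib.Solvable.pPrimeCore_coprime 2) CfsgLib.Block.trivIrr
    (fun g => Subtype.ext (funext fun n => by
      rw [CfsgLib.Block.conjIrr_apply]; rfl))
  have h1 : (CfsgLib.Block.trivIrr : IrrCharacter ↥(H D)) ∈ B := by
    rw [hiff]
    rw [show (fun k : ↥(K D) => ((CfsgLib.Block.trivIrr : IrrCharacter ↥(H D)) : ↥(H D) → ℂ) k) =
      ((CfsgLib.Block.trivIrr : IrrCharacter ↥(K D)) : ↥(K D) → ℂ) from rfl,
      CfsgLib.Char.irr_classInner_self (CfsgLib.Block.trivIrr : IrrCharacter ↥(K D)).2]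
    exact one_ne_zero
  rw [← CfsgLib.Block.isPBlock_eq_of_mem hB CfsgLib.Block.isPBlock_principalBlock h1
    CfsgLib.Block.one_mem_principalBlock, hiff]

include hM in
open Classical in
theorem blockSum_eq [Fintype ↥(H D)] [Fintype ↥(K D)] :
    CfsgLib.Block.blockSum (principalBlock M ↥(H D)) =
      CfsgLib.Block.mkGA (fun h : ↥(H D) => if h ∈ K D then (Nat.card ↥(K D) : ℂ)⁻¹ else 0) := by
  have := CfsgLib.Block.isPrime_of_pmodular hM
  have hKn := K_normal D
  have hKp : ¬ 2 ∣ Nat.card ↥(K D) := fun h => Nat.not_even_iff_odd.2 (odd_card_K D) (even_iff_two_dvd.2 h)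
  refine CfsgLib.Block.eq_of_omegaC_eq (CfsgLib.Block.blockSum_isClassCoeff _) (fun g h => ?_)
    fun ξ => ?_
  · simp only [CfsgLib.Block.coeff_mkGA]
    exact if_congr ⟨fun hx => by simpa [mul_assoc] using hKn.conj_mem _ hx h⁻¹,
      fun hx => hKn.conj_mem _ hx h⟩ rfl rfl
  have hval : CfsgLib.Block.omegaC (ξ : ↥(H D) → ℂ)
      (CfsgLib.Block.mkGA (fun h : ↥(H D) => if h ∈ K D then (Nat.card ↥(K D) : ℂ)⁻¹ else 0)) =
      classInner (fun k : ↥(K D) => (ξ : ↥(H D) → ℂ) k) ((CfsgLib.Block.trivIrr : IrrCharacter ↥(K D)) : ↥(K D) → ℂ) /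
        (ξ : ↥(H D) → ℂ) 1 := by
    rw [CfsgLib.Block.omegaC_eq, CfsgLib.Char.classInner_def]
    congr 1
    rw [Finset.mul_sum]
    simp only [CfsgLib.Block.coeff_mkGA, ite_mul, zero_mul, CfsgLib.Block.trivIrr, map_one, mul_one]
    rw [← Finset.sum_filter]
    refine (Finset.sum_bij (fun (k : ↥(K D)) _ => (k : ↥(H D))) (fun k _ => by simp)
      (fun x _ y _ h => Subtype.ext h)
      (fun x hx => ⟨⟨x, (Finset.mem_filter.1 hx).2⟩, Finset.mem_univ _, rfl⟩)
      (fun k _ => rfl)).symm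
  rw [CfsgLib.Block.omegaC_blockSum, hval]
  by_cases hξ : ξ ∈ principalBlock M ↥(H D)
  · rw [if_pos hξ]
    have hle := CfsgLib.Block.le_kerIrr_of_mem_principalBlock (N := K D) hM hKp hξ
    rw [show (fun k : ↥(K D) => (ξ : ↥(H D) → ℂ) k) = (ξ : ↥(H D) → ℂ) 1 •
        ((CfsgLib.Block.trivIrr : IrrCharacter ↥(K D)) : ↥(K D) → ℂ) from funext fun k => by
        simpa [CfsgLib.Block.trivIrr] using CfsgLib.Block.mem_kerIrr.1 (hle k.2),
      CfsgLib.Char.classInner_smul_left,
      CfsgLib.Char.irr_classInner_self (CfsgLib.Block.trivIrr : IrrCharacter ↥(K D)).2, mul_one,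
      div_self (CfsgLib.Char.irr_apply_one_ne_zero ξ.2)]
  · rw [if_neg hξ, not_not.1 fun h => hξ ((mem_principal_iff D hM ξ).2 h), zero_div]

include hM in
open Classical in
theorem sum_K_eq_zero [Fintype G] [Fintype ↥(H D)] [Fintype ↥(K D)] {χ : IrrCharacter G}
    (hχ : χ ∉ principalBlock M G) {g : ↥(H D)} (hg : g ∈ fib D) :
    ∑ v : ↥(K D), (χ : G → ℂ) (((v : ↥(H D)) * g : ↥(H D)) : G) = 0 := by
  have := CfsgLib.Block.isPrime_of_pmodular hM
  have := Fact.mk Nat.prime_two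
  have hp : IsPGroup 2 (Subgroup.zpowers D.z) :=
    IsPGroup.of_card (n := 1) (by rw [Nat.card_zpowers, D.hz]; rfl)
  have hzH : D.z ∈ H D := (zH D).2
  have hCH : Subgroup.centralizer (Subgroup.zpowers D.z : Set G) ≤ H D :=
    Subgroup.centralizer_le (Set.singleton_subset_iff.2 (Subgroup.mem_zpowers D.z))
  have hHN : H D ≤ Subgroup.normalizer (Subgroup.zpowers D.z : Set G) := by
    have : H D = Subgroup.centralizer (Subgroup.zpowers D.z : Set G) := by
      rw [Subgroup.zpowers_eq_closure, Subgroup.centralizer_closure]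
    rw [this]
    exact Subgroup.centralizer_le_normalizer _
  obtain ⟨B, hind⟩ := CfsgLib.Block.exists_isInducedBlock_of_normalizer hM hp
    (Subgroup.zpowers_le.2 hzH) hCH hHN (CfsgLib.Block.isPBlock_principalBlock (M := M) (G := ↥(H D)))
  have hBp : B = principalBlock M G :=
    CfsgLib.Block.isInducedBlock_unique (H D) hind
      ((Cfsg.Agent.S0936.result 2 M hM (H D) _ ⟨B, hind⟩).2 rfl)
  have hgp : IsPPart 2 (g : G) D.z := by
    have e : twoPart (g : G) = D.z := by rw [twoPart_coe, (mem_fib D).1 hg]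
    have h := twoPart_spec (g : G)
    rwa [e] at h
  have h0 := CfsgLib.Block.chiExt_inclSub_blockSum_eq_zero hM hind g.2 hgp le_rfl (χ := χ) (hBp ▸ hχ)
  rw [blockSum_eq D hM, CfsgLib.Block.chiExt_eq, ← Finset.sum_filter_of_ne (p := fun x => x ∈ H D)
    (fun x _ hne => by
      by_contra hx
      exact hne (by rw [CfsgLib.Block.coeff_inclSub_of_not_mem (H D) _ hx, zero_mul]))] at h0
  have h1 : ∑ x ∈ Finset.univ.filter (fun x => x ∈ H D),
      (CfsgLib.Block.inclSub (H D) (CfsgLib.Block.mkGA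
        (fun h : ↥(H D) => if h ∈ K D then (Nat.card ↥(K D) : ℂ)⁻¹ else 0))).coeff x * (χ : G → ℂ) (x * g) =
      (Nat.card ↥(K D) : ℂ)⁻¹ * ∑ v : ↥(K D), (χ : G → ℂ) (((v : ↥(H D)) * g : ↥(H D)) : G) := by
    rw [Finset.mul_sum]
    rw [← Finset.sum_bij (s := (Finset.univ : Finset ↥(H D))) (fun (h : ↥(H D)) _ => (h : G))
      (f := fun h : ↥(H D) => (if h ∈ K D then (Nat.card ↥(K D) : ℂ)⁻¹ else 0) * (χ : G → ℂ) (h * g))
      (fun h _ => by simp) (fun x _ y _ h => Subtype.ext h)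
      (fun x hx => ⟨⟨x, (Finset.mem_filter.1 hx).2⟩, Finset.mem_univ _, rfl⟩)
      (fun h _ => by rw [CfsgLib.Block.coeff_inclSub_of_mem, CfsgLib.Block.coeff_mkGA])]
    simp only [ite_mul, zero_mul]
    rw [← Finset.sum_filter]
    exact (Finset.sum_bij (fun (k : ↥(K D)) _ => (k : ↥(H D))) (fun k _ => by simp)
      (fun x _ y _ h => Subtype.ext h)
      (fun x hx => ⟨⟨x, (Finset.mem_filter.1 hx).2⟩, Finset.mem_univ _, rfl⟩)
      (fun k _ => rfl)).symm
  rw [h1] at h0
  exact (mul_eq_zero.1 h0).resolve_left (inv_ne_zero (Nat.cast_ne_zero.2 Nat.card_pos.ne'))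

include hM in
open Classical in
theorem sum_fib_eq_zero [Fintype G] [Fintype ↥(H D)] [Fintype ↥(K D)] {χ : IrrCharacter G}
    (hχ : χ ∉ principalBlock M G) (f : ↥(H D) → ℂ)
    (hf : ∀ x v, v ∈ K D → f (x * v) = f x) :
    ∑ x ∈ fib D, f x * (χ : G → ℂ) x = 0 := by
  have hKn := K_normal D
  have hl : ∀ v ∈ K D, ∀ x, f (v * x) = f x := fun v hv x => by
    rw [show v * x = x * (x⁻¹ * v * x) by group]
    exact hf x _ (by simpa using hKn.conj_mem v hv x⁻¹)
  have hfl : ∀ v ∈ K D, ∀ x ∈ fib D, v * x ∈ fib D := fun v hv x hx => by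
    rw [show v * x = x * (x⁻¹ * v * x) by group]
    exact mul_K_mem_fib D hx (by simpa using hKn.conj_mem v hv x⁻¹)
  have e : ∀ v : ↥(K D), ∑ x ∈ fib D, f x * (χ : G → ℂ) (((v : ↥(H D)) * x : ↥(H D)) : G) =
      ∑ x ∈ fib D, f x * (χ : G → ℂ) x := fun v => by
    refine Finset.sum_nbij' (fun x => (v : ↥(H D)) * x) (fun x => (v : ↥(H D))⁻¹ * x) (fun x hx => hfl v v.2 x hx)
      (fun x hx => hfl _ (inv_mem v.2) x hx) (fun x _ => inv_mul_cancel_left _ x)
      (fun x _ => mul_inv_cancel_left _ x) fun x _ => by rw [hl v v.2]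
  have h : (Nat.card ↥(K D) : ℂ) * ∑ x ∈ fib D, f x * (χ : G → ℂ) x = 0 := by
    rw [Nat.card_eq_fintype_card, ← nsmul_eq_mul, ← Finset.card_univ, ← Finset.sum_const,
      ← Finset.sum_congr rfl (fun v _ => e v), Finset.sum_comm]
    refine Finset.sum_eq_zero fun x hx => ?_
    rw [← Finset.mul_sum, sum_K_eq_zero D hM hχ hx, mul_zero]
  exact (mul_eq_zero.1 h).resolve_left (Nat.cast_ne_zero.2 Nat.card_pos.ne')

end CfsgLib.Invol.UThreeFour.Chars
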