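import Cfsg.Agent.Lib.BlockB.SqrtCount

/-!
An irreducible character with indicator `-1` has even degree: it carries a nonzero invariant
alternating form.
-/

set_option autoImplicit false

namespace CfsgLib.Invol.UThreeFour.Chars

open Cfsg Module
open scoped ComplexConjugate Matrix

universe u

variable {G : Type u} [Group G] [Fintype G]

/-- Indicator `-1` forces an even degree. -/
theorem even_degree_of_fsInd_neg (χ : IrrCharacter G) (h : CfsgLib.BlockB.fsInd χ = -1) {d : ℕ}
    (hd : (χ : G → ℂ) 1 = d) : Even d := by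
  classical
  have hreal : ∀ s : G, ((χ : G → ℂ) s).im = 0 := by
    rcases CfsgLib.BlockB.fsInd_cases χ with ⟨h0, -⟩ | ⟨-, hr⟩
    · rw [h] at h0; norm_num at h0
    · exact hr
  have hnorm := CfsgLib.Char.irr_classInner_self χ.2
  obtain ⟨χ, n, ρ, hρ, rfl⟩ := χ
  simp only at hd hreal hnorm
  rw [Representation.char_one, Nat.cast_inj, Module.finrank_fintype_fun_eq_card,
    Fintype.card_fin] at hd
  subst hd
  let A : G → Matrix (Fin n) (Fin n) ℂ := fun g => LinearMap.toMatrix' (ρ g)
  have hA1 : ∀ g, ρ.character g = ∑ i, A g i i := fun g => by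
    rw [Representation.character, LinearMap.trace_eq_matrix_trace ℂ (Pi.basisFun ℂ (Fin n)),
      LinearMap.toMatrix_eq_toMatrix']
    rfl
  have hmul : ∀ a b, A (a * b) = A a * A b := fun a b => by
    simp [A, map_mul, LinearMap.toMatrix'_mul]
  let E : Fin n → Fin n → Matrix (Fin n) (Fin n) ℂ := fun i j =>
    Matrix.single i j (1 : ℂ) - Matrix.single j i (1 : ℂ)
  let N : Fin n → Fin n → Matrix (Fin n) (Fin n) ℂ := fun i j => ∑ g, A g * E i j * (A g)ᵀ
  have hentry : ∀ i j, N i j i j = ∑ g, (A g i i * A g j j - A g i j * A g j i) := fun i j => by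
    simp only [N, Matrix.sum_apply]
    refine Finset.sum_congr rfl fun g _ => ?_
    simp [E, Matrix.mul_sub, Matrix.mul_apply, Matrix.single_apply, ite_and, sub_mul,
      Finset.sum_sub_distrib, ite_mul, zero_mul]
  have htot : ∑ i, ∑ j, N i j i j = 2 * (Nat.card G : ℂ) := by
    simp only [hentry]
    rw [Finset.sum_congr rfl (fun i _ => Finset.sum_comm), Finset.sum_comm]
    have e : ∀ g, ∑ i, ∑ j, (A g i i * A g j j - A g i j * A g j i) =
        ρ.character g * ρ.character g - ρ.character (g * g) := fun g => by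
      simp only [Finset.sum_sub_distrib, hA1, hmul, Matrix.mul_apply, Finset.sum_mul_sum]
    rw [Finset.sum_congr rfl (fun g _ => e g), Finset.sum_sub_distrib]
    have hne : (Nat.card G : ℂ) ≠ 0 := CfsgLib.Char.natCard_ne_zero
    have h2 : ∑ g, ρ.character (g * g) = -(Nat.card G : ℂ) := by
      have h' := h
      rw [CfsgLib.BlockB.fsInd] at h'
      field_simp at h'
      linear_combination h'
    have h1 : ∑ g, ρ.character g * ρ.character g = (Nat.card G : ℂ) := by
      rw [CfsgLib.Char.classInner_def] at hnorm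
      field_simp at hnorm
      rw [← hnorm]
      exact Finset.sum_congr rfl fun g _ => by rw [Complex.conj_eq_iff_im.2 (hreal g)]
    rw [h1, h2]
    ring
  obtain ⟨i, j, hij⟩ : ∃ i j, N i j i j ≠ 0 := by
    by_contra hno
    push Not at hno
    simp only [hno, Finset.sum_const_zero] at htot
    exact mul_ne_zero two_ne_zero CfsgLib.Char.natCard_ne_zero htot.symm
  set M := N i j with hMdef
  have halt : Mᵀ = -M := by
    simp only [M, N, Matrix.transpose_sum, Matrix.transpose_mul, Matrix.transpose_transpose,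
      ← Finset.sum_neg_distrib]
    refine Finset.sum_congr rfl fun g _ => ?_
    simp [E, Matrix.transpose_sub, Matrix.transpose_single, ← Matrix.mul_assoc, Matrix.mul_sub,
      Matrix.sub_mul]
  have hfix : ∀ g, A g * M * (A g)ᵀ = M := fun g => by
    simp only [M, N, Matrix.mul_sum, Matrix.sum_mul]
    refine Fintype.sum_equiv (Equiv.mulLeft g) _ _ fun x => ?_
    simp [hmul, Matrix.transpose_mul, Matrix.mul_assoc]
  have hsemi : ∀ g v, ρ g (M.mulVec v) = M.mulVec (((A g⁻¹)ᵀ).mulVec v) := fun g v => by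
    rw [← LinearMap.toMatrix'_mulVec (ρ g), Matrix.mulVec_mulVec, Matrix.mulVec_mulVec]
    congr 1
    have h1 : (A g)ᵀ * (A g⁻¹)ᵀ = 1 := by
      rw [← Matrix.transpose_mul, ← hmul, inv_mul_cancel]
      simp [A, Module.End.one_eq_id]
    calc A g * M = A g * M * ((A g)ᵀ * (A g⁻¹)ᵀ) := by rw [h1, Matrix.mul_one]
      _ = A g * M * (A g)ᵀ * (A g⁻¹)ᵀ := by simp only [Matrix.mul_assoc]
      _ = M * (A g⁻¹)ᵀ := by rw [hfix]
  let σ : Subrepresentation ρ :=
    ⟨LinearMap.range M.mulVecLin, fun g v hv => by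
      obtain ⟨w, rfl⟩ := hv
      exact ⟨_, (hsemi g w).symm⟩⟩
  have hM0 : M ≠ 0 := fun h0 => hij (by
    show M i j = 0
    rw [h0]; rfl)
  have htop : LinearMap.range M.mulVecLin = ⊤ := by
    have hs : IsSimpleOrder (Subrepresentation ρ) := hρ
    rcases hs.eq_bot_or_eq_top σ with h0 | h0
    · exact absurd (Matrix.ext_iff_mulVec.2 fun v => by
        have hv : M.mulVecLin v ∈ σ.toSubmodule := LinearMap.mem_range_self _ v
        rw [h0] at hv
        rw [Matrix.zero_mulVec]
        exact (Submodule.mem_bot ℂ).1 hv) hM0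
    · exact congrArg Subrepresentation.toSubmodule h0
  have hdet : M.det ≠ 0 := by
    have hu : IsUnit M := by
      rw [← Matrix.mulVec_surjective_iff_isUnit]
      exact LinearMap.range_eq_top.1 htop
    exact ((Matrix.isUnit_iff_isUnit_det M).1 hu).ne_zero
  by_contra hodd
  refine hdet ?_
  have hd2 : M.det = (-1 : ℂ) ^ n * M.det := by
    conv_lhs => rw [← Matrix.det_transpose, halt, Matrix.det_neg, Fintype.card_fin]
  rw [(Nat.not_even_iff_odd.1 hodd).neg_one_pow] at hd2
  linear_combination hd2 / 2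

end CfsgLib.Invol.UThreeFour.Chars
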