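import Cfsg.Agent.Lib.Invol.UThreeFour.CharsLocal
import Cfsg.Agent.Lib.BlockB.ClassMul
import Cfsg.Agent.Lib.Char.Brauer
import Cfsg.Agent.Lib.Invol.Q8Char

/-!
The six generalized characters on the sections of the involutions and of the elements of order
four.
-/

set_option autoImplicit false
set_option linter.unusedSectionVars false
set_option maxHeartbeats 1000000

namespace CfsgLib.Invol.UThreeFour.Chars

open Cfsg
open scoped ComplexConjugate

universe u

/-! ### Characters of the cyclic group of order five -/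

/-- The characters of the cyclic group of order five. -/
noncomputable def chr (k : ZMod 5) (c : Multiplicative (ZMod 5)) : ℂ :=
  ZMod.stdAddChar (k * Multiplicative.toAdd c)

theorem chr_arg_mul (k : ZMod 5) (c d : Multiplicative (ZMod 5)) :
    chr k (c * d) = chr k c * chr k d := by
  rw [chr, toAdd_mul, mul_add, AddChar.map_add_eq_mul]; rfl

theorem chr_one (k : ZMod 5) : chr k 1 = 1 := by
  rw [chr, toAdd_one, mul_zero, AddChar.map_zero_eq_one]

theorem chr_zero (c : Multiplicative (ZMod 5)) : chr 0 c = 1 := by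
  rw [chr, zero_mul, AddChar.map_zero_eq_one]

theorem chr_mul (k l : ZMod 5) (c : Multiplicative (ZMod 5)) :
    chr k c * chr l c = chr (k + l) c := by
  rw [chr, chr, chr, add_mul, AddChar.map_add_eq_mul]

theorem conj_chr (k : ZMod 5) (c : Multiplicative (ZMod 5)) : conj (chr k c) = chr (-k) c := by
  rw [chr, chr, neg_mul, AddChar.map_neg_eq_conj]

theorem sum_chr (c : Multiplicative (ZMod 5)) :
    ∑ k : ZMod 5, chr k c = if c = 1 then 5 else 0 := by
  simp only [chr, AddChar.sum_mulShift _ (ZMod.isPrimitive_stdAddChar 5), ZMod.card, toAdd_eq_zero,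
    Nat.cast_ofNat, Nat.cast_ite, Nat.cast_zero]

theorem sum_chr_arg (k : ZMod 5) :
    ∑ c : Multiplicative (ZMod 5), chr k c = if k = 0 then 5 else 0 := by
  rw [← Equiv.sum_comp Multiplicative.ofAdd]
  simp only [chr, toAdd_ofAdd, mul_comm k, AddChar.sum_mulShift _ (ZMod.isPrimitive_stdAddChar 5),
    ZMod.card, Nat.cast_ofNat, Nat.cast_ite, Nat.cast_zero]

theorem isGeneralized_chr {E : Type u} [Group E] [Finite E] (k : ZMod 5)
    (φ : E →* Multiplicative (ZMod 5)) : IsGeneralizedCharacter E (fun x => chr k (φ x)) := by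
  let ψ : Multiplicative (ZMod 5) →* ℂ :=
    { toFun := chr k, map_one' := chr_one k, map_mul' := chr_arg_mul k }
  exact CfsgLib.Char.isGeneralized_of_isCharacter
    (CfsgLib.Char.irr_isCharacter (CfsgLib.Char.isIrrCharacter_linear (ψ.comp φ).toHomUnits))

variable {G : Type u} [Group G] [Finite G] (D : Loc G)

/-! ### Functions on the sections -/

theorem mem_H_of_twoPart {a g : G} (ha : a * twoPart g * a⁻¹ = D.z) : a * g * a⁻¹ ∈ H D := by
  rw [Subgroup.mem_centralizer_singleton_iff]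
  have h := (twoPart_commute_self g).map (MulAut.conj a).toMonoidHom
  simp only [MulEquiv.coe_toMonoidHom, MulAut.conj_apply, ha] at h
  exact h.symm.eq

open scoped Classical in
/-- `f ∘ psi` on the section of the involutions, `e` on the sections of the elements of order
four. -/
noncomputable def Sec (f : Multiplicative (ZMod 5) → ℂ) (e : ℂ) (g : G) : ℂ :=
  if h : ∃ a : G, a * twoPart g * a⁻¹ = D.z then
    f (D.psi ⟨h.choose * g * h.choose⁻¹, mem_H_of_twoPart D h.choose_spec⟩)
  else if twoPart g * twoPart g = 1 then 0 else e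

variable (f : Multiplicative (ZMod 5) → ℂ) (e : ℂ)

theorem Sec_eq {a g : G} (ha : a * twoPart g * a⁻¹ = D.z) :
    Sec D f e g = f (D.psi ⟨a * g * a⁻¹, mem_H_of_twoPart D ha⟩) := by
  classical
  have h : ∃ a : G, a * twoPart g * a⁻¹ = D.z := ⟨a, ha⟩
  unfold Sec
  rw [dif_pos h]
  set b := h.choose
  have hb : b * twoPart g * b⁻¹ = D.z := h.choose_spec
  have hc : a * b⁻¹ ∈ H D := by
    rw [Subgroup.mem_centralizer_singleton_iff]
    refine mul_inv_eq_iff_eq_mul.1 ?_
    conv_lhs => rw [← hb]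
    rw [← ha]; group
  congr 1
  rw [show (⟨a * g * a⁻¹, mem_H_of_twoPart D ha⟩ : H D) =
    (⟨a * b⁻¹, hc⟩ : H D) * ⟨b * g * b⁻¹, mem_H_of_twoPart D hb⟩ * (⟨a * b⁻¹, hc⟩ : H D)⁻¹ from
      Subtype.ext (by push_cast; group), map_mul, map_mul, map_inv, mul_right_comm, mul_inv_cancel,
    one_mul]

theorem not_conj_z_of_sq {g : G} (h : twoPart g * twoPart g ≠ 1) :
    ¬ ∃ a : G, a * twoPart g * a⁻¹ = D.z := fun ⟨a, ha⟩ => h (by
  have := invol_mul_self D.hz
  rwa [← ha, show a * twoPart g * a⁻¹ * (a * twoPart g * a⁻¹) =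
    a * (twoPart g * twoPart g) * a⁻¹ by group, conj_eq_one_iff] at this)

theorem exists_conj_z {s : G} (hs : s * s = 1) (h1 : s ≠ 1) :
    ∃ a : G, a * s * a⁻¹ = D.z := by
  obtain ⟨a, ha⟩ := isConj_iff.1 (D.conj_invol s (orderOf_eq_prime (by rw [pow_two, hs]) h1))
  exact ⟨a⁻¹, by rw [← ha]; group⟩

theorem not_conj_z_of_one {g : G} (h : twoPart g = 1) :
    ¬ ∃ a : G, a * twoPart g * a⁻¹ = D.z := fun ⟨a, ha⟩ =>
  invol_ne_one D.hz (by rw [← ha, h]; group)

theorem Sec_of_four {g : G} (h : twoPart g * twoPart g ≠ 1) : Sec D f e g = e := by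
  rw [Sec, dif_neg (not_conj_z_of_sq D h), if_neg h]

theorem Sec_of_twoPart_one {g : G} (h : twoPart g = 1) : Sec D f e g = 0 := by
  rw [Sec, dif_neg (not_conj_z_of_one D h), if_pos (by rw [h, mul_one])]

theorem Sec_one : Sec D f e 1 = 0 := Sec_of_twoPart_one D f e (twoPart_of_odd (by simp))

theorem Sec_class : IsClassFunction G (Sec D f e) := by
  intro g h
  by_cases h1 : twoPart g = 1
  · rw [Sec_of_twoPart_one D f e h1, Sec_of_twoPart_one D f e]
    rw [twoPart_conj, h1]; group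
  by_cases h2 : twoPart g * twoPart g = 1
  · obtain ⟨a, ha⟩ := exists_conj_z D h2 h1
    have ha' : a * h⁻¹ * twoPart (h * g * h⁻¹) * (a * h⁻¹)⁻¹ = D.z := by
      rw [twoPart_conj, ← ha]; group
    rw [Sec_eq D f e ha, Sec_eq D f e ha']
    congr 3
    group
  · rw [Sec_of_four D f e h2, Sec_of_four D f e]
    rw [twoPart_conj, show h * twoPart g * h⁻¹ * (h * twoPart g * h⁻¹) =
      h * (twoPart g * twoPart g) * h⁻¹ by group]
    exact fun hh => h2 (conj_eq_one_iff.1 hh)

open scoped Classical in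
/-- The values on the 2-elements. -/
noncomputable def wfn (f1 e : ℂ) (g : G) : ℂ := if g = 1 then 0 else if g * g = 1 then f1 else e

theorem wfn_class (f1 : ℂ) : IsClassFunction G (wfn (G := G) f1 e) := by
  intro g h
  have e1 : h * g * h⁻¹ = 1 ↔ g = 1 := conj_eq_one_iff
  have e2 : h * g * h⁻¹ * (h * g * h⁻¹) = 1 ↔ g * g = 1 := by
    rw [show h * g * h⁻¹ * (h * g * h⁻¹) = h * (g * g) * h⁻¹ by group]; exact conj_eq_one_iff
  unfold wfn
  split_ifs <;> first | rfl | tauto

theorem exists_conj_pgroup {P : Subgroup G} (hP : IsPGroup 2 P) :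
    ∃ a : G, ∀ x ∈ P, a * x * a⁻¹ ∈ (D.S : Subgroup G) := by
  obtain ⟨R, hR⟩ := hP.exists_le_sylow
  obtain ⟨a, ha⟩ := MulAction.exists_smul_eq G R D.S
  refine ⟨a, fun x hx => ?_⟩
  rw [← ha, Sylow.coe_subgroup_smul]
  exact Subgroup.smul_mem_pointwise_smul _ (MulAut.conj a) _ (hR hx)

theorem wfn_gen (f1 : ℂ)
    (hS : IsGeneralizedCharacter (D.S : Subgroup G) (fun x : (D.S : Subgroup G) => wfn f1 e (x : G))) :
    IsGeneralizedCharacter G (fun g => wfn f1 e (twoPart g)) := by
  refine isGeneralized_sectFn (wfn_class e f1) fun P hP => ?_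
  obtain ⟨a, ha⟩ := exists_conj_pgroup D hP
  let φ : P →* (D.S : Subgroup G) :=
    { toFun := fun x => ⟨a * (x : G) * a⁻¹, ha x x.2⟩
      map_one' := Subtype.ext (by simp)
      map_mul' := fun x y => Subtype.ext (by simp [mul_assoc]) }
  have := isGeneralized_comp hS φ
  convert this using 1
  funext x
  exact (wfn_class e f1 (x : G) a).symm

theorem delta_gen {P : Type u} [Group P] [Finite P] (hP : Nat.card P ∣ 4) :
    IsGeneralizedCharacter P (fun x : P => open Classical in if x = 1 then (0 : ℂ) else 4) := by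
  classical
  have := Fintype.ofFinite P
  obtain ⟨q, hq⟩ := hP
  have he : (fun x : P => if x = 1 then (0 : ℂ) else 4) =
      (fun x : P => (4 : ℂ) - if x = 1 then 4 else 0) := funext fun x => by
    by_cases h : x = 1 <;> simp [h]
  rw [he]
  refine CfsgLib.Char.isGeneralized_sub ?_ (CfsgLib.Char.isGeneralized_of_int ?_ fun χ hχ => ?_)
  · have := CfsgLib.Char.isGeneralized_zsmul
      (CfsgLib.Char.isGeneralized_of_isCharacter (CfsgLib.Char.isCharacter_one (G := P))) 4
    convert this using 1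
    funext x; simp
  · intro g h
    simp [conj_eq_one_iff]
  · obtain ⟨d, hd⟩ := CfsgLib.Char.char_apply_one_eq_nat (CfsgLib.Char.irr_isCharacter hχ)
    refine ⟨(q : ℤ) * d, ?_⟩
    rw [CfsgLib.Char.classInner_def, Finset.sum_eq_single (1 : P) (fun b _ hb => by simp [hb]) (by simp),
      if_pos rfl, hd, Complex.conj_natCast,
      show (4 : ℂ) = (Nat.card P : ℂ) * (q : ℂ) by exact_mod_cast hq]
    have h0 : (Nat.card P : ℂ) ≠ 0 := CfsgLib.Char.natCard_ne_zero
    push_cast
    field_simp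

theorem normalizer_Z {k : G} (hk : k ∈ Subgroup.normalizer ((D.S : Subgroup G) : Set G)) {u : G}
    (hu : u ∈ D.Z) : k * u * k⁻¹ ∈ D.Z := by
  refine (mem_Z_iff D ((Subgroup.mem_normalizer_iff.1 hk u).1 (D.shape.le hu))).1 ?_
  rw [show k * u * k⁻¹ * (k * u * k⁻¹) = k * (u * u) * k⁻¹ by group,
    (mem_Z_iff D (D.shape.le hu)).2 hu]
  group

theorem psi_twoPart_G {v : H D} {s : G} (hs : twoPart (v : G) = s) :
    ∃ hm : s⁻¹ * (v : G) ∈ H D, D.psi v = D.psi ⟨s⁻¹ * v, hm⟩ := by
  subst hs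
  rw [twoPart_coe]
  exact ⟨((twoPart v)⁻¹ * v).2, psi_twoPart D v⟩

theorem Sec_gen
    (hS : IsGeneralizedCharacter (D.S : Subgroup G)
      (fun x : (D.S : Subgroup G) => wfn (f 1) e (x : G)))
    (hf : ∀ (E : Type u) [Group E] [Finite E] (φ : E →* Multiplicative (ZMod 5)),
      IsGeneralizedCharacter E (fun x => f (φ x) / 4)) :
    IsGeneralizedCharacter G (Sec D f e) := by
  classical
  have := Fintype.ofFinite G
  refine CfsgLib.Char.brauer_characterization (Sec_class D f e) fun E p hp hE => ?_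
  have := Fintype.ofFinite E
  have hnil := isNilpotent_of_isElementary hp hE
  obtain ⟨R, hR⟩ := CfsgLib.BlockA.exists_regular_subgroup (p := 2) hp hE
  have hmul := twoPart_mul_of_nilpotent hnil hR
  let π : E →* G :=
    { toFun := fun e => ((twoPart e : E) : G)
      map_one' := by simp [twoPart_of_odd]
      map_mul' := fun a b => by simp [hmul] }
  have hrange : IsPGroup 2 π.range := by
    rintro ⟨_, x, rfl⟩
    obtain ⟨k, hk⟩ := exists_orderOf_twoPart x
    refine ⟨k, Subtype.ext ?_⟩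
    show ((twoPart x : E) : G) ^ 2 ^ k = 1
    rw [← SubmonoidClass.coe_pow, ← hk, pow_orderOf_eq_one, OneMemClass.coe_one]
  obtain ⟨a, ha⟩ := exists_conj_pgroup D hrange
  have haS : ∀ x : E, a * twoPart (x : G) * a⁻¹ ∈ (D.S : Subgroup G) := fun x => by
    rw [twoPart_coe]; exact ha _ ⟨x, rfl⟩
  have hodd : ∀ x y : E, Commute (twoPart (y : G)) ((twoPart (x : G))⁻¹ * x) := fun x y => by
    rw [twoPart_coe, twoPart_coe]
    obtain ⟨k, hk⟩ := exists_orderOf_twoPart y
    have h := CfsgLib.OddLocal.commute_of_coprime_of_isNilpotent hnil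
      (x := twoPart y) (y := (twoPart x)⁻¹ * x) (by
      rw [hk]
      exact Nat.Coprime.pow_left k (Nat.coprime_two_left.2 (odd_orderOf_twoPart_inv_mul x)))
    exact h.map E.subtype
  by_cases hex : ∃ y : E, twoPart (y : G) * twoPart (y : G) ≠ 1
  · obtain ⟨y, hy⟩ := hex
    have hval : (fun x : E => Sec D f e x) = fun x : E => wfn (f 1) e (twoPart (x : G)) := by
      funext x
      by_cases h1 : twoPart (x : G) = 1
      · rw [Sec_of_twoPart_one D f e h1, wfn, if_pos h1]
      by_cases h2 : twoPart (x : G) * twoPart (x : G) = 1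
      swap
      · rw [Sec_of_four D f e h2, wfn, if_neg h1, if_neg h2]
      rw [wfn, if_neg h1, if_pos h2]
      obtain ⟨b, hb⟩ := exists_conj_z D h2 h1
      rw [Sec_eq D f e hb]
      congr 1
      -- the element of order four commutes with the involution
      set t := twoPart (x : G)
      set s := twoPart (y : G)
      have htZ : a * t * a⁻¹ ∈ D.Z := (mem_Z_iff D (haS x)).1 (by
        rw [show a * t * a⁻¹ * (a * t * a⁻¹) = a * (t * t) * a⁻¹ by group, h2]; group)
      have hst : Commute s t := by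
        have h := ((show Commute (a * t * a⁻¹) (a * s * a⁻¹) from
          D.shape.cen _ htZ _ (haS y)).symm).map (MulAut.conj a⁻¹).toMonoidHom
        simp only [MulEquiv.coe_toMonoidHom, MulAut.conj_apply, inv_inv] at h
        rwa [show a⁻¹ * (a * s * a⁻¹) * a = s by group,
          show a⁻¹ * (a * t * a⁻¹) * a = t by group] at h
      obtain ⟨hm, hp⟩ := psi_twoPart_G D (v := ⟨b * (x : G) * b⁻¹, mem_H_of_twoPart D hb⟩)
        (s := D.z) (by rw [twoPart_conj]; exact hb)
      rw [hp]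
      set v : H D := ⟨D.z⁻¹ * (b * (x : G) * b⁻¹), hm⟩
      have hvs : Commute (v : G) (b * s * b⁻¹) := by
        show Commute (D.z⁻¹ * (b * (x : G) * b⁻¹)) _
        rw [show D.z⁻¹ * (b * (x : G) * b⁻¹) = b * (t⁻¹ * x) * b⁻¹ by rw [← hb]; group]
        exact ((hodd x y).map (MulAut.conj b).toMonoidHom).symm
      have hsH : b * s * b⁻¹ ∈ H D := by
        rw [Subgroup.mem_centralizer_singleton_iff, ← hb]
        exact (hst.map (MulAut.conj b).toMonoidHom).eq
      obtain ⟨k, hk⟩ := exists_orderOf_twoPart (y : G)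
      obtain ⟨c, hc⟩ := exists_conj_T D (x := ⟨_, hsH⟩) ⟨k, by
        rw [Subgroup.orderOf_mk, orderOf_conj_eq, hk]⟩
      have hne : ((c * ⟨_, hsH⟩ * c⁻¹ : H D) : G) ∉ D.Z := fun hZ => hy (by
        have h := (mem_Z_iff D hc).2 hZ
        simp only [Subgroup.subtype_apply, Subgroup.coe_mul, Subgroup.coe_inv] at h
        rwa [show (c : G) * (b * s * b⁻¹) * (c : G)⁻¹ * ((c : G) * (b * s * b⁻¹) * (c : G)⁻¹) =
          ((c : G) * b) * (s * s) * ((c : G) * b)⁻¹ by group, conj_eq_one_iff] at h)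
      have h := psi_eq_one_of_commute D (v := c * v * c⁻¹) hc hne
        (((show Commute v ⟨_, hsH⟩ from Subtype.ext hvs.eq).map
          (MulAut.conj c).toMonoidHom).map (H D).subtype)
      rwa [map_mul, map_mul, map_inv, mul_right_comm, mul_inv_cancel, one_mul] at h
    rw [hval]
    exact isGeneralized_comp (wfn_gen D e (f 1) hS) E.subtype
  push Not at hex
  by_cases hall : ∀ x : E, twoPart (x : G) = 1
  · rw [show (fun x : E => Sec D f e x) = 0 from
      funext fun x => Sec_of_twoPart_one D f e (hall x)]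
    exact CfsgLib.Char.isGeneralized_zero
  push Not at hall
  obtain ⟨y, hy⟩ := hall
  have haZ : ∀ x : E, a * twoPart (x : G) * a⁻¹ ∈ D.Z := fun x => (mem_Z_iff D (haS x)).1 (by
    rw [show a * twoPart (x : G) * a⁻¹ * (a * twoPart (x : G) * a⁻¹) =
      a * (twoPart (x : G) * twoPart (x : G)) * a⁻¹ by group, hex x]; group)
  obtain ⟨k, hk, hkz⟩ := D.conj_Z _ (haZ y) fun h => hy (conj_eq_one_iff.1 h)
  set b := k⁻¹ * a with hbdef
  have hbz : b * twoPart (y : G) * b⁻¹ = D.z := by
    calc b * twoPart (y : G) * b⁻¹ = k⁻¹ * (a * twoPart (y : G) * a⁻¹) * k := by rw [hbdef]; group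
      _ = D.z := by rw [← hkz]; group
  have hbZ : ∀ x : E, b * twoPart (x : G) * b⁻¹ ∈ D.Z := fun x => by
    have h := normalizer_Z D (inv_mem hk) (haZ x)
    rwa [inv_inv, show k⁻¹ * (a * twoPart (x : G) * a⁻¹) * k = b * twoPart (x : G) * b⁻¹ by
      rw [hbdef]; group] at h
  have hcom : ∀ x x' : E, Commute (twoPart (x' : G)) (x : G) := fun x x' => by
    have h1 : Commute (twoPart (x' : G)) (twoPart (x : G)) := by
      have h := (show Commute (a * twoPart (x' : G) * a⁻¹) (a * twoPart (x : G) * a⁻¹) from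
        D.shape.cen _ (haZ x') _ (haS x)).map (MulAut.conj a⁻¹).toMonoidHom
      simp only [MulEquiv.coe_toMonoidHom, MulAut.conj_apply, inv_inv] at h
      rwa [show a⁻¹ * (a * twoPart (x' : G) * a⁻¹) * a = twoPart (x' : G) by group,
        show a⁻¹ * (a * twoPart (x : G) * a⁻¹) * a = twoPart (x : G) by group] at h
    have := h1.mul_right (hodd x x')
    rwa [mul_inv_cancel_left] at this
  let ι : E →* H D :=
    { toFun := fun x => ⟨b * (x : G) * b⁻¹, by
        rw [Subgroup.mem_centralizer_singleton_iff, ← hbz]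
        exact ((hcom x y).map (MulAut.conj b).toMonoidHom).symm.eq⟩
      map_one' := Subtype.ext (by simp)
      map_mul' := fun x x' => Subtype.ext (by simp [mul_assoc]) }
  have hcard : Nat.card π.range ∣ 4 := by
    rw [← D.shape.cardZ]
    refine (dvd_of_eq (Nat.card_congr (Subgroup.equivMapOfInjective π.range
      (MulAut.conj a).toMonoidHom (MulAut.conj a).injective).toEquiv)).trans
      (Subgroup.card_dvd_of_le ?_)
    rintro _ ⟨_, ⟨x, rfl⟩, rfl⟩
    show a * ((twoPart x : E) : G) * a⁻¹ ∈ D.Z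
    rw [← twoPart_coe]
    exact haZ x
  have hval : (fun x : E => Sec D f e x) =
      ((fun w : π.range => if w = 1 then (0 : ℂ) else 4) ∘ π.rangeRestrict) *
        fun x => f ((D.psi.comp ι) x) / 4 := by
    funext x
    have hw : π.rangeRestrict x = 1 ↔ twoPart (x : G) = 1 := by
      rw [twoPart_coe, ← Subtype.coe_inj]; rfl
    by_cases h1 : twoPart (x : G) = 1
    · rw [Sec_of_twoPart_one D f e h1]
      simp [hw.2 h1]
    simp only [Pi.mul_apply, Function.comp_apply, if_neg (mt hw.1 h1), MonoidHom.comp_apply]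
    rw [mul_div_cancel₀ _ (by norm_num)]
    set ζ := b * twoPart (x : G) * b⁻¹ with hζ
    by_cases hzz : ζ = D.z
    · rw [Sec_eq D f e hzz]; rfl
    obtain ⟨k', hk', hk'z⟩ := D.conj_Z ζ (hbZ x) fun h => h1 (conj_eq_one_iff.1 h)
    have hb' : k'⁻¹ * b * twoPart (x : G) * (k'⁻¹ * b)⁻¹ = D.z := by
      calc k'⁻¹ * b * twoPart (x : G) * (k'⁻¹ * b)⁻¹ = k'⁻¹ * ζ * k' := by rw [hζ]; group
        _ = D.z := by rw [← hk'z]; group
    rw [Sec_eq D f e hb']
    congr 1
    refine D.psi_conj k'⁻¹ (inv_mem hk') (ι x) _ (fun t ht => ?_) ?_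
    · have c1 : Commute ((ι x : H D) : G) D.z := Subgroup.mem_centralizer_singleton_iff.1 (ι x).2
      have c2 : Commute ((ι x : H D) : G) ζ := ((hcom x x).map (MulAut.conj b).toMonoidHom).symm
      rcases Z_cases D (hbZ x) (fun h => h1 (conj_eq_one_iff.1 h)) hzz ht with rfl | rfl | rfl | rfl
      · simp
      · exact c1.eq
      · exact c2.eq
      · exact (c1.mul_right c2).eq
    · show k'⁻¹ * b * (x : G) * (k'⁻¹ * b)⁻¹ = k'⁻¹ * (b * (x : G) * b⁻¹) * k'⁻¹⁻¹
      group
  rw [hval]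
  refine CfsgLib.Char.isGeneralized_mul ?_ (hf E (D.psi.comp ι))
  convert isGeneralized_comp (delta_gen hcard) π.rangeRestrict using 4

/-! ### The functions on the Sylow subgroup -/

theorem comm_mem (y x : (D.S : Subgroup G)) :
    y * x * y⁻¹ * x⁻¹ ∈ D.Z.subgroupOf (D.S : Subgroup G) := by
  set Zs : Subgroup (D.S : Subgroup G) := D.Z.subgroupOf (D.S : Subgroup G)
  have hcen : ∀ w ∈ Zs, ∀ v : (D.S : Subgroup G), w * v = v * w := fun w hw v =>
    Subtype.ext (D.shape.cen _ hw _ v.2)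
  have h : ∀ v : (D.S : Subgroup G), v * v ∈ Zs := fun v => D.shape.sq_mem _ v.2
  rw [show y * x * y⁻¹ * x⁻¹ = (y * x) * (y * x) * (x⁻¹ * (y⁻¹ * y⁻¹) * x⁻¹) by group,
    ← hcen _ (h y⁻¹) x⁻¹, mul_assoc (y⁻¹ * y⁻¹)]
  exact mul_mem (h _) (mul_mem (h _) (h _))

theorem irr_S_cases (χ : IrrCharacter (D.S : Subgroup G)) {d : ℕ}
    (hd : (χ : ↥(D.S : Subgroup G) → ℂ) 1 = d) :
    (∀ x : (D.S : Subgroup G), (x : G) ∈ D.Z → (χ : ↥(D.S : Subgroup G) → ℂ) x = d) ∨
      (d = 4 ∧ ∀ x : (D.S : Subgroup G), (x : G) ∉ D.Z → (χ : ↥(D.S : Subgroup G) → ℂ) x = 0) := by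
  classical
  by_cases hk : ∀ x : (D.S : Subgroup G), (x : G) ∈ D.Z → (χ : ↥(D.S : Subgroup G) → ℂ) x = d
  · exact Or.inl hk
  push Not at hk
  obtain ⟨ζ, hζ, hζd⟩ := hk
  have := Fintype.ofFinite (D.S : Subgroup G)
  set Zs : Subgroup (D.S : Subgroup G) := D.Z.subgroupOf (D.S : Subgroup G)
  have hcen : ∀ w ∈ Zs, ∀ x : (D.S : Subgroup G), Commute w x := fun w hw x =>
    Subtype.ext (D.shape.cen _ hw _ x.2)
  have hsgn : ∀ w ∈ Zs, ∃ c : ℤ, (c = 1 ∨ c = -1) ∧
      ∀ g, (χ : ↥(D.S : Subgroup G) → ℂ) (w * g) = (c : ℂ) * (χ : ↥(D.S : Subgroup G) → ℂ) g :=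
    fun w hw => central_invol_sign χ (hcen w hw) (Subtype.ext ((mem_Z_iff D w.2).2 hw))
  have hzero : ∀ x : (D.S : Subgroup G), (x : G) ∉ D.Z → (χ : ↥(D.S : Subgroup G) → ℂ) x = 0 := by
    intro x hx
    -- commutators with `x` give all of the centre
    let γ : (D.S : Subgroup G) →* (D.S : Subgroup G) :=
      { toFun := fun y => y * x * y⁻¹ * x⁻¹
        map_one' := by simp
        map_mul' := fun y y' => by
          have hm : y' * x * y'⁻¹ * x⁻¹ ∈ Zs := comm_mem D y' x
          calc y * y' * x * (y * y')⁻¹ * x⁻¹ = y * (y' * x * y'⁻¹ * x⁻¹) * x * y⁻¹ * x⁻¹ := by group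
            _ = (y' * x * y'⁻¹ * x⁻¹) * y * x * y⁻¹ * x⁻¹ := by rw [(hcen _ hm y).eq]
            _ = (y' * x * y'⁻¹ * x⁻¹) * (y * x * y⁻¹ * x⁻¹) := by group
            _ = _ := (hcen _ hm _).eq }
    have hle : γ.range ≤ Zs := by rintro _ ⟨y, rfl⟩; exact comm_mem D y x
    have hker : Nat.card γ.ker = 16 := by
      rw [← D.shape.cent16 (x : G) x.2 hx]
      refine Nat.card_congr
        { toFun := fun y => ⟨((y : (D.S : Subgroup G)) : G), Subgroup.mem_inf.2 ⟨(y : (D.S : Subgroup G)).2,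
            Subgroup.mem_centralizer_singleton_iff.2 ?_⟩⟩
          invFun := fun y => ⟨⟨(y : G), (Subgroup.mem_inf.1 y.2).1⟩, ?_⟩
          left_inv := fun y => rfl
          right_inv := fun y => rfl }
      · have h := MonoidHom.mem_ker.1 y.2
        exact congrArg Subtype.val (mul_inv_eq_iff_eq_mul.1 (mul_inv_eq_one.1 h))
      · refine MonoidHom.mem_ker.2 (mul_inv_eq_one.2 (mul_inv_eq_iff_eq_mul.2 (Subtype.ext ?_)))
        exact Subgroup.mem_centralizer_singleton_iff.1 (Subgroup.mem_inf.1 y.2).2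
    have heq : γ.range = Zs := by
      refine Subgroup.eq_of_le_of_card_ge hle ?_
      rw [Nat.card_congr (Subgroup.subgroupOfEquivOfLe D.shape.le).toEquiv, D.shape.cardZ,
        ← Subgroup.index_ker]
      have h := γ.ker.index_mul_card
      rw [hker, D.shape.cardS] at h
      omega
    obtain ⟨y, hy⟩ : ζ ∈ γ.range := by rw [heq]; exact hζ
    obtain ⟨c, hc, hcv⟩ := hsgn ζ hζ
    have h := CfsgLib.Char.irr_isClassFunction χ.2 x y
    rw [show y * x * y⁻¹ = ζ * x by rw [← hy]; show _ = y * x * y⁻¹ * x⁻¹ * x; group, hcv] at h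
    rcases hc with rfl | rfl
    · refine absurd ?_ hζd
      have := hcv 1
      rwa [mul_one, Int.cast_one, one_mul, hd] at this
    · push_cast at h
      linear_combination h / (-2)
  refine Or.inr ⟨?_, hzero⟩
  have h := CfsgLib.Char.irr_classInner_self χ.2
  rw [CfsgLib.Char.classInner_def,
    ← Finset.sum_filter_of_ne (p := fun x : (D.S : Subgroup G) => x ∈ Zs) (fun x _ hne => by
      by_contra hx
      exact hne (by rw [hzero x hx, zero_mul])),
    Finset.sum_congr rfl (g := fun _ => (d : ℂ) * d) fun x hx => by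
      obtain ⟨c, hc, hcv⟩ := hsgn x (Finset.mem_filter.1 hx).2
      have := hcv 1
      rw [mul_one] at this
      rcases hc with rfl | rfl <;> simp [this, hd],
    Finset.sum_const, nsmul_eq_mul,
    show (Finset.univ.filter fun x : (D.S : Subgroup G) => x ∈ Zs).card = 4 by
      rw [← Fintype.card_subtype, ← Nat.card_eq_fintype_card,
        Nat.card_congr (Subgroup.subgroupOfEquivOfLe D.shape.le).toEquiv, D.shape.cardZ],
    D.shape.cardS] at h
  have h2 : (d : ℂ) * d = (4 * 4 : ℕ) := by push_cast at h ⊢; linear_combination 16 * h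
  exact Nat.mul_self_inj.1 (by exact_mod_cast h2)

theorem wfn_S_gen (d1 e1 : ℤ) (h1 : (16 : ℤ) ∣ d1) (h4 : (64 : ℤ) ∣ 3 * d1 - 4 * e1) :
    IsGeneralizedCharacter (D.S : Subgroup G)
      (fun x : (D.S : Subgroup G) => wfn (d1 : ℂ) (e1 : ℂ) (x : G)) := by
  classical
  have := Fintype.ofFinite (D.S : Subgroup G)
  refine CfsgLib.Char.isGeneralized_of_int (fun g h => ?_) fun χ hχ => ?_
  · exact wfn_class (e1 : ℂ) (d1 : ℂ) (g : G) (h : G)
  set θ : ↥(D.S : Subgroup G) → ℂ := fun x => wfn (d1 : ℂ) (e1 : ℂ) (x : G)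
  set Zs : Subgroup (D.S : Subgroup G) := D.Z.subgroupOf (D.S : Subgroup G)
  have hθ : ∀ x, θ x * conj (χ x) = (e1 : ℂ) * conj (χ x) +
      ((if x ∈ Zs then ((d1 : ℂ) - e1) * conj (χ x) else 0) +
        if x = 1 then (-(d1 : ℂ)) * conj (χ x) else 0) := fun x => by
    by_cases hx1 : x = 1
    · subst hx1
      simp only [θ, wfn, OneMemClass.coe_one, if_pos, one_mem]
      ring
    have hne : (x : G) ≠ 1 := fun h => hx1 (Subtype.ext h)
    by_cases hxZ : (x : G) ∈ D.Z
    · simp only [θ, wfn, if_neg hne, if_pos ((mem_Z_iff D x.2).2 hxZ), if_neg hx1,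
        if_pos (show x ∈ Zs from hxZ)]
      ring
    · simp only [θ, wfn, if_neg hne, if_neg (fun h => hxZ ((mem_Z_iff D x.2).1 h)), if_neg hx1,
        if_neg (show x ∉ Zs from hxZ)]
      ring
  obtain ⟨n, hn⟩ := CfsgLib.Char.classInner_isCharacter_nat
    (CfsgLib.Char.isCharacter_one (G := (D.S : Subgroup G))) (CfsgLib.Char.irr_isCharacter hχ)
  rw [CfsgLib.Char.classInner_def, D.shape.cardS] at hn
  simp only [one_mul] at hn
  obtain ⟨d, hd⟩ := CfsgLib.Char.char_apply_one_eq_nat (CfsgLib.Char.irr_isCharacter hχ)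
  rw [CfsgLib.Char.classInner_def, D.shape.cardS, Finset.sum_congr rfl (fun x _ => hθ x),
    Finset.sum_add_distrib, Finset.sum_add_distrib, ← Finset.mul_sum, Finset.sum_ite_eq',
    if_pos (Finset.mem_univ _), hd, Complex.conj_natCast, ← Finset.sum_filter, ← Finset.mul_sum]
  have hcard : (Finset.univ.filter fun x : (D.S : Subgroup G) => x ∈ Zs).card = 4 := by
    rw [← Fintype.card_subtype, ← Nat.card_eq_fintype_card,
      Nat.card_congr (Subgroup.subgroupOfEquivOfLe D.shape.le).toEquiv, D.shape.cardZ]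
  obtain ⟨q, hq⟩ := h4
  obtain ⟨r, hr⟩ := h1
  rcases irr_S_cases D ⟨χ, hχ⟩ hd with hall | ⟨rfl, hzero⟩
  · refine ⟨e1 * n + q * d, ?_⟩
    rw [Finset.sum_congr (s₁ := Finset.univ.filter fun x : (D.S : Subgroup G) => x ∈ Zs) rfl
      (g := fun _ => (d : ℂ)) (f := fun x => conj (χ x)) (fun x hx => by
      rw [show χ x = d from hall x (Finset.mem_filter.1 hx).2, Complex.conj_natCast]),
      Finset.sum_const, hcard, nsmul_eq_mul]
    push_cast at hn ⊢
    have hq' : (3 : ℂ) * d1 - 4 * e1 = 64 * q := by exact_mod_cast hq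
    linear_combination (e1 : ℂ) * hn + ((d : ℂ) / 64) * hq'
  · -- the sum over the centre is the whole sum
    have htot : ∑ x ∈ Finset.univ.filter (fun x : (D.S : Subgroup G) => x ∈ Zs), conj (χ x) =
        ∑ x, conj (χ x) := Finset.sum_subset (Finset.subset_univ _) fun x _ hx => by
      rw [show χ x = 0 from hzero x fun h => hx (Finset.mem_filter.2 ⟨Finset.mem_univ _, h⟩),
        map_zero]
    rw [htot]
    refine ⟨d1 * n - r, ?_⟩
    push_cast at hn ⊢
    have hr' : (d1 : ℂ) = 16 * r := by exact_mod_cast hr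
    linear_combination (d1 : ℂ) * hn + (-(1 : ℂ) / 16) * hr'

/-! ### The six functions -/

open scoped Classical in
/-- The local functions on the section of the involutions. -/
noncomputable def fFun (i : Fin 6) (c : Multiplicative (ZMod 5)) : ℂ :=
  if i = 5 then 0 else 4 * chr ((i : ℕ) : ZMod 5) c - if c = 1 then 20 else 0

/-- The values on the elements of order four. -/
noncomputable def eFun (i : Fin 6) : ℂ := if i = 5 then 16 else 4

/-- The six generalized characters. -/
noncomputable def F (i : Fin 6) : G → ℂ := Sec D (fFun i) (eFun i)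

theorem F_class (i : Fin 6) : IsClassFunction G (F D i) := Sec_class D _ _

theorem fFun_div_gen (i : Fin 6) (E : Type u) [Group E] [Finite E]
    (φ : E →* Multiplicative (ZMod 5)) :
    IsGeneralizedCharacter E (fun x => fFun i (φ x) / 4) := by
  by_cases hi : i = 5
  · rw [show (fun x => fFun i (φ x) / 4) = (0 : E → ℂ) from funext fun x => by simp [fFun, hi]]
    exact CfsgLib.Char.isGeneralized_zero
  rw [show (fun x => fFun i (φ x) / 4) =
      (fun x => chr ((i : ℕ) : ZMod 5) (φ x)) - ∑ l : ZMod 5, fun x => chr l (φ x) from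
    funext fun x => by
      simp only [fFun, if_neg hi, Pi.sub_apply, Finset.sum_apply, sum_chr]
      split_ifs <;> ring]
  refine CfsgLib.Char.isGeneralized_sub (isGeneralized_chr _ φ) ?_
  exact CfsgLib.Char.isGeneralized_sum _ fun l _ => isGeneralized_chr l φ

theorem F_gen (i : Fin 6) : IsGeneralizedCharacter G (F D i) := by
  refine Sec_gen D _ _ ?_ (fFun_div_gen i)
  by_cases hi : i = 5
  · have h := wfn_S_gen D 0 16 (by norm_num) (by norm_num)
    simpa [fFun, eFun, hi] using h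
  · have h := wfn_S_gen D (-16) 4 (by norm_num) (by norm_num)
    push_cast at h
    rw [show fFun i 1 = -16 by simp [fFun, hi, chr_one]; norm_num, show eFun i = 4 by simp [eFun, hi]]
    exact h

end CfsgLib.Invol.UThreeFour.Chars
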