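import Mathlib

/-!
Frozen interface for the degree system of a group with a Sylow 2-subgroup of type PSU(3,4)
(statements S0486, S3176). The rows are the principal block characters whose coefficient vector
in the six generalized characters is nonzero; `d` is the degree, `nu` the Frobenius-Schur
indicator, `sym` a Galois conjugation, `conj` complex conjugation. See notes/u34_route_helper12.md.
-/

set_option autoImplicit false

namespace CfsgLib.Invol.UThreeFour

/-- The Galois action on coefficient vectors: `k ↦ 2k` on the first five, the last one fixed. -/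
def galShift (v : Fin 6 → ℤ) : Fin 6 → ℤ := ![v 0, v 2, v 4, v 1, v 3, v 5]

/-- The value at an involution of a character with coefficient vector `v`. -/
def zval (v : Fin 6 → ℤ) : ℤ := 5 * v 5 - 4 * (v 0 + v 1 + v 2 + v 3 + v 4)

/-- The inner products of the six generalized characters. -/
def gramMat : Fin 6 → Fin 6 → ℤ :=
  ![![5, 1, 1, 1, 1, 4], ![1, 5, 1, 1, 1, 4], ![1, 1, 5, 1, 1, 4], ![1, 1, 1, 5, 1, 4],
    ![1, 1, 1, 1, 5, 4], ![4, 4, 4, 4, 4, 16]]

universe u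

/-- The degree system. -/
structure Sys (ι : Type u) [Fintype ι] where
  v : ι → Fin 6 → ℤ
  d : ι → ℤ
  nu : ι → ℤ
  triv : ι
  sym : ι ≃ ι
  conj : ι ≃ ι
  Q : ℚ
  v_ne : ∀ i, v i ≠ 0
  d_pos : ∀ i, 0 < d i
  v_triv : v triv = ![1, 0, 0, 0, 0, 1]
  d_triv : d triv = 1
  nu_triv : nu triv = 1
  v_sym : ∀ i, v (sym i) = galShift (v i)
  d_sym : ∀ i, d (sym i) = d i
  nu_sym : ∀ i, nu (sym i) = nu i
  conj_conj : ∀ i, conj (conj i) = i
  v_conj : ∀ i, v (conj i) = galShift (galShift (v i))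
  d_conj : ∀ i, d (conj i) = d i
  nu_conj : ∀ i, nu (conj i) = nu i
  nu_cases : ∀ i, nu i = 1 ∨ nu i = 0 ∨ nu i = -1
  nu_zero_iff : ∀ i, nu i = 0 ↔ conj i ≠ i
  nu_neg : ∀ i, nu i = -1 → Even (d i)
  gram : ∀ k l, ∑ i, v i k * v i l = gramMat k l
  sum_deg : ∀ k, ∑ i, v i k * d i = 0
  sum_nu : ∀ k, ∑ i, v i k * nu i = ![-1, -1, -1, -1, -1, 0] k
  cong : ∀ i, (64 : ℤ) ∣ d i + 3 * zval (v i) + 60 * v i 5
  zval_ne : ∀ i, zval (v i) ≠ 0
  zval_ge : ∀ i, 0 ≤ d i + 3 * zval (v i)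
  zval_lt : ∀ i, i ≠ triv → zval (v i) < d i
  Q_neg : Q < 0
  sum_quot : ∀ k, ∑ i, (v i k : ℚ) * (zval (v i) : ℚ) ^ 2 / (d i : ℚ) = ![Q, Q, Q, Q, Q, 0] k

/-- What the certificate delivers: the two facts used for the group order and the core. -/
def Sys.Solved {ι : Type u} [Fintype ι] (C : Sys ι) : Prop :=
  C.Q = -32 / 195 ∧ ∃ i, C.d i = 12 ∧ zval (C.v i) = -4

end CfsgLib.Invol.UThreeFour
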