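import Cfsg.Agent.Lib.Invol.UThreeFour.CharsBlock
import Cfsg.Agent.Lib.Invol.UThreeFour.CharsFun
import Cfsg.Agent.Lib.Invol.UThreeFour.Defs
import Cfsg.Agent.Lib.Block.PrincipalSection

/-!
The inner products of the six generalized characters with the irreducible characters and with one
another.
-/

set_option autoImplicit false
set_option linter.unusedSectionVars false
set_option maxHeartbeats 1000000

namespace CfsgLib.Invol.UThreeFour.Chars

open Cfsg
open scoped ComplexConjugate

universe u

variable {G : Type u} [Group G] [Finite G] (D : Loc G)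

open scoped Classical in
/-- The normalised sum over the sections of the elements of order four. -/
noncomputable def S4 [Fintype G] (F' : G → ℂ) : ℂ :=
  (Nat.card G : ℂ)⁻¹ *
    ∑ g ∈ Finset.univ.filter (fun g : G => twoPart g * twoPart g ≠ 1), conj (F' g)

theorem psi_conjugate (x a : H D) : D.psi (a * x * a⁻¹) = D.psi x := by
  rw [map_mul, map_mul, map_inv, mul_right_comm, mul_inv_cancel, one_mul]

theorem Sec_fib [Fintype (H D)] (f : Multiplicative (ZMod 5) → ℂ) (e : ℂ) {x : H D}
    (hx : x ∈ fib D) : Sec D f e (x : G) = f (D.psi x) := by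
  have ha : (1 : G) * twoPart (x : G) * 1⁻¹ = D.z := by
    rw [twoPart_coe, (mem_fib D).1 hx]; simp
  rw [Sec_eq D f e ha]
  congr 2
  exact Subtype.ext (by simp)

theorem Sec_inner [Fintype G] [Fintype (H D)] (f : Multiplicative (ZMod 5) → ℂ) (e : ℂ)
    {F' : G → ℂ} (hF : IsClassFunction G F') :
    classInner (Sec D f e) F' =
      (Nat.card (H D) : ℂ)⁻¹ * ∑ x ∈ fib D, f (D.psi x) * conj (F' x) + e * S4 F' := by
  classical
  set P : G → ℂ := fun g => Sec D f e g * conj (F' g)
  have hP : IsClassFunction G P := fun g h => by simp only [P, Sec_class D f e g h, hF g h]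
  rw [CfsgLib.Char.classInner_def, ← Finset.sum_filter_add_sum_filter_not Finset.univ
    (fun g : G => twoPart g * twoPart g ≠ 1), mul_add, add_comm]
  congr 1
  swap
  · rw [S4, Finset.mul_sum, Finset.mul_sum, Finset.mul_sum]
    refine Finset.sum_congr rfl fun g hg => ?_
    rw [Sec_of_four D f e (Finset.mem_filter.1 hg).2]
    ring
  rw [← Finset.sum_filter_of_ne (p := fun g : G => IsConj D.z (twoPart g))
    (s := Finset.univ.filter fun g : G => ¬ twoPart g * twoPart g ≠ 1) (fun g hg hne => ?_),
    Finset.filter_filter]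
  · have hfil : (Finset.univ.filter fun g : G =>
        ¬ twoPart g * twoPart g ≠ 1 ∧ IsConj D.z (twoPart g)) =
        Finset.univ.filter fun g : G => IsConj D.z (twoPart g) := by
      refine Finset.filter_congr fun g _ => ⟨fun h => h.2, fun h => ⟨fun hne => ?_, h⟩⟩
      obtain ⟨a, ha⟩ := isConj_iff.1 h
      exact not_conj_z_of_sq D hne ⟨a⁻¹, by rw [← ha]; group⟩
    rw [hfil, sum_section D.z hP, sum_fiber_coe (H D) (zH D) le_rfl P]
    have hidx : ((Nat.card (H D) : ℂ)) * ((H D).index : ℂ) = (Nat.card G : ℂ) := by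
      exact_mod_cast (H D).card_mul_index
    have h0 : (Nat.card G : ℂ) ≠ 0 := CfsgLib.Char.natCard_ne_zero
    have e1 : ∀ x ∈ fib D, P x = f (D.psi x) * conj (F' x) := fun x hx => by
      show Sec D f e x * _ = _
      rw [Sec_fib D f e hx]
    rw [show Finset.univ.filter (fun h : H D => twoPart h = zH D) = fib D from
      Finset.filter_congr fun _ _ => Iff.rfl, Finset.sum_congr rfl e1, ← mul_assoc]
    congr 1
    rw [← hidx, mul_inv, mul_assoc,
      inv_mul_cancel₀ (Nat.cast_ne_zero.2 Subgroup.index_ne_zero_of_finite), mul_one]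
  · by_contra hn
    refine hne ?_
    have h2 : twoPart g * twoPart g = 1 := not_not.1 (Finset.mem_filter.1 hg).2
    by_cases h1 : twoPart g = 1
    · show Sec D f e g * _ = 0
      rw [Sec_of_twoPart_one D f e h1, zero_mul]
    · obtain ⟨a, ha⟩ := exists_conj_z D h2 h1
      exact absurd (isConj_iff.2 ⟨a⁻¹, by rw [← ha]; group⟩) hn

/-- The sections of the elements of order four: a function constant on the fibre of `x0`. -/
theorem S4_const [Fintype G] {F' : G → ℂ} (hF : IsClassFunction G F') {c : ℂ}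
    (hc : ∀ g : G, twoPart g = x0 D → F' g = c) : S4 F' = conj c / 16 := by
  classical
  obtain ⟨N, -, hodd, hmem, hcard⟩ := cent_four_facts D
  let C := Subgroup.centralizer ({x0 D} : Set G)
  have := Fintype.ofFinite C
  have hxC : x0 D ∈ C := Subgroup.mem_centralizer_singleton_iff.2 rfl
  have hfil : (Finset.univ.filter fun g : G => twoPart g * twoPart g ≠ 1) =
      Finset.univ.filter fun g : G => IsConj (x0 D) (twoPart g) := by
    refine Finset.filter_congr fun g _ => ⟨fun h => isConj_x0 D (exists_orderOf_twoPart g) h,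
      fun h h1 => x0_not_mem D ((mem_Z_iff D (x0_mem D)).1 ?_)⟩
    obtain ⟨a, ha⟩ := isConj_iff.1 h
    rw [← ha, show a * x0 D * a⁻¹ * (a * x0 D * a⁻¹) = a * (x0 D * x0 D) * a⁻¹ by group,
      conj_eq_one_iff] at h1
    exact h1
  have hfib : (Finset.univ.filter fun h : C => twoPart h = ⟨x0 D, hxC⟩).card = Nat.card N := by
    rw [← Nat.card_eq_finsetCard]
    refine Nat.card_congr
      ⟨fun x => ⟨(⟨x0 D, hxC⟩ : C)⁻¹ * x.1, hmem _ ?_⟩, fun v => ⟨⟨x0 D, hxC⟩ * v.1, ?_⟩,
        fun x => Subtype.ext (mul_inv_cancel_left _ _),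
        fun v => Subtype.ext (inv_mul_cancel_left _ _)⟩
    · have := odd_orderOf_twoPart_inv_mul x.1
      rwa [(Finset.mem_filter.1 x.2).2] at this
    · refine Finset.mem_filter.2 ⟨Finset.mem_univ _, twoPart_mul ?_ ?_ ?_⟩
      · exact Subtype.ext (Subgroup.mem_centralizer_singleton_iff.1 (v.1 : C).2).symm
      · obtain ⟨k, hk⟩ := x0_two D
        exact ⟨k, by rwa [Subgroup.orderOf_mk]⟩
      · exact hodd.of_dvd_nat (Subgroup.orderOf_coe v ▸ orderOf_dvd_natCard v)
  set P : G → ℂ := fun g => conj (F' g)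
  have hP : IsClassFunction G P := fun g h => by simp only [P, hF g h]
  rw [S4, hfil, sum_section (x0 D) hP, sum_fiber_coe C ⟨x0 D, hxC⟩ le_rfl P,
    Finset.sum_congr rfl (g := fun _ => conj c) (fun h hh => by
      show conj (F' (h : G)) = _
      rw [hc (h : G) (by rw [twoPart_coe, (Finset.mem_filter.1 hh).2])]),
    Finset.sum_const, hfib, nsmul_eq_mul]
  have hG : (Nat.card G : ℂ) = 16 * (Nat.card N : ℂ) * (C.index : ℂ) := by
    rw [← C.card_mul_index, hcard]; push_cast; ring
  have h1 : (Nat.card N : ℂ) ≠ 0 := CfsgLib.Char.natCard_ne_zero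
  have h2 : (C.index : ℂ) ≠ 0 := Nat.cast_ne_zero.2 Subgroup.index_ne_zero_of_finite
  rw [hG]
  field_simp
  rfl

open scoped Classical in
theorem sum_fib_psi [Fintype (H D)] (φ : Multiplicative (ZMod 5) → ℂ) :
    ∑ x ∈ fib D, φ (D.psi x) =
      (Nat.card (K D) : ℂ) * ∑ c, φ c * (if c = 1 then 1 else 16) := by
  rw [← Finset.sum_fiberwise (fib D) (fun x => D.psi x) (fun x => φ (D.psi x)), Finset.mul_sum]
  refine Finset.sum_congr rfl fun c _ => ?_
  rw [Finset.sum_congr rfl (g := fun _ => φ c) (fun x hx => by rw [(Finset.mem_filter.1 hx).2]),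
    Finset.sum_const, nsmul_eq_mul,
    show ((fib D).filter fun x => D.psi x = c).card =
      Nat.card {x : H D // twoPart x = zH D ∧ D.psi x = c} by
      rw [Finset.filter_filter, Nat.card_eq_fintype_card, Fintype.card_subtype],
    card_fib_psi D c]
  split_ifs <;> push_cast <;> ring

theorem card_H : (Nat.card (H D) : ℂ) = 320 * (Nat.card (K D) : ℂ) := by
  have h := D.core_normal_card
  rw [show Nat.card ↥(Cfsg.centralizerPPrimeCore 2 D.z) = Nat.card (K D) from
    Subgroup.card_subtype (H D) (K D)] at h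
  exact_mod_cast h

open scoped Classical in
theorem Sec_inner_Sec [Fintype G] [Fintype (H D)] (f f' : Multiplicative (ZMod 5) → ℂ) (e e' : ℂ) :
    classInner (Sec D f e) (Sec D f' e') =
      (∑ c, f c * conj (f' c) * (if c = 1 then 1 else 16)) / 320 + e * conj e' / 16 := by
  rw [Sec_inner D f e (Sec_class D f' e'), S4_const D (Sec_class D f' e') (c := e') fun g hg => ?_,
    Finset.sum_congr rfl (g := fun x => f (D.psi x) * conj (f' (D.psi x)))
      (fun x hx => by rw [Sec_fib D f' e' hx]),
    sum_fib_psi D (fun c => f c * conj (f' c)), card_H]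
  · have h1 : (Nat.card (K D) : ℂ) ≠ 0 := CfsgLib.Char.natCard_ne_zero
    field_simp
  · refine Sec_of_four D f' e' ?_
    rw [hg]
    exact fun h => x0_not_mem D ((mem_Z_iff D (x0_mem D)).1 h)

open scoped Classical in
theorem Sec_inner_one [Fintype G] [Fintype (H D)] (f : Multiplicative (ZMod 5) → ℂ) (e : ℂ) :
    classInner (Sec D f e) (fun _ => 1) =
      (∑ c, f c * (if c = 1 then 1 else 16)) / 320 + e / 16 := by
  have hone : IsClassFunction G (fun _ => (1 : ℂ)) := fun _ _ => rfl
  rw [Sec_inner D f e hone, S4_const D hone (c := 1) (fun _ _ => rfl),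
    Finset.sum_congr rfl (g := fun x => f (D.psi x)) (fun x _ => by rw [map_one, mul_one]),
    sum_fib_psi D f, card_H, map_one]
  have h1 : (Nat.card (K D) : ℂ) ≠ 0 := CfsgLib.Char.natCard_ne_zero
  field_simp

open scoped Classical in
theorem sum_chr_weight (k : ZMod 5) :
    ∑ c, chr k c * (if c = 1 then (1 : ℂ) else 16) = (if k = 0 then 80 else 0) - 15 := by
  have h : ∀ c, chr k c * (if c = 1 then (1 : ℂ) else 16) =
      16 * chr k c - if c = 1 then 15 else 0 := fun c => by
    split_ifs with hc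
    · subst hc; rw [chr_one]; norm_num
    · ring
  rw [Finset.sum_congr rfl (fun c _ => h c), Finset.sum_sub_distrib, ← Finset.mul_sum, sum_chr_arg,
    Finset.sum_ite_eq', if_pos (Finset.mem_univ _)]
  split_ifs <;> norm_num

open scoped Classical in
theorem sum_fFun_weight {i : Fin 6} (hi : i ≠ 5) :
    ∑ c, fFun i c * (if c = 1 then (1 : ℂ) else 16) =
      (if i = 0 then 320 else 0) - 80 := by
  have h : ∀ c, fFun i c * (if c = 1 then (1 : ℂ) else 16) =
      4 * (chr ((i : ℕ) : ZMod 5) c * (if c = 1 then (1 : ℂ) else 16)) -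
        if c = 1 then 20 else 0 := fun c => by
    simp only [fFun, if_neg hi]
    split_ifs <;> ring
  rw [Finset.sum_congr rfl (fun c _ => h c), Finset.sum_sub_distrib, ← Finset.mul_sum,
    sum_chr_weight, Finset.sum_ite_eq', if_pos (Finset.mem_univ _)]
  fin_cases i <;> first | exact absurd rfl hi | (simp +decide; try norm_num)

open scoped Classical in
theorem sum_fFun_pair {i j : Fin 6} (hi : i ≠ 5) (hj : j ≠ 5) :
    ∑ c, fFun i c * conj (fFun j c) * (if c = 1 then (1 : ℂ) else 16) =
      if i = j then 1280 else 0 := by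
  have h : ∀ c, fFun i c * conj (fFun j c) * (if c = 1 then (1 : ℂ) else 16) =
      256 * chr (((i : ℕ) : ZMod 5) - ((j : ℕ) : ZMod 5)) c := fun c => by
    simp only [fFun, if_neg hi, if_neg hj]
    split_ifs with hc
    · subst hc
      simp only [chr_one, mul_one, map_sub, map_ofNat]
      norm_num
    · rw [sub_zero, sub_zero, map_mul, conj_chr, map_ofNat, sub_eq_add_neg, ← chr_mul]
      ring
  rw [Finset.sum_congr rfl (fun c _ => h c), ← Finset.mul_sum, sum_chr_arg]
  fin_cases i <;> fin_cases j <;>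
    first | exact absurd rfl hi | exact absurd rfl hj | (simp +decide; try norm_num)

/-- The Gram matrix. -/
theorem F_inner_F [Fintype G] (i j : Fin 6) :
    classInner (F D i) (F D j) = (gramMat i j : ℂ) := by
  classical
  have := Fintype.ofFinite (H D)
  rw [F, F, Sec_inner_Sec]
  by_cases hi : i = 5
  · subst hi
    simp only [fFun, if_true, zero_mul, Finset.sum_const_zero, zero_div, zero_add, eFun]
    fin_cases j <;> simp +decide [gramMat, map_ofNat]
  by_cases hj : j = 5
  · subst hj
    simp only [fFun, if_true, map_zero, mul_zero, zero_mul, Finset.sum_const_zero, zero_div,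
      zero_add, eFun]
    fin_cases i <;> simp +decide [gramMat, map_ofNat]
  rw [sum_fFun_pair hi hj]
  simp only [eFun, if_neg hi, if_neg hj]
  fin_cases i <;> fin_cases j <;>
    first | exact absurd rfl hi | exact absurd rfl hj | (simp +decide [gramMat, map_ofNat]; try norm_num)

theorem F_inner_one [Fintype G] (i : Fin 6) :
    classInner (F D i) (fun _ => 1) = ((![1, 0, 0, 0, 0, 1] : Fin 6 → ℤ) i : ℂ) := by
  classical
  have := Fintype.ofFinite (H D)
  rw [F, Sec_inner_one]
  by_cases hi : i = 5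
  · subst hi
    simp only [fFun, if_true, zero_mul, Finset.sum_const_zero, zero_div, zero_add, eFun]
    simp +decide
  rw [sum_fFun_weight hi]
  simp only [eFun, if_neg hi]
  fin_cases i <;> first | exact absurd rfl hi | (simp +decide; try norm_num)

/-! ### The principal block -/

variable {M : Ideal AlgInt} (hM : IsPModular 2 M) {χ : IrrCharacter G}

include hM in
theorem principal_fib_one [Fintype (H D)] (hχ : χ ∈ principalBlock M G) {x : H D} (hx : x ∈ fib D)
    (h1 : D.psi x = 1) : (χ : G → ℂ) x = (χ : G → ℂ) D.z := by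
  rw [mem_fib] at hx
  have hT : q D x ∈ Tb D := (psib_eq_one_iff D _).1 h1
  have hv : zH D * x ∈ K D := by
    have h2 : q D x = q D (zH D) := by
      rw [← twoPart_self (two_of_mem_Tb D hT), twoPart_q, hx]
    have := QuotientGroup.eq.1 h2.symm
    rwa [inv_eq_of_mul_eq_one_left (zH_sq D)] at this
  have h := principal_const_on_core hM (x := D.z) ⟨1, by rw [D.hz, pow_one]⟩
    (v := ((zH D * x : H D) : G)) ⟨zH D * x, hv, rfl⟩ hχ
  rwa [show D.z * ((zH D * x : H D) : G) = x by
    show D.z * (D.z * (x : G)) = x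
    rw [← mul_assoc, invol_mul_self D.hz, one_mul]] at h

include hM in
theorem principal_fib_four (hχ : χ ∈ principalBlock M G) {g : G} (hg : twoPart g = x0 D) :
    (χ : G → ℂ) g = (χ : G → ℂ) (x0 D) := by
  have := Fact.mk Nat.prime_two
  have h := (CfsgLib.Block.principal_section hM (x0_two D) (cent_four_complement D).1).1 χ hχ
    ((x0 D)⁻¹ * g) ?_ ?_
  · rwa [mul_inv_cancel_left] at h
  · exact (Commute.refl _).inv_right.mul_right (hg ▸ twoPart_commute_self g)
  · rw [← even_iff_two_dvd, Nat.not_even_iff_odd]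
    exact hg ▸ odd_orderOf_twoPart_inv_mul g

include hM in
theorem S4_principal [Fintype G] (hχ : χ ∈ principalBlock M G) :
    S4 (χ : G → ℂ) = conj ((χ : G → ℂ) (x0 D)) / 16 :=
  S4_const D (CfsgLib.Char.irr_isClassFunction χ.2) fun _ hg => principal_fib_four D hM hχ hg

include hM in
theorem inner_five [Fintype G] (hχ : χ ∈ principalBlock M G) :
    classInner (F D 5) (χ : G → ℂ) = conj ((χ : G → ℂ) (x0 D)) := by
  classical
  have := Fintype.ofFinite (H D)
  rw [F, Sec_inner D _ _ (CfsgLib.Char.irr_isClassFunction χ.2), S4_principal D hM hχ]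
  simp only [fFun, if_true, zero_mul, Finset.sum_const_zero, mul_zero, zero_add, eFun]
  ring

open scoped Classical in
theorem sum_fFun (c : Multiplicative (ZMod 5)) :
    fFun 0 c + fFun 1 c + fFun 2 c + fFun 3 c + fFun 4 c = if c = 1 then -80 else 0 := by
  have h := sum_chr c
  change ∑ k : Fin 5, chr k c = _ at h
  rw [Fin.sum_univ_five] at h
  simp only [fFun, show (0 : Fin 6) ≠ 5 by decide, show (1 : Fin 6) ≠ 5 by decide,
    show (2 : Fin 6) ≠ 5 by decide, show (3 : Fin 6) ≠ 5 by decide, show (4 : Fin 6) ≠ 5 by decide,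
    if_false]
  change (4 * chr 0 c - _) + (4 * chr 1 c - _) + (4 * chr 2 c - _) + (4 * chr 3 c - _) +
    (4 * chr 4 c - _) = _
  split_ifs with hc
  · rw [if_pos hc] at h; linear_combination 4 * h
  · rw [if_neg hc] at h; linear_combination 4 * h

include hM in
theorem inner_sum [Fintype G] (hχ : χ ∈ principalBlock M G) :
    4 * (classInner (F D 0) (χ : G → ℂ) + classInner (F D 1) (χ : G → ℂ) +
      classInner (F D 2) (χ : G → ℂ) + classInner (F D 3) (χ : G → ℂ) +
      classInner (F D 4) (χ : G → ℂ)) =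
      5 * conj ((χ : G → ℂ) (x0 D)) - conj ((χ : G → ℂ) D.z) := by
  classical
  have := Fintype.ofFinite (H D)
  have hcl := CfsgLib.Char.irr_isClassFunction χ.2
  simp only [F, Sec_inner D _ _ hcl, S4_principal D hM hχ, eFun,
    show (0 : Fin 6) ≠ 5 by decide, show (1 : Fin 6) ≠ 5 by decide,
    show (2 : Fin 6) ≠ 5 by decide, show (3 : Fin 6) ≠ 5 by decide, show (4 : Fin 6) ≠ 5 by decide,
    if_false]
  have hsum : ∑ x ∈ fib D, fFun 0 (D.psi x) * conj ((χ : G → ℂ) x) +
      ∑ x ∈ fib D, fFun 1 (D.psi x) * conj ((χ : G → ℂ) x) +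
      ∑ x ∈ fib D, fFun 2 (D.psi x) * conj ((χ : G → ℂ) x) +
      ∑ x ∈ fib D, fFun 3 (D.psi x) * conj ((χ : G → ℂ) x) +
      ∑ x ∈ fib D, fFun 4 (D.psi x) * conj ((χ : G → ℂ) x) =
      -80 * (Nat.card (K D) : ℂ) * conj ((χ : G → ℂ) D.z) := by
    simp only [← Finset.sum_add_distrib, ← add_mul, sum_fFun]
    rw [Finset.sum_congr rfl (g := fun x => (fun c => if c = 1 then
        -80 * conj ((χ : G → ℂ) D.z) else 0) (D.psi x)) (fun x hx => by
      simp only [ite_mul, zero_mul]
      split_ifs with h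
      · rw [principal_fib_one D hM hχ hx h]
      · rfl), sum_fib_psi D (fun c => if c = 1 then -80 * conj ((χ : G → ℂ) D.z) else 0)]
    simp only [ite_mul, zero_mul, Finset.sum_ite_eq', Finset.mem_univ, if_true, mul_one]
    ring
  have h1 : (Nat.card (K D) : ℂ) ≠ 0 := CfsgLib.Char.natCard_ne_zero
  rw [card_H]
  field_simp
  linear_combination 64 * hsum

end CfsgLib.Invol.UThreeFour.Chars
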