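import Cfsg.Agent.Lib.Invol.UThreeFour.CharsSys
import Cfsg.Agent.Lib.Invol.ZStar

/-!
The consequences of the solved degree system: the core of the centralizer of an involution is
trivial and the order of the group is 62400.
-/

set_option autoImplicit false
set_option linter.unusedSectionVars false
set_option maxHeartbeats 1000000

namespace CfsgLib.Invol.UThreeFour.Chars

open Cfsg
open scoped ComplexConjugate

universe u

variable {G : Type u} [Group G] [Fintype G] (D : Loc G)

/-- Moving an element of the core centralizing two involutions of `Z`. -/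
theorem conj_mem_K {u : H D} (hu : u ∈ K D) {t : G} (ht : t ∈ D.Z) (ht1 : t ≠ 1) (htz : t ≠ D.z)
    (hc : Commute (u : G) t) {k : G}
    (hk : k ∈ Subgroup.normalizer ((D.S : Subgroup G) : Set G)) (hkz : k * D.z * k⁻¹ = t) :
    ∃ h : k⁻¹ * (u : G) * k ∈ H D, (⟨_, h⟩ : H D) ∈ K D := by
  have hH : k⁻¹ * (u : G) * k ∈ H D := by
    rw [Subgroup.mem_centralizer_singleton_iff]
    have h1 := hc.map (MulAut.conj k⁻¹).toMonoidHom
    simp only [MulEquiv.coe_toMonoidHom, MulAut.conj_apply, inv_inv] at h1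
    rw [show k⁻¹ * t * k = D.z by rw [← hkz]; group] at h1
    exact h1.eq
  refine ⟨hH, ?_⟩
  have hz : Commute (u : G) D.z := Subgroup.mem_centralizer_singleton_iff.1 u.2
  have hpsi := D.psi_conj k⁻¹ (inv_mem hk) u ⟨_, hH⟩ (fun s hs => by
    rcases Z_cases D ht ht1 htz hs with rfl | rfl | rfl | rfl
    · simp
    · exact hz.eq
    · exact hc.eq
    · exact (hz.mul_right hc).eq) (by rw [inv_inv])
  rw [psi_of_mem_K D hu] at hpsi
  have hodd : Odd (orderOf (⟨_, hH⟩ : H D)) := by
    rw [Subgroup.orderOf_mk, orderOf_conj_inv_eq, Subgroup.orderOf_coe]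
    exact odd_of_mem_K D hu
  obtain ⟨j, hj⟩ := two_of_mem_Tb D ((psib_eq_one_iff D _).1 ((psib_q D _).trans hpsi))
  exact (QuotientGroup.eq_one_iff _).1 (orderOf_eq_one_iff.1 (Nat.eq_one_of_dvd_coprimes
    ((Nat.coprime_two_left.2 hodd).pow_left j) (hj ▸ dvd_rfl) (orderOf_map_dvd (q D) _)))

variable {M : Ideal AlgInt} (hM : IsPModular 2 M)

include hM in
/-- The character of degree twelve contains the core in its kernel. -/
theorem core_le_ker {χ : IrrCharacter G} (hne : coef D χ ≠ 0) (h12 : (χ : G → ℂ) 1 = 12)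
    (ha : zval (coef D χ) = -4) {u : H D} (hu : u ∈ K D) : (χ : G → ℂ) (u : G) = 12 := by
  classical
  have hχ := mem_principal_of_coef D hM hne
  have hcl := CfsgLib.Char.irr_isClassFunction χ.2
  have hz4 : (χ : G → ℂ) D.z = -4 := by rw [coef_zval D hM hχ, ha]; norm_num
  have hzu : ∀ v : H D, v ∈ K D → (χ : G → ℂ) (D.z * (v : G)) = -4 := fun v hv => by
    rw [principal_const_on_core hM (x := D.z) ⟨1, by rw [D.hz, pow_one]⟩ (v := (v : G))
      ⟨v, hv, rfl⟩ hχ, hz4]
  have hinv : ∀ s ∈ D.Z, s ≠ 1 → (χ : G → ℂ) s = -4 := fun s hs hs1 => by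
    obtain ⟨b, hb⟩ := isConj_iff.1 (D.conj_invol s (invol_of_mul_self
      ((mem_Z_iff D (D.shape.le hs)).2 hs) hs1))
    rw [← hb, hcl, hz4]
  obtain ⟨t, ht, ht1, htz⟩ := exists_t D
  have hzt : D.z * t ∈ D.Z := mul_mem D.hzZ ht
  have hzt1 : D.z * t ≠ 1 := fun h => htz (by
    rw [← inv_eq_of_mul_eq_one_right h, invol_inv D.hz])
  have hztz : D.z * t ≠ D.z := fun h => ht1 (mul_eq_left.1 h)
  have htH : t ∈ H D := Z_le_H D ht
  have hct : Commute t D.z := Subgroup.mem_centralizer_singleton_iff.1 htH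
  have htt : t * t = 1 := (mem_Z_iff D (D.shape.le ht)).2 ht
  obtain ⟨n, ρ, -, hρ⟩ := χ.2
  have htr : ∀ g, LinearMap.trace ℂ (Fin n → ℂ) (ρ g) = (χ : G → ℂ) g := fun g => by
    rw [← hρ]; rfl
  have htr1 : LinearMap.trace ℂ (Fin n → ℂ) 1 = 12 := by rw [← map_one ρ, htr, h12]
  set A : Module.End ℂ (Fin n → ℂ) := 1 + ρ D.z with hA
  set e : Module.End ℂ (Fin n → ℂ) := (4⁻¹ : ℂ) • (A * (1 + ρ t)) with he
  have hzz : ρ D.z * ρ D.z = 1 := by rw [← map_mul, invol_mul_self D.hz, map_one]
  have hρt : ρ t * ρ t = 1 := by rw [← map_mul, htt, map_one]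
  have hAA : A * A = (2 : ℂ) • A := by
    rw [hA]
    simp only [two_smul, add_mul, mul_add, one_mul, mul_one, hzz]
    abel
  have hBB : (1 + ρ t) * (1 + ρ t) = (2 : ℂ) • (1 + ρ t) := by
    simp only [two_smul, add_mul, mul_add, one_mul, mul_one, hρt]
    abel
  have hAt : Commute A (ρ t) := (Commute.one_left _).add_left (hct.symm.map ρ)
  have hidem : IsIdempotentElem e := by
    have hc : Commute A (1 + ρ t) := (Commute.one_right A).add_right hAt
    show e * e = e
    rw [he, smul_mul_smul_comm, hc.symm.mul_mul_mul_comm, hAA, hBB, smul_mul_smul_comm, smul_smul]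
    norm_num
  have he0 : e = 0 := by
    have h1 := ((LinearMap.isProj_range_iff_isIdempotentElem e).2 hidem).trace
    have htre : LinearMap.trace ℂ (Fin n → ℂ) e = 0 := by
      rw [he, map_smul, hA, add_mul, mul_add, mul_add, one_mul, one_mul, mul_one, ← map_mul]
      simp only [map_add, htr, htr1, hinv t ht ht1, hinv _ hzt hzt1, hz4, smul_eq_mul]
      norm_num
    rw [htre] at h1
    exact LinearMap.range_eq_bot.1 (Submodule.finrank_eq_zero.1 (by exact_mod_cast h1.symm))
  have hEt : ρ t * A = (-1 : ℂ) • A := by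
    have h := (smul_eq_zero.1 he0).resolve_left (by norm_num)
    rw [mul_add, mul_one, hAt.eq] at h
    exact (eq_neg_of_add_eq_zero_right h).trans (neg_one_smul ℂ A).symm
  -- centralized elements
  have hcen : ∀ v : H D, v ∈ K D → Commute (v : G) t → (χ : G → ℂ) (v : G) = 12 := by
    intro v hv hvt
    have hval : ∀ s ∈ D.Z, s ≠ 1 → s ≠ D.z → Commute (v : G) s →
        (χ : G → ℂ) (s * (v : G)) = -4 := fun s hs hs1 hsz hvs => by
      obtain ⟨k, hk, hkz⟩ := D.conj_Z s hs hs1
      obtain ⟨h, hK⟩ := conj_mem_K D hv hs hs1 hsz hvs hk hkz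
      rw [show s * (v : G) = k * (D.z * (k⁻¹ * (v : G) * k)) * k⁻¹ by rw [← hkz]; group, hcl]
      exact hzu ⟨_, h⟩ hK
    have hvz : Commute (v : G) D.z := Subgroup.mem_centralizer_singleton_iff.1 v.2
    have h : A * (1 + ρ t) * ρ (v : G) = 0 := by
      rw [(smul_eq_zero.1 he0).resolve_left (by norm_num), zero_mul]
    rw [hA, add_mul, mul_add, mul_add, one_mul, one_mul, mul_one, ← map_mul, add_mul, add_mul,
      add_mul, one_mul, ← map_mul, ← map_mul, ← map_mul] at h
    have h' := congrArg (LinearMap.trace ℂ (Fin n → ℂ)) h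
    simp only [map_add, map_zero, htr, hzu v hv, hval t ht ht1 htz hvt,
      hval _ hzt hzt1 hztz (hvz.mul_right hvt)] at h'
    linear_combination h'
  -- inverted elements
  have hinvd : ∀ v : H D, v ∈ K D → t * (v : G) * t = (v : G)⁻¹ →
      (χ : G → ℂ) (v : G) = 12 := by
    intro v hv hvt
    have hAv : Commute A (ρ (v : G)) :=
      (Commute.one_left _).add_left ((show Commute D.z (v : G) from
        (Subgroup.mem_centralizer_singleton_iff.1 v.2).symm).map ρ)
    have h1 : ρ (v : G)⁻¹ * A = ρ (v : G) * A := by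
      rw [← hvt, map_mul, map_mul, mul_assoc, hEt, mul_smul_comm, mul_assoc, ← hAv.eq, ← mul_assoc,
        hEt, smul_mul_assoc, smul_smul, hAv.eq]
      norm_num
    have h2 : ρ ((v : G) ^ 2) * A = A := by
      rw [pow_two, map_mul, mul_assoc, ← h1, ← mul_assoc, ← map_mul, mul_inv_cancel, map_one,
        one_mul]
    have hpow : ∀ j : ℕ, ρ (((v : G) ^ 2) ^ j) * A = A := fun j => by
      induction j with
      | zero => rw [pow_zero, map_one, one_mul]
      | succ j ih => rw [pow_succ, map_mul, mul_assoc, h2, ih]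
    have hvA : ρ (v : G) * A = A := by
      obtain ⟨j, hj⟩ := (odd_of_mem_K D hv)
      have e1 : ((v : G) ^ 2) ^ (j + 1) = v := by
        rw [← pow_mul, show 2 * (j + 1) = orderOf v + 1 by omega, pow_succ,
          ← Subgroup.orderOf_coe, pow_orderOf_eq_one, one_mul]
      have := hpow (j + 1)
      rwa [e1] at this
    rw [hA, mul_add, mul_one, ← map_mul] at hvA
    have h' := congrArg (LinearMap.trace ℂ (Fin n → ℂ)) hvA
    simp only [map_add, htr, htr1, hz4] at h'
    rw [show (v : G) * D.z = D.z * (v : G) from Subgroup.mem_centralizer_singleton_iff.1 v.2,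
      hzu v hv] at h'
    linear_combination h'
  -- the decomposition
  set tH : H D := ⟨t, htH⟩
  have htH2 : tH * tH = 1 := Subtype.ext htt
  set w : H D := u⁻¹ * (tH * u * tH) with hw
  have hwK : w ∈ K D := by
    refine mul_mem (inv_mem hu) ?_
    have h := (K_normal D).conj_mem u hu tH
    rwa [inv_eq_of_mul_eq_one_left htH2] at h
  have hwinv : tH * w * tH = w⁻¹ := by
    have hti : tH⁻¹ = tH := inv_eq_of_mul_eq_one_left htH2
    rw [hw, mul_inv_rev, mul_inv_rev, mul_inv_rev, inv_inv, hti]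
    simp only [← mul_assoc]
    rw [mul_assoc _ tH tH, htH2, mul_one]
  obtain ⟨j, hj⟩ := odd_of_mem_K D hwK
  set r := w ^ (j + 1)
  have hr2 : r * r = w := by
    rw [← pow_add, show j + 1 + (j + 1) = orderOf w + 1 by omega, pow_succ, pow_orderOf_eq_one,
      one_mul]
  have hrinv : tH * r * tH = r⁻¹ := by
    calc tH * r * tH = tH * w ^ (j + 1) * tH⁻¹ := by rw [inv_eq_of_mul_eq_one_left htH2]
      _ = (tH * w * tH⁻¹) ^ (j + 1) := conj_pow.symm
      _ = r⁻¹ := by rw [inv_eq_of_mul_eq_one_left htH2, hwinv, inv_pow]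
  have hrK : r ∈ K D := pow_mem hwK _
  have hfix : tH * (u * r) * tH = u * r := by
    calc tH * (u * r) * tH = tH * u * (tH * tH) * r * tH := by rw [htH2, mul_one]; group
      _ = (u * w) * (tH * r * tH) := by rw [hw, mul_inv_cancel_left]; group
      _ = u * r := by rw [hrinv, ← hr2]; group
  have hcomm : Commute (((u * r : H D)) : G) t := by
    have h : Commute (u * r) tH := by
      show u * r * tH = tH * (u * r)
      conv_lhs => rw [← hfix]
      rw [mul_assoc _ tH tH, htH2, mul_one]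
    exact h.map (H D).subtype
  have h1 : ((u * r : H D) : G) ∈ CfsgLib.Block.kerIrr χ := by
    rw [CfsgLib.Block.mem_kerIrr, hcen _ (mul_mem hu hrK) hcomm, h12]
  have h2 : ((r : H D) : G) ∈ CfsgLib.Block.kerIrr χ := by
    rw [CfsgLib.Block.mem_kerIrr, hinvd _ hrK (congrArg Subtype.val hrinv), h12]
  have h3 := mul_mem h1 (inv_mem h2)
  rw [Subgroup.coe_mul, mul_inv_cancel_right, CfsgLib.Block.mem_kerIrr, h12] at h3
  exact h3

theorem core_eq_bot
    (hsol : ∀ {ι : Type u} [Fintype ι] (C : Sys ι), C.Solved) :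
    Cfsg.centralizerPPrimeCore 2 D.z = ⊥ := by
  classical
  obtain ⟨M, hM⟩ := CfsgLib.BlockB.exists_isPModular Nat.prime_two
  obtain ⟨-, χ, hne, h12, ha⟩ := facts_of_solved D hsol
  have hzker : ∀ s : G, orderOf s = 2 → s ∉ CfsgLib.Block.kerIrr χ := fun s hs hker => by
    obtain ⟨b, hb⟩ := isConj_iff.1 (D.conj_invol s hs)
    rw [CfsgLib.Block.mem_kerIrr, ← hb, CfsgLib.Char.irr_isClassFunction χ.2,
      coef_zval D hM (mem_principal_of_coef D hM hne), ha, h12] at hker
    norm_num at hker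
  have hodd : Odd (Nat.card (CfsgLib.Block.kerIrr χ)) := by
    rw [← Nat.not_even_iff_odd]
    intro he
    obtain ⟨s, hs, hs'⟩ := exists_invol_mem he
    exact hzker s hs' hs
  have hbot : CfsgLib.Block.kerIrr χ = ⊥ := by
    have h := le_oddCore (CfsgLib.Block.kerIrr_normal χ) hodd
    rwa [D.oddCore_eq, le_bot_iff] at h
  rw [eq_bot_iff]
  rintro g ⟨u, hu, rfl⟩
  rw [← hbot, CfsgLib.Block.mem_kerIrr, h12]
  exact core_le_ker D hM hne h12 ha hu

theorem psi_eq_one_imp_mem_T (hcore : Cfsg.centralizerPPrimeCore 2 D.z = ⊥) {g : H D}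
    (h : D.psi g = 1) : g ∈ T D := by
  have h' := (D.psi_ker g).1 h
  rwa [hcore, bot_sup_eq] at h'

theorem mCount_eq (hcore : Cfsg.centralizerPPrimeCore 2 D.z = ⊥) : mCount D = 640 := by
  classical
  set U : Finset G := Finset.univ.filter fun s => s ∈ D.Z ∧ s ≠ 1 ∧ s ≠ D.z
  have hcond : ∀ t : G, IsConj D.z (twoPart (D.z * (t * D.z * t⁻¹))) ↔ t * D.z * t⁻¹ ∈ U := by
    intro t
    set b := t * D.z * t⁻¹ with hb
    have hbo : orderOf b = 2 := by rw [hb, orderOf_conj_eq, D.hz]
    simp only [U, Finset.mem_filter, Finset.mem_univ, true_and]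
    constructor
    · intro h
      set g := D.z * b with hg
      have hinv : D.z * g * D.z⁻¹ = g⁻¹ := by
        rw [hg, mul_inv_rev, invol_inv hbo, invol_inv D.hz, ← mul_assoc D.z D.z,
          invol_mul_self D.hz, one_mul]
      have hw := inverted_facts rfl hinv
      set w := twoPart g with hwdef
      have hwo : orderOf w = 2 := (orderOf_eq_of_isConj h).trans D.hz
      have hwH : w ∈ H D := by
        rw [Subgroup.mem_centralizer_singleton_iff]
        have h1 := hw
        rw [invol_inv hwo] at h1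
        exact (mul_inv_eq_iff_eq_mul.1 h1).symm
      have hwT : (⟨w, hwH⟩ : H D) ∈ T D := psi_eq_one_imp_mem_T D hcore
        (psi_of_two D ⟨1, by rw [Subgroup.orderOf_mk, hwo, pow_one]⟩)
      have hwZ : w ∈ D.Z := (mem_Z_iff D hwT).1 (invol_mul_self hwo)
      obtain ⟨k, hk, hkz⟩ := D.conj_Z w hwZ (invol_ne_one hwo)
      have hhH : k⁻¹ * g * k ∈ H D := by
        have := mem_H_of_twoPart D (a := k⁻¹) (g := g) (by rw [← hwdef, ← hkz]; group)
        rwa [inv_inv] at this
      have hzH' : k⁻¹ * D.z * k ∈ H D := by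
        have := normalizer_Z D (inv_mem hk) D.hzZ
        rw [inv_inv] at this
        exact Z_le_H D this
      have hp : D.psi ⟨_, hhH⟩ = 1 := psi_eq_one_of_inverted D (v := ⟨_, hzH'⟩) (Subtype.ext (by
        show k⁻¹ * D.z * k * (k⁻¹ * g * k) * (k⁻¹ * D.z * k)⁻¹ = (k⁻¹ * g * k)⁻¹
        rw [show k⁻¹ * D.z * k * (k⁻¹ * g * k) * (k⁻¹ * D.z * k)⁻¹ =
          k⁻¹ * (D.z * g * D.z⁻¹) * k by group, hinv]
        group))
      have hT := psi_eq_one_imp_mem_T D hcore hp
      obtain ⟨i, hi⟩ := IsPGroup.iff_orderOf.1 D.S.2 ⟨_, hT⟩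
      rw [← Subgroup.orderOf_coe] at hi
      have h2 : twoPart (k⁻¹ * g * k⁻¹⁻¹) = k⁻¹ * g * k⁻¹⁻¹ :=
        twoPart_self ⟨i, by rw [inv_inv]; exact hi⟩
      rw [twoPart_conj] at h2
      have hgw : g = w := (mul_left_cancel (mul_right_cancel h2)).symm
      have hbeq : b = D.z * w := by
        rw [← hgw, hg, ← mul_assoc, invol_mul_self D.hz, one_mul]
      exact ⟨hbeq ▸ mul_mem D.hzZ hwZ, invol_ne_one hbo,
        fun hbz => invol_ne_one hwo (mul_eq_left.1 (hbeq.symm.trans hbz))⟩
    · rintro ⟨hbZ, -, hbz⟩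
      have hm : D.z * b ∈ D.Z := mul_mem D.hzZ hbZ
      have h1 : D.z * b ≠ 1 := fun h => hbz (by
        rw [← inv_eq_of_mul_eq_one_right h, invol_inv D.hz])
      have ho : orderOf (D.z * b) = 2 :=
        invol_of_mul_self ((mem_Z_iff D (D.shape.le hm)).2 hm) h1
      rw [twoPart_self ⟨1, by rw [ho, pow_one]⟩]
      exact D.conj_invol _ ho
  rw [mCount, Finset.filter_congr (fun t _ => hcond t),
    Finset.card_eq_sum_card_fiberwise (s := Finset.univ.filter fun t : G => t * D.z * t⁻¹ ∈ U)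
      (f := fun t : G => t * D.z * t⁻¹) (t := U)
      (fun t ht => (Finset.mem_filter.1 ht).2),
    Finset.sum_congr rfl (g := fun _ => 320) (fun s hs => ?_), Finset.sum_const, smul_eq_mul]
  · have hU : U.card = 2 := by
      obtain ⟨t, ht, ht1, htz⟩ := exists_t D
      have hzt1 : D.z * t ≠ 1 := fun h => htz (by
        rw [← inv_eq_of_mul_eq_one_right h, invol_inv D.hz])
      have hztz : D.z * t ≠ D.z := fun h => ht1 (mul_eq_left.1 h)
      rw [show U = {t, D.z * t} from Finset.ext fun s => by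
        simp only [U, Finset.mem_filter, Finset.mem_univ, true_and, Finset.mem_insert,
          Finset.mem_singleton]
        constructor
        · rintro ⟨hs, hs1, hsz⟩
          rcases Z_cases D ht ht1 htz hs with rfl | rfl | rfl | rfl
          · exact absurd rfl hs1
          · exact absurd rfl hsz
          · exact Or.inl rfl
          · exact Or.inr rfl
        · rintro (rfl | rfl)
          · exact ⟨ht, ht1, htz⟩
          · exact ⟨mul_mem D.hzZ ht, hzt1, hztz⟩]
      exact Finset.card_pair fun h => invol_ne_one D.hz (mul_eq_right.1 h.symm)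
    rw [hU]
  · obtain ⟨hsZ, hs1, -⟩ := (Finset.mem_filter.1 hs).2
    obtain ⟨k, -, hkz⟩ := D.conj_Z s hsZ hs1
    have hH : Nat.card (H D) = 320 := by
      have h := D.core_normal_card
      rwa [hcore, Subgroup.card_bot, mul_one] at h
    rw [← hH, ← Nat.card_eq_finsetCard]
    refine Nat.card_congr
      ⟨fun t => ⟨k⁻¹ * t.1, ?_⟩, fun h => ⟨k * h.1, ?_⟩,
        fun t => Subtype.ext (mul_inv_cancel_left _ _),
        fun h => Subtype.ext (inv_mul_cancel_left _ _)⟩
    · have ht := (Finset.mem_filter.1 t.2).2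
      rw [Subgroup.mem_centralizer_singleton_iff]
      refine mul_inv_eq_iff_eq_mul.1 ?_
      rw [show k⁻¹ * t.1 * D.z * (k⁻¹ * t.1)⁻¹ = k⁻¹ * (t.1 * D.z * t.1⁻¹) * k by group, ht,
        ← hkz]
      group
    · have h' : k * (h : G) * D.z * (k * (h : G))⁻¹ = s := by
        rw [show k * (h : G) * D.z * (k * (h : G))⁻¹ = k * ((h : G) * D.z * (h : G)⁻¹) * k⁻¹ by group,
          (Subgroup.mem_centralizer_singleton_iff.1 h.2 : (h : G) * D.z = D.z * h),
          mul_inv_cancel_right, hkz]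
      refine Finset.mem_filter.2 ⟨Finset.mem_filter.2 ⟨Finset.mem_univ _, ?_⟩, h'⟩
      rw [h']
      exact hs

include D in
theorem card_eq
    (hsol : ∀ {ι : Type u} [Fintype ι] (C : Sys ι), C.Solved) : Nat.card G = 62400 := by
  have h := (facts_of_solved D hsol).1
  rw [mCount_eq D (core_eq_bot D hsol)] at h
  have hG : (Nat.card G : ℚ) ≠ 0 := Nat.cast_ne_zero.2 Nat.card_pos.ne'
  field_simp at h
  have h' : (Nat.card G : ℚ) = 62400 := by push_cast at h ⊢; linarith
  exact_mod_cast h'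

end CfsgLib.Invol.UThreeFour.Chars
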