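import Cfsg.Agent.Lib.Invol.UThreeFour.LocDefs
import Cfsg.Agent.Lib.Invol.SectionChar
import Cfsg.Agent.Lib.Solvable.PCore

/-!
The centralizer `H` of an involution modulo its core: a group `S : 5` in which the elements outside
`S` have 2-part in the centre.
-/

set_option autoImplicit false
set_option linter.unusedSectionVars false
set_option linter.style.haveILetI false

namespace CfsgLib.Invol.UThreeFour.Chars

open Cfsg Subgroup

universe u

/-- The 2-part commutes with homomorphisms. -/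
theorem twoPart_map {A B : Type u} [Group A] [Finite A] [Group B] [Finite B] (f : A →* B) (x : A) :
    twoPart (f x) = f (twoPart x) := by
  obtain ⟨k, hk⟩ := exists_orderOf_twoPart x
  have hv := odd_orderOf_twoPart_inv_mul x
  set s := twoPart x
  rw [show f x = f s * f (s⁻¹ * x) by rw [← map_mul, mul_inv_cancel_left]]
  refine twoPart_mul ((((Commute.refl s).inv_right).mul_right (twoPart_commute_self x)).map f) ?_
    (hv.of_dvd_nat (orderOf_map_dvd f _))
  obtain ⟨i, -, hi⟩ := (Nat.dvd_prime_pow Nat.prime_two).1 (hk ▸ orderOf_map_dvd f s)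
  exact ⟨i, hi⟩

variable {G : Type u} [Group G] [Finite G] (D : Loc G)

/-- The centralizer of the involution. -/
abbrev H : Subgroup G := centralizer ({D.z} : Set G)

/-- Its core. -/
abbrev K : Subgroup ↥(H D) := Cfsg.pPrimeCore 2 ↥(H D)

/-- The Sylow subgroup inside it. -/
abbrev T : Subgroup ↥(H D) := (D.S : Subgroup G).subgroupOf (H D)

/-- The involution inside it. -/
abbrev zH : ↥(H D) := ⟨D.z, mem_centralizer_singleton_iff.2 rfl⟩

instance K_normal : (K D).Normal := CfsgLib.Solvable.pPrimeCore_normal 2 _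

theorem odd_card_K : Odd (Nat.card (K D)) := by
  have := CfsgLib.Solvable.pPrimeCore_coprime (G := ↥(H D)) 2
  rwa [Nat.coprime_two_right] at this

theorem odd_of_mem_K {x : H D} (hx : x ∈ K D) : Odd (orderOf x) :=
  Odd.of_dvd_nat (odd_card_K D) (orderOf_dvd_natCard _ hx)

theorem zH_sq : zH D * zH D = 1 := Subtype.ext (invol_mul_self D.hz)

theorem zH_central (x : H D) : Commute (zH D) x :=
  Subtype.ext (mem_centralizer_singleton_iff.1 x.2).symm

theorem zH_mem : zH D ∈ T D := D.shape.le D.hzZ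

theorem card_T : Nat.card (T D) = 64 :=
  (Nat.card_congr (subgroupOfEquivOfLe D.le_cent).toEquiv).trans D.shape.cardS

theorem T_inf_K {x : H D} (hT : x ∈ T D) (hK : x ∈ K D) : x = 1 := by
  have h : T D ⊓ K D = ⊥ := by
    refine (Subgroup.disjoint_of_coprime_natCard ?_).eq_bot
    rw [card_T D, show (64 : ℕ) = 2 ^ 6 from rfl]
    exact Nat.Coprime.pow_left 6 (Nat.coprime_two_left.2 (odd_card_K D))
  exact mem_bot.1 (h ▸ mem_inf.2 ⟨hT, hK⟩)

theorem psi_eq_one_iff (g : H D) : D.psi g = 1 ↔ g ∈ K D ⊔ T D := by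
  rw [D.psi_ker]
  have h : (K D ⊔ T D).map (H D).subtype =
      Cfsg.centralizerPPrimeCore 2 D.z ⊔ (D.S : Subgroup G) := by
    rw [Subgroup.map_sup, Subgroup.subgroupOf_map_subtype, inf_eq_left.2 D.le_cent]
    rfl
  rw [← h]
  exact Subgroup.mem_map_iff_mem (H D).subtype_injective

theorem psi_of_mem_K {g : H D} (hg : g ∈ K D) : D.psi g = 1 :=
  (psi_eq_one_iff D g).2 (mem_sup_left hg)

theorem psi_of_mem_T {g : H D} (hg : g ∈ T D) : D.psi g = 1 :=
  (psi_eq_one_iff D g).2 (mem_sup_right hg)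

theorem card_C5 : Nat.card (Multiplicative (ZMod 5)) = 5 :=
  (Nat.card_congr Multiplicative.toAdd).trans (Nat.card_zmod 5)

theorem pow_five (c : Multiplicative (ZMod 5)) : c ^ 5 = 1 := by
  have h := pow_card_eq_one' (G := Multiplicative (ZMod 5)) (x := c)
  rwa [card_C5] at h

theorem psi_of_two {g : H D} (hg : ∃ k : ℕ, orderOf g = 2 ^ k) : D.psi g = 1 := by
  obtain ⟨k, hk⟩ := hg
  rw [← orderOf_eq_one_iff]
  refine Nat.eq_one_of_dvd_coprimes (Nat.Coprime.pow_left k (by norm_num : Nat.Coprime 2 5))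
    (hk ▸ orderOf_map_dvd D.psi g) ?_
  have := orderOf_dvd_natCard (D.psi g)
  rwa [card_C5] at this

theorem psi_twoPart (x : H D) : D.psi x = D.psi ((twoPart x)⁻¹ * x) := by
  rw [map_mul, map_inv, psi_of_two D (exists_orderOf_twoPart x), inv_one, one_mul]

theorem exists_conj_S {g : G} (hg : ∃ k : ℕ, orderOf g = 2 ^ k) :
    ∃ a : G, a * g * a⁻¹ ∈ (D.S : Subgroup G) := by
  obtain ⟨k, hk⟩ := hg
  obtain ⟨R, hR⟩ := (IsPGroup.of_card (p := 2) (n := k) (G := Subgroup.zpowers g)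
    (by rw [Nat.card_zpowers, hk])).exists_le_sylow
  obtain ⟨a, ha⟩ := MulAction.exists_smul_eq G R D.S
  refine ⟨a, ?_⟩
  rw [← ha, Sylow.coe_subgroup_smul]
  exact Subgroup.smul_mem_pointwise_smul _ (MulAut.conj a) _ (hR (Subgroup.mem_zpowers _))

theorem exists_conj_T {x : H D} (hx : ∃ k : ℕ, orderOf x = 2 ^ k) :
    ∃ a : H D, a * x * a⁻¹ ∈ T D := by
  obtain ⟨k, hk⟩ := hx
  obtain ⟨R, hR⟩ := (IsPGroup.of_card (p := 2) (n := k) (G := Subgroup.zpowers x)
    (by rw [Nat.card_zpowers, hk])).exists_le_sylow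
  obtain ⟨a, ha⟩ := MulAction.exists_smul_eq (H D) R (D.S.subtype D.le_cent)
  refine ⟨a, ?_⟩
  show a * x * a⁻¹ ∈ ((D.S.subtype D.le_cent : Sylow 2 (H D)) : Subgroup (H D))
  rw [← ha, Sylow.coe_subgroup_smul]
  exact Subgroup.smul_mem_pointwise_smul _ (MulAut.conj a) _ (hR (Subgroup.mem_zpowers _))

theorem mem_Z_iff {s : G} (hs : s ∈ (D.S : Subgroup G)) : s * s = 1 ↔ s ∈ D.Z :=
  D.shape.invol s hs

theorem Z_cases {t u : G} (ht : t ∈ D.Z) (ht1 : t ≠ 1) (htz : t ≠ D.z) (hu : u ∈ D.Z) :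
    u = 1 ∨ u = D.z ∨ u = t ∨ u = D.z * t := by
  classical
  have := Fintype.ofFinite D.Z
  have hzt1 : D.z * t ≠ 1 := fun h => htz (by
    rw [← inv_eq_of_mul_eq_one_right h, invol_inv D.hz])
  have hcard : (({1, ⟨D.z, D.hzZ⟩, ⟨t, ht⟩, ⟨D.z * t, mul_mem D.hzZ ht⟩} : Finset D.Z)).card = 4 := by
    rw [Finset.card_insert_of_notMem, Finset.card_insert_of_notMem, Finset.card_pair]
    · exact fun h => invol_ne_one D.hz (mul_eq_right.1 (congrArg Subtype.val h).symm)
    · simp only [Finset.mem_insert, Finset.mem_singleton, not_or]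
      exact ⟨fun h => htz (congrArg Subtype.val h).symm,
        fun h => ht1 (mul_eq_left.1 (congrArg Subtype.val h).symm)⟩
    · simp only [Finset.mem_insert, Finset.mem_singleton, not_or]
      exact ⟨fun h => invol_ne_one D.hz (congrArg Subtype.val h).symm,
        fun h => ht1 (congrArg Subtype.val h).symm, fun h => hzt1 (congrArg Subtype.val h).symm⟩
  have := Finset.eq_univ_of_card _ (hcard.trans (by rw [← Nat.card_eq_fintype_card, D.shape.cardZ]))
  have hu' : (⟨u, hu⟩ : D.Z) ∈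
      ({1, ⟨D.z, D.hzZ⟩, ⟨t, ht⟩, ⟨D.z * t, mul_mem D.hzZ ht⟩} : Finset D.Z) :=
    this ▸ Finset.mem_univ _
  simpa [Subtype.ext_iff] using hu'

theorem exists_t : ∃ t ∈ D.Z, t ≠ 1 ∧ t ≠ D.z := by
  classical
  by_contra h
  push Not at h
  have := Fintype.ofFinite D.Z
  have hle : (Finset.univ : Finset D.Z) ⊆ {1, ⟨D.z, D.hzZ⟩} := fun u _ => by
    by_cases h1 : u = 1
    · simp [h1]
    · simp [Subtype.ext (h u u.2 fun e => h1 (Subtype.ext e)) (a2 := ⟨D.z, D.hzZ⟩)]
  have h2 := (Finset.card_le_card hle).trans Finset.card_le_two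
  rw [Finset.card_univ, ← Nat.card_eq_fintype_card, D.shape.cardZ] at h2
  omega

theorem exists_four : ∃ x ∈ (D.S : Subgroup G), x * x = D.z ∧ x ∉ D.Z := by
  have h : 0 < Nat.card {x : G // x ∈ (D.S : Subgroup G) ∧ x * x = D.z} := by
    rw [D.shape.fib D.z D.hzZ (invol_ne_one D.hz)]; norm_num
  obtain ⟨⟨x, hx, hxx⟩⟩ := (Nat.card_pos_iff.1 h).1
  exact ⟨x, hx, hxx, fun hZ => invol_ne_one D.hz (hxx ▸ (mem_Z_iff D hx).2 hZ)⟩

/-- A representative of the elements of order four. -/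
noncomputable def x0 : G := (exists_four D).choose

theorem x0_mem : x0 D ∈ (D.S : Subgroup G) := (exists_four D).choose_spec.1
theorem x0_sq : x0 D * x0 D = D.z := (exists_four D).choose_spec.2.1
theorem x0_not_mem : x0 D ∉ D.Z := (exists_four D).choose_spec.2.2

theorem isConj_x0 {g : G} (hg : ∃ k : ℕ, orderOf g = 2 ^ k) (h : g * g ≠ 1) :
    IsConj (x0 D) g := by
  obtain ⟨a, ha⟩ := exists_conj_S D hg
  have h' : a * g * a⁻¹ ∉ D.Z := fun hZ => h (by
    have := (mem_Z_iff D ha).2 hZ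
    rwa [show a * g * a⁻¹ * (a * g * a⁻¹) = a * (g * g) * a⁻¹ by group, conj_eq_one_iff] at this)
  exact (D.conj_four _ (x0_mem D) _ ha (x0_not_mem D) h').trans
    (isConj_iff.2 ⟨a⁻¹, by group⟩)

/-- An element centralizing an element of order four of `S` is trivial modulo `O(H) * S`. -/
theorem psi_eq_one_of_commute {v : H D} {s : G} (hs : s ∈ (D.S : Subgroup G)) (hsZ : s ∉ D.Z)
    (hc : Commute (v : G) s) : D.psi v = 1 := by
  set t := s * s
  have htZ : t ∈ D.Z := D.shape.sq_mem s hs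
  have ht1 : t ≠ 1 := fun h => hsZ ((mem_Z_iff D hs).1 h)
  by_cases htz : t = D.z
  · exact (D.psi_ker v).2 (D.cent_four s hs htz (mem_centralizer_singleton_iff.2 hc.eq))
  obtain ⟨k, hk, hkt⟩ := D.conj_Z t htZ ht1
  have hvt : Commute (v : G) t := hc.mul_right hc
  have hvz : Commute (v : G) D.z := mem_centralizer_singleton_iff.1 v.2
  have hvZ : ∀ u ∈ D.Z, (v : G) * u = u * v := fun u hu => by
    rcases Z_cases D htZ ht1 htz hu with rfl | rfl | rfl | rfl
    · simp
    · exact hvz.eq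
    · exact hvt.eq
    · exact (hvz.mul_right hvt).eq
  have hv' : k⁻¹ * (v : G) * k ∈ H D := by
    rw [mem_centralizer_singleton_iff]
    have h1 := hvt.map (MulAut.conj k⁻¹).toMonoidHom
    simp only [MulEquiv.coe_toMonoidHom, MulAut.conj_apply, inv_inv] at h1
    rw [show k⁻¹ * t * k = D.z by rw [← hkt]; group] at h1
    exact h1.eq
  rw [← D.psi_conj k⁻¹ (inv_mem hk) v ⟨_, hv'⟩ hvZ (by rw [inv_inv])]
  have hs' : k⁻¹ * s * k ∈ (D.S : Subgroup G) := by
    have := (mem_normalizer_iff.1 (inv_mem hk) s).1 hs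
    rwa [inv_inv] at this
  refine (D.psi_ker _).2 (D.cent_four _ hs' ?_ (mem_centralizer_singleton_iff.2 ?_))
  · calc k⁻¹ * s * k * (k⁻¹ * s * k) = k⁻¹ * (s * s) * k := by group
      _ = k⁻¹ * t * k := rfl
      _ = D.z := by rw [← hkt]; group
  · have h1 := hc.map (MulAut.conj k⁻¹).toMonoidHom
    simp only [MulEquiv.coe_toMonoidHom, MulAut.conj_apply, inv_inv] at h1
    exact h1.eq

/-- Outside `O(H) * S` the 2-part is an involution or trivial. -/
theorem twoPart_sq_of_psi {x : H D} (hx : D.psi x ≠ 1) : twoPart x * twoPart x = 1 := by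
  by_contra h
  obtain ⟨a, ha⟩ := exists_conj_T D (exists_orderOf_twoPart x)
  refine hx ?_
  have hc : Commute (a * x * a⁻¹) (a * twoPart x * a⁻¹) :=
    ((twoPart_commute_self x).symm).map (MulAut.conj a).toMonoidHom
  have h1 := psi_eq_one_of_commute D (v := a * x * a⁻¹) (s := ((a * twoPart x * a⁻¹ : H D) : G)) ha
    (fun hZ => h ?_) (hc.map (H D).subtype)
  · rwa [map_mul, map_mul, map_inv, mul_right_comm, mul_inv_cancel, one_mul] at h1
  · have h2 : (a * twoPart x * a⁻¹) * (a * twoPart x * a⁻¹) = 1 :=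
      Subtype.ext ((mem_Z_iff D ha).2 hZ)
    rwa [show a * twoPart x * a⁻¹ * (a * twoPart x * a⁻¹) = a * (twoPart x * twoPart x) * a⁻¹ by
      group, conj_eq_one_iff] at h2

/-! ### The quotient by the core -/

/-- The quotient. -/
abbrev Q : Type u := ↥(H D) ⧸ K D

/-- The projection. -/
abbrev q : ↥(H D) →* Q D := QuotientGroup.mk' (K D)

/-- The image of `S`. -/
abbrev Tb : Subgroup (Q D) := (T D).map (q D)

/-- The character of order five on the quotient. -/
noncomputable def psib : Q D →* Multiplicative (ZMod 5) :=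
  QuotientGroup.lift (K D) D.psi fun _ hx => psi_of_mem_K D hx

theorem psib_q (x : H D) : psib D (q D x) = D.psi x := rfl

theorem psib_eq_one_iff (y : Q D) : psib D y = 1 ↔ y ∈ Tb D := by
  obtain ⟨x, rfl⟩ := QuotientGroup.mk'_surjective (K D) y
  rw [psib_q, psi_eq_one_iff]
  constructor
  · intro h
    obtain ⟨k, hk, t, ht, rfl⟩ := mem_sup_of_normal_left.1 h
    refine ⟨t, ht, ?_⟩
    rw [map_mul, show q D k = 1 from (QuotientGroup.eq_one_iff k).2 hk, one_mul]
  · rintro ⟨t, ht, he⟩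
    rw [show x = t * (t⁻¹ * x) by group]
    exact mul_mem (mem_sup_right ht) (mem_sup_left (QuotientGroup.eq.1 he))

theorem q_injOn {a b : H D} (ha : a ∈ T D) (hb : b ∈ T D) (h : q D a = q D b) : a = b :=
  inv_mul_eq_one.1 (T_inf_K D (mul_mem (inv_mem ha) hb) (QuotientGroup.eq.1 h))

theorem Tb_normal : (Tb D).Normal := by
  rw [show Tb D = (psib D).ker from Subgroup.ext fun y => (psib_eq_one_iff D y).symm]
  exact MonoidHom.normal_ker _

/-- `S` and its image. -/
noncomputable def equivTb : T D ≃* Tb D :=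
  MulEquiv.ofBijective ((q D).subgroupMap (T D))
    ⟨fun a b h => Subtype.ext (q_injOn D a.2 b.2 (congrArg Subtype.val h)),
      (q D).subgroupMap_surjective (T D)⟩

theorem card_Tb : Nat.card (Tb D) = 64 :=
  (Nat.card_congr (equivTb D).toEquiv).symm.trans (card_T D)

theorem two_of_mem_Tb {y : Q D} (hy : y ∈ Tb D) : ∃ k : ℕ, orderOf y = 2 ^ k := by
  have h : IsPGroup 2 (Tb D) := IsPGroup.of_card (p := 2) (n := 6) (card_Tb D)
  obtain ⟨k, hk⟩ := IsPGroup.iff_orderOf.1 h ⟨y, hy⟩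
  exact ⟨k, by rwa [← Subgroup.orderOf_coe] at hk⟩

theorem card_Q : Nat.card (Q D) = 320 := by
  have h := Subgroup.card_eq_card_quotient_mul_card_subgroup (K D)
  have h2 := D.core_normal_card
  rw [show Nat.card ↥(Cfsg.centralizerPPrimeCore 2 D.z) = Nat.card (K D) from
    Subgroup.card_subtype (H D) (K D), h] at h2
  exact mul_right_cancel₀ Nat.card_pos.ne' h2

theorem twoPart_q (x : H D) : twoPart (q D x) = q D (twoPart x) := twoPart_map (q D) x

theorem odd_q_iff (x : H D) : Odd (orderOf (q D x)) ↔ Odd (orderOf x) := by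
  refine ⟨fun h => ?_, fun h => h.of_dvd_nat (orderOf_map_dvd (q D) x)⟩
  have h1 : x ^ orderOf (q D x) ∈ K D := (QuotientGroup.eq_one_iff _).1 (by
    show q D (x ^ _) = 1
    rw [map_pow, pow_orderOf_eq_one])
  exact (h.mul (odd_of_mem_K D h1)).of_dvd_nat (orderOf_dvd_of_pow_eq_one (by
    rw [pow_mul, pow_orderOf_eq_one]))

/-- The image of `Z`. -/
abbrev Zb : Subgroup (Q D) := ((D.Z).subgroupOf (H D)).map (q D)

theorem Z_le_H : D.Z ≤ H D := D.shape.le.trans D.le_cent

theorem card_Zb : Nat.card (Zb D) = 4 := by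
  rw [← D.shape.cardZ, ← Nat.card_congr (subgroupOfEquivOfLe (Z_le_H D)).toEquiv]
  refine (Nat.card_congr (Equiv.ofBijective ((q D).subgroupMap ((D.Z).subgroupOf (H D)))
    ⟨fun a b h => ?_, (q D).subgroupMap_surjective _⟩)).symm
  exact Subtype.ext (q_injOn D (a := (a : H D)) (b := (b : H D)) (D.shape.le a.2) (D.shape.le b.2)
    (congrArg Subtype.val h))

theorem Zb_le_Tb : Zb D ≤ Tb D := Subgroup.map_mono fun _ h => D.shape.le h

theorem twoPart_mem_Zb {y : Q D} (hy : psib D y ≠ 1) : twoPart y ∈ Zb D := by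
  obtain ⟨x, rfl⟩ := QuotientGroup.mk'_surjective (K D) y
  rw [psib_q] at hy
  have h2 := twoPart_sq_of_psi D hy
  rw [twoPart_q]
  have hT : q D (twoPart x) ∈ Tb D := by
    rw [← psib_eq_one_iff, psib_q]
    exact psi_of_two D (exists_orderOf_twoPart x)
  obtain ⟨t, ht, hte⟩ := hT
  refine ⟨t, ?_, hte⟩
  have htt : t * t = 1 := q_injOn D (mul_mem ht ht) (one_mem _) (by
    rw [map_mul, map_one, hte, ← map_mul, h2, map_one])
  exact (mem_Z_iff D ht).1 (congrArg Subtype.val htt)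

theorem exists_normalizer_mul (x : H D) :
    ∃ u ∈ K D, ∃ n : H D, (n : G) ∈ normalizer ((D.S : Subgroup G) : Set G) ∧ x = u * n := by
  set N : Subgroup (H D) := (normalizer ((D.S : Subgroup G) : Set G)).subgroupOf (H D)
  have htop : K D ⊔ N = ⊤ := by
    rw [eq_top_iff]
    intro y _
    have h := D.cent_le y.2
    rw [show Cfsg.centralizerPPrimeCore 2 D.z ⊔
        (normalizer ((D.S : Subgroup G) : Set G) ⊓ H D) = (K D ⊔ N).map (H D).subtype by
      rw [Subgroup.map_sup, Subgroup.subgroupOf_map_subtype]; rfl] at h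
    exact (Subgroup.mem_map_iff_mem (H D).subtype_injective).1 h
  obtain ⟨u, hu, n, hn, rfl⟩ := mem_sup_of_normal_left.1 (htop ▸ mem_top x : x ∈ K D ⊔ N)
  exact ⟨u, hu, n, hn, rfl⟩

/-- The image of `Z` is central. -/
theorem Zb_central {ζ : Q D} (hζ : ζ ∈ Zb D) (y : Q D) : Commute ζ y := by
  obtain ⟨t, ht, rfl⟩ := hζ
  obtain ⟨x, rfl⟩ := QuotientGroup.mk'_surjective (K D) y
  obtain ⟨u, hu, n, hn, rfl⟩ := exists_normalizer_mul D x
  rw [map_mul, show q D u = 1 from (QuotientGroup.eq_one_iff u).2 hu, one_mul]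
  suffices h : Commute t n from h.map (q D)
  have hnZ : ∀ {v : G}, v ∈ D.Z → (n : G) * v * (n : G)⁻¹ ∈ D.Z := fun {v} hv => by
    refine (mem_Z_iff D ((mem_normalizer_iff.1 hn v).1 (D.shape.le hv))).1 ?_
    have h1 := (mem_Z_iff D (D.shape.le hv)).2 hv
    calc (n : G) * v * (n : G)⁻¹ * ((n : G) * v * (n : G)⁻¹) = n * (v * v) * (n : G)⁻¹ := by group
      _ = 1 := by rw [h1]; group
  have hnz : (n : G) * D.z * (n : G)⁻¹ = D.z := by
    rw [(mem_centralizer_singleton_iff.1 n.2 : (n : G) * D.z = D.z * n), mul_inv_cancel_right]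
  refine Subtype.ext ?_
  show (t : G) * n = n * t
  by_cases ht1 : (t : G) = 1
  · rw [ht1]; simp
  by_cases htz : (t : G) = D.z
  · rw [htz]; exact (mem_centralizer_singleton_iff.1 n.2).symm
  by_contra hne
  have himg : (n : G) * t * (n : G)⁻¹ = D.z * t := by
    rcases Z_cases D ht ht1 htz (hnZ ht) with h | h | h | h
    · exact absurd (conj_eq_one_iff.1 h) ht1
    · rw [← hnz] at h
      exact absurd (mul_left_cancel (mul_right_cancel h)) htz
    · exact absurd (mul_inv_eq_iff_eq_mul.1 h).symm hne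
    · exact h
  have hpow : ∀ j : ℕ, (n : G) ^ (2 * j + 1) * t * ((n : G) ^ (2 * j + 1))⁻¹ = D.z * t := by
    intro j
    induction j with
    | zero => simpa using himg
    | succ j ih =>
      calc (n : G) ^ (2 * (j + 1) + 1) * t * ((n : G) ^ (2 * (j + 1) + 1))⁻¹
          = n * (n * ((n : G) ^ (2 * j + 1) * t * ((n : G) ^ (2 * j + 1))⁻¹) * (n : G)⁻¹) *
              (n : G)⁻¹ := by group
        _ = n * ((n * D.z * (n : G)⁻¹) * (n * t * (n : G)⁻¹)) * (n : G)⁻¹ := by rw [ih]; group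
        _ = n * t * (n : G)⁻¹ := by
          conv_lhs => rw [hnz, himg, ← mul_assoc D.z, invol_mul_self D.hz, one_mul]
        _ = D.z * t := himg
  have h5 : D.psi (n ^ 5) = 1 := by
    rw [map_pow]
    exact pow_five _
  obtain ⟨u', hu', s, hs, hus⟩ := mem_sup_of_normal_left.1 ((psi_eq_one_iff D _).1 h5)
  have hst : (s : G) * t * (s : G)⁻¹ = t :=
    mul_inv_eq_iff_eq_mul.2 ((D.shape.cen t ht s hs).symm)
  have hkey : u' * t * u'⁻¹ = zH D * t := Subtype.ext (by
    have h1 := hpow 2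
    rw [show (n : G) ^ (2 * 2 + 1) = (u' : G) * s by
      show ((n ^ 5 : H D) : G) = _
      rw [← hus]
      rfl] at h1
    rw [show (u' : G) * s * t * ((u' : G) * s)⁻¹ = u' * ((s : G) * t * (s : G)⁻¹) * (u' : G)⁻¹ by
      group, hst] at h1
    exact h1)
  have h2 : zH D ∈ K D := by
    rw [show zH D = u' * (t * u'⁻¹ * t⁻¹) by
      rw [← mul_inv_cancel_right (zH D) t, ← hkey]; group]
    exact mul_mem hu' ((K_normal D).conj_mem _ (inv_mem hu') t)
  exact invol_ne_one D.hz (congrArg Subtype.val (T_inf_K D (zH_mem D) h2))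

/-- The constrained quotient. -/
theorem quot_constrained :
    centralizer (Cfsg.pCore 2 (Q D) : Set (Q D)) ≤ Cfsg.pCore 2 (Q D) := by
  have hle : Tb D ≤ Cfsg.pCore 2 (Q D) :=
    CfsgLib.Solvable.le_pCore (Tb_normal D) (IsPGroup.of_card (p := 2) (n := 6) (card_Tb D))
  intro y hy
  refine hle ((psib_eq_one_iff D y).1 ?_)
  by_contra hne
  have hs : q D ⟨x0 D, D.le_cent (x0_mem D)⟩ ∈ Tb D := mem_map_of_mem (q D) (x0_mem D)
  set s := q D ⟨x0 D, D.le_cent (x0_mem D)⟩
  have hyc : Commute s y := mem_centralizer_iff.1 hy s (hle hs)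
  -- the product with the odd part
  set v := (twoPart y)⁻¹ * y
  have hv : Commute s v := ((twoPart_commute hyc.symm).symm).inv_right.mul_right hyc
  have hs2 := two_of_mem_Tb D hs
  have hpv : psib D (s * v) ≠ 1 := by
    rw [map_mul, (psib_eq_one_iff D s).2 hs, one_mul]
    intro h
    refine hne ?_
    rw [show y = twoPart y * v by rw [mul_inv_cancel_left], map_mul, h, mul_one]
    obtain ⟨x, rfl⟩ := QuotientGroup.mk'_surjective (K D) y
    rw [twoPart_q, psib_q, psi_of_two D (exists_orderOf_twoPart x)]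
  have h := twoPart_mem_Zb D hpv
  rw [twoPart_mul hv hs2 (odd_orderOf_twoPart_inv_mul y)] at h
  obtain ⟨t, ht, hte⟩ := h
  have := q_injOn D (b := ⟨x0 D, D.le_cent (x0_mem D)⟩) (D.shape.le ht) (x0_mem D) hte
  exact x0_not_mem D (this ▸ ht : ((⟨x0 D, D.le_cent (x0_mem D)⟩ : H D) : G) ∈ D.Z)

/-- The odd elements of the cosets of `S`. -/
theorem card_odd_coset {c : Multiplicative (ZMod 5)} (hc : c ≠ 1) :
    Nat.card {y : Q D // Odd (orderOf y) ∧ psib D y = c} = 16 := by
  have hcoset : Nat.card {y : Q D // psib D y = c} = 64 := by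
    obtain ⟨x, hx⟩ := D.psi_surj c
    rw [← card_Tb D]
    refine Nat.card_congr
      { toFun := fun y => ⟨(q D x)⁻¹ * y.1, ?_⟩
        invFun := fun t => ⟨q D x * t.1, ?_⟩
        left_inv := fun y => Subtype.ext (mul_inv_cancel_left _ _)
        right_inv := fun t => Subtype.ext (inv_mul_cancel_left _ _) }
    · rw [← psib_eq_one_iff, map_mul, map_inv, psib_q, hx, y.2, inv_mul_cancel]
    · rw [map_mul, psib_q, hx, (psib_eq_one_iff D _).2 t.2, mul_one]
  let e : {y : Q D // psib D y = c} ≃ Zb D × {y : Q D // Odd (orderOf y) ∧ psib D y = c} :=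
    { toFun := fun y => (⟨twoPart y.1, twoPart_mem_Zb D (by rw [y.2]; exact hc)⟩,
        ⟨(twoPart y.1)⁻¹ * y.1, odd_orderOf_twoPart_inv_mul _, by
          rw [map_mul, map_inv, (psib_eq_one_iff D _).2
            (Zb_le_Tb D (twoPart_mem_Zb D (by rw [y.2]; exact hc))), inv_one, one_mul, y.2]⟩)
      invFun := fun w => ⟨w.1.1 * w.2.1, by
        rw [map_mul, (psib_eq_one_iff D _).2 (Zb_le_Tb D w.1.2), one_mul, w.2.2.2]⟩
      left_inv := fun y => Subtype.ext (mul_inv_cancel_left _ _)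
      right_inv := fun w => by
        have h2 : ∃ k : ℕ, orderOf (w.1.1) = 2 ^ k :=
          two_of_mem_Tb D (Zb_le_Tb D w.1.2)
        have h := twoPart_mul (Zb_central D w.1.2 w.2.1) h2 w.2.2.1
        refine Prod.ext (Subtype.ext h) (Subtype.ext ?_)
        show (twoPart (w.1.1 * w.2.1))⁻¹ * (w.1.1 * w.2.1) = w.2.1
        rw [h, inv_mul_cancel_left] }
  have h := Nat.card_congr e
  rw [Nat.card_prod, card_Zb, hcoset] at h
  omega

theorem card_odd_one : Nat.card {y : Q D // Odd (orderOf y) ∧ psib D y = 1} = 1 := by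
  rw [Nat.card_eq_one_iff_exists]
  refine ⟨⟨1, by simp, map_one _⟩, fun y => Subtype.ext ?_⟩
  obtain ⟨k, hk⟩ := two_of_mem_Tb D ((psib_eq_one_iff D _).1 y.2.2)
  exact orderOf_eq_one_iff.1 (Nat.eq_one_of_dvd_coprimes
    ((Nat.coprime_two_left.2 y.2.1).pow_left k) (hk ▸ dvd_rfl) dvd_rfl)

theorem card_preimage (P : Q D → Prop) :
    Nat.card {v : H D // P (q D v)} = Nat.card (K D) * Nat.card {y : Q D // P y} := by
  rw [← Nat.card_prod]
  exact Nat.card_congr (QuotientGroup.preimageMkEquivSubgroupProdSet (K D) {y | P y})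

open Classical in
/-- The fibre of the involution on a coset of `O(H) * S`. -/
theorem card_fib_psi (c : Multiplicative (ZMod 5)) :
    Nat.card {x : H D // twoPart x = zH D ∧ D.psi x = c} =
      Nat.card (K D) * if c = 1 then 1 else 16 := by
  have hz2 : ∃ k : ℕ, orderOf (zH D) = 2 ^ k := ⟨1, by
    rw [← Subgroup.orderOf_coe]; exact D.hz.trans (pow_one 2).symm⟩
  rw [show (if c = 1 then 1 else 16) = Nat.card {y : Q D // Odd (orderOf y) ∧ psib D y = c} by
    split_ifs with h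
    · rw [h, card_odd_one]
    · rw [card_odd_coset D h],
    ← card_preimage D (fun y => Odd (orderOf y) ∧ psib D y = c)]
  refine Nat.card_congr
    { toFun := fun x => ⟨zH D * x.1, ?_, ?_⟩
      invFun := fun v => ⟨zH D * v.1, ?_, ?_⟩
      left_inv := fun x => Subtype.ext (by simp [← mul_assoc, zH_sq])
      right_inv := fun v => Subtype.ext (by simp [← mul_assoc, zH_sq]) }
  · rw [odd_q_iff]
    have h := odd_orderOf_twoPart_inv_mul x.1
    rwa [x.2.1, inv_eq_of_mul_eq_one_left (zH_sq D)] at h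
  · rw [psib_q, map_mul, psi_of_mem_T D (zH_mem D), one_mul, x.2.2]
  · exact twoPart_mul (zH_central D _) hz2 ((odd_q_iff D _).1 v.2.1)
  · rw [map_mul, psi_of_mem_T D (zH_mem D), one_mul, ← psib_q, v.2.2]

/-- The elements whose 2-part squares to the involution. -/
theorem card_sq_fib : Nat.card {x : H D // twoPart x * twoPart x = zH D} = 20 * Nat.card (K D) := by
  have key : ∀ x : H D, twoPart x * twoPart x = zH D ↔
      q D x ∈ Tb D ∧ q D x * q D x = q D (zH D) := by
    intro x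
    obtain ⟨i, hi⟩ := exists_orderOf_twoPart x
    constructor
    · intro h
      have hps : D.psi x = 1 := by
        by_contra hne
        rw [twoPart_sq_of_psi D hne] at h
        exact invol_ne_one D.hz (congrArg Subtype.val h).symm
      have hT : q D x ∈ Tb D := (psib_eq_one_iff D _).1 hps
      refine ⟨hT, ?_⟩
      obtain ⟨k, hk⟩ := two_of_mem_Tb D hT
      rw [← twoPart_self ⟨k, hk⟩, twoPart_q, ← map_mul, h]
    · rintro ⟨hT, hsq⟩
      obtain ⟨k, hk⟩ := two_of_mem_Tb D hT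
      rw [← twoPart_self ⟨k, hk⟩, twoPart_q, ← map_mul] at hsq
      set w := twoPart x
      obtain ⟨a, ha⟩ := exists_conj_T D ⟨i, hi⟩
      have hw4 : (w * w) * (w * w) = 1 := by
        have h1 : (((a * w * a⁻¹ : H D) : G) * (a * w * a⁻¹ : H D)) *
            (((a * w * a⁻¹ : H D) : G) * (a * w * a⁻¹ : H D)) = 1 :=
          (mem_Z_iff D (mul_mem ha ha)).2 (D.shape.sq_mem _ ha)
        have h2 : a * ((w * w) * (w * w)) * a⁻¹ = 1 := Subtype.ext (by
          show _ = (1 : G)
          rw [← h1]; push_cast; group)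
        exact conj_eq_one_iff.1 h2
      have hm : (zH D) * (w * w) ∈ K D := by
        have h1 := (QuotientGroup.eq.1 hsq.symm)
        rwa [inv_eq_of_mul_eq_one_left (zH_sq D)] at h1
      have h2 : (zH D * (w * w)) * (zH D * (w * w)) = 1 := by
        rw [((zH_central D (w * w)).symm).mul_mul_mul_comm, zH_sq, hw4, one_mul]
      have h3 : zH D * (w * w) = 1 := by
        rw [← orderOf_eq_one_iff]
        refine Nat.eq_one_of_dvd_coprimes (Nat.coprime_two_left.2 (odd_of_mem_K D hm))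
          (orderOf_dvd_of_pow_eq_one ?_) dvd_rfl
        rw [pow_two, h2]
      rw [← inv_eq_of_mul_eq_one_right h3, inv_eq_of_mul_eq_one_left (zH_sq D)]
  rw [Nat.card_congr (Equiv.subtypeEquivRight key), card_preimage D
    (fun y => y ∈ Tb D ∧ y * y = q D (zH D)), mul_comm]
  congr 1
  rw [← D.shape.fib D.z D.hzZ (invol_ne_one D.hz)]
  symm
  refine Nat.card_congr (Equiv.ofBijective (fun x => ⟨q D ⟨x.1, D.le_cent x.2.1⟩,
    mem_map_of_mem (q D) x.2.1, by
      rw [← map_mul]; congr 1; exact Subtype.ext x.2.2⟩) ⟨fun a b h => ?_, fun y => ?_⟩)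
  · exact Subtype.ext (congrArg (fun w : H D => (w : G)) (q_injOn D (a := ⟨a.1, D.le_cent a.2.1⟩)
      (b := ⟨b.1, D.le_cent b.2.1⟩) a.2.1 b.2.1 (congrArg Subtype.val h)) :)
  · obtain ⟨t, ht, hte⟩ := y.2.1
    refine ⟨⟨(t : G), ht, congrArg Subtype.val (q_injOn D (a := t * t) (b := zH D) (mul_mem ht ht)
      (zH_mem D) (by rw [map_mul, hte]; exact y.2.2))⟩, Subtype.ext hte⟩

/-! ### The centralizer of an element of order four -/

theorem cent_four_facts :
    ∃ N : Subgroup ↥(centralizer ({x0 D} : Set G)), N.Normal ∧ Odd (Nat.card N) ∧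
      (∀ v, Odd (orderOf v) → v ∈ N) ∧
      Nat.card ↥(centralizer ({x0 D} : Set G)) = 16 * Nat.card N := by
  have hle : centralizer ({x0 D} : Set G) ≤ H D := fun g hg => by
    rw [mem_centralizer_singleton_iff] at hg ⊢
    rw [← x0_sq D]
    exact ((show Commute g (x0 D) from hg).mul_right hg).eq
  set φ := (q D).comp (Subgroup.inclusion hle) with hφ
  have hrange : φ.range ≤ Tb D := by
    rintro _ ⟨v, rfl⟩
    rw [← psib_eq_one_iff]
    exact psi_eq_one_of_commute D (v := Subgroup.inclusion hle v) (x0_mem D) (x0_not_mem D)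
      (mem_centralizer_singleton_iff.1 v.2)
  set C := (D.S : Subgroup G) ⊓ centralizer ({x0 D} : Set G)
  have hcard : Nat.card φ.range = 16 := by
    rw [← D.shape.cent16 (x0 D) (x0_mem D) (x0_not_mem D)]
    symm
    refine Nat.card_congr (Equiv.ofBijective (fun t => ⟨φ ⟨t.1, t.2.2⟩, ⟨t.1, t.2.2⟩, rfl⟩)
      ⟨fun a b h => ?_, fun y => ?_⟩)
    · exact Subtype.ext (congrArg (fun w : H D => (w : G)) (q_injOn D (a := ⟨a.1, hle a.2.2⟩)
        (b := ⟨b.1, hle b.2.2⟩) a.2.1 b.2.1 (congrArg Subtype.val h)) :)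
    · obtain ⟨t, ht, hte⟩ := hrange y.2
      obtain ⟨v, hv⟩ := y.2
      set xH : H D := ⟨x0 D, D.le_cent (x0_mem D)⟩
      have hc : Commute (q D xH) (q D t) := by
        rw [show q D t = φ v from hte.trans hv.symm]
        exact Commute.map (Subtype.ext (mem_centralizer_singleton_iff.1 v.2).symm :
          Commute xH (Subgroup.inclusion hle v)) (q D)
      have h1 : xH * t = t * xH := q_injOn D (mul_mem (x0_mem D) ht) (mul_mem ht (x0_mem D)) (by
        rw [map_mul, map_mul, hc.eq])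
      exact ⟨⟨(t : G), ht, mem_centralizer_singleton_iff.2 (congrArg Subtype.val h1).symm⟩,
        Subtype.ext hte⟩
  refine ⟨φ.ker, inferInstance, ?_, fun v hv => ?_, ?_⟩
  · refine (odd_card_K D).of_dvd_nat ?_
    refine (dvd_of_eq (Nat.card_congr (Subgroup.equivMapOfInjective φ.ker (Subgroup.inclusion hle)
      (Subgroup.inclusion_injective hle)).toEquiv)).trans (Subgroup.card_dvd_of_le ?_)
    rintro _ ⟨v, hv, rfl⟩
    exact (QuotientGroup.eq_one_iff _).1 (MonoidHom.mem_ker.1 hv)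
  · obtain ⟨k, hk⟩ := two_of_mem_Tb D (hrange ⟨v, rfl⟩)
    exact MonoidHom.mem_ker.2 (orderOf_eq_one_iff.1 (Nat.eq_one_of_dvd_coprimes
      ((Nat.coprime_two_left.2 hv).pow_left k) (hk ▸ dvd_rfl) (orderOf_map_dvd φ v)))
  · rw [← φ.ker.index_mul_card, Subgroup.index_ker, hcard]

theorem twoPart_fib_four {v : centralizer ({x0 D} : Set G)} (hv : Odd (orderOf v)) :
    twoPart (x0 D * (v : G)) = x0 D :=
  twoPart_mul (mem_centralizer_singleton_iff.1 v.2 : (v : G) * x0 D = x0 D * v).symm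
    (IsPGroup.iff_orderOf.1 D.S.2 ⟨x0 D, x0_mem D⟩ |>.imp fun k hk => by
      rwa [← Subgroup.orderOf_coe] at hk) (by rwa [Subgroup.orderOf_coe])

theorem x0_two : ∃ k : ℕ, orderOf (x0 D) = 2 ^ k :=
  IsPGroup.iff_orderOf.1 D.S.2 ⟨x0 D, x0_mem D⟩ |>.imp fun k hk => by
    rwa [← Subgroup.orderOf_coe] at hk

theorem cent_four_complement :
    Cfsg.HasNormalPComplement 2 ↥(centralizer ({x0 D} : Set G)) ∧
      (Nat.card ↥(centralizer ({x0 D} : Set G))).factorization 2 = 4 := by
  obtain ⟨N, hN, hodd, -, hcard⟩ := cent_four_facts D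
  have hf : (Nat.card ↥(centralizer ({x0 D} : Set G))).factorization 2 = 4 := by
    rw [hcard, Nat.factorization_mul (by norm_num) Nat.card_pos.ne', Finsupp.add_apply,
      Nat.factorization_eq_zero_of_not_dvd fun h => Nat.not_even_iff_odd.2 hodd (even_iff_two_dvd.2 h),
      add_zero, show (16 : ℕ) = 2 ^ 4 from rfl, Nat.Prime.factorization_pow Nat.prime_two,
      Finsupp.single_eq_same]
  obtain ⟨P⟩ : Nonempty (Sylow 2 ↥(centralizer ({x0 D} : Set G))) := inferInstance
  have hP : Nat.card (P : Subgroup ↥(centralizer ({x0 D} : Set G))) = 16 := by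
    rw [P.card_eq_multiplicity, hf]; norm_num
  refine ⟨⟨P, N, hN, Subgroup.isComplement'_of_coprime (by rw [hP, hcard, mul_comm]) ?_⟩, hf⟩
  rw [hP, show (16 : ℕ) = 2 ^ 4 from rfl]
  exact (Nat.coprime_two_left.2 hodd).symm.pow_right 4

end CfsgLib.Invol.UThreeFour.Chars
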