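import Cfsg.Agent.Lib.Invol.UThreeFour.CharsSums
import Cfsg.Agent.Lib.BlockA.InvolutionFS
import Cfsg.Agent.Lib.BlockB.GaloisAvg
import Cfsg.Agent.Lib.Block.DegreeAux
import Cfsg.Agent.Lib.BlockB.PModular

/-!
Galois conjugation of the coefficient vectors and the conditions on a single row.
-/

set_option autoImplicit false
set_option linter.unusedSectionVars false
set_option maxHeartbeats 1000000

namespace CfsgLib.Invol.UThreeFour.Chars

open Cfsg
open scoped ComplexConjugate

universe u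

variable {G : Type u} [Group G] [Fintype G] (D : Loc G)

/-! ### Symmetries -/

/-- The index permutation of `galShift`. -/
def sigma : Fin 6 → Fin 6 := ![0, 2, 4, 1, 3, 5]

theorem galShift_eq (v : Fin 6 → ℤ) (i : Fin 6) : galShift v i = v (sigma i) := by
  fin_cases i <;> rfl

include D in
theorem five_dvd_card : 5 ∣ Nat.card G :=
  (Dvd.intro_left 64 rfl : 5 ∣ 64 * 5).trans <| by
    refine (Dvd.intro (Nat.card ↥(Cfsg.centralizerPPrimeCore 2 D.z)) ?_).trans
      (Subgroup.card_subgroup_dvd_card (H D))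
    rw [D.core_normal_card]

include D in
theorem exists_exponents : ∃ s t : ℕ, s.Coprime (Nat.card G) ∧ t.Coprime (Nat.card G) ∧
    (s : ZMod 5) = 2 ∧ ∀ g : G, (g ^ s) ^ t = g := by
  have := NeZero.of_pos (Nat.card_pos (α := G))
  obtain ⟨u, hu⟩ := ZMod.unitsMap_surjective (five_dvd_card D)
    (ZMod.unitOfCoprime 2 (by norm_num : Nat.Coprime 2 5))
  refine ⟨(u : ZMod (Nat.card G)).val, ((u⁻¹ : (ZMod (Nat.card G))ˣ) : ZMod (Nat.card G)).val,
    ZMod.val_coe_unit_coprime u, ZMod.val_coe_unit_coprime u⁻¹, ?_, fun g => ?_⟩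
  · have h := congrArg Units.val hu
    rw [ZMod.unitsMap_val, ZMod.coe_unitOfCoprime] at h
    rw [ZMod.natCast_val]
    exact_mod_cast h
  · rw [← pow_mul]
    conv_rhs => rw [← pow_one g]
    rw [pow_eq_pow_iff_modEq]
    refine Nat.ModEq.of_dvd (orderOf_dvd_natCard g) ?_
    rw [← ZMod.natCast_eq_natCast_iff, Nat.cast_mul, ZMod.natCast_zmod_val, ZMod.natCast_zmod_val,
      ← Units.val_mul, mul_inv_cancel, Units.val_one, Nat.cast_one]

theorem chr_pow (k : ZMod 5) (c : Multiplicative (ZMod 5)) (n : ℕ) :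
    chr k (c ^ n) = chr (k * n) c := by
  rw [chr, chr, toAdd_pow, nsmul_eq_mul, mul_assoc]

theorem fFun_pow {s : ℕ} (hs : (s : ZMod 5) = 2) (i : Fin 6) (c : Multiplicative (ZMod 5)) :
    fFun i (c ^ s) = fFun (sigma i) c := by
  have hc : c ^ s = 1 ↔ c = 1 := by
    refine ⟨fun h => ?_, fun h => by rw [h, one_pow]⟩
    have h2 : (2 : ZMod 5) * Multiplicative.toAdd c = 0 := by
      rw [← hs, ← nsmul_eq_mul, ← toAdd_pow, h, toAdd_one]
    exact toAdd_eq_zero.1 ((by decide : ∀ x : ZMod 5, 2 * x = 0 → x = 0) _ h2)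
  fin_cases i <;> simp +decide [fFun, sigma, chr_pow, hs, hc] <;> rfl

theorem eFun_sigma (i : Fin 6) : eFun (sigma i) = eFun i := by
  fin_cases i <;> simp +decide [eFun, sigma]

theorem twoPart_pow_coprime {A : Type u} [Group A] [Finite A] (g : A) {s : ℕ} :
    twoPart (g ^ s) = twoPart g ^ s := by
  set w := twoPart g
  have hc : Commute w (w⁻¹ * g) := (Commute.refl w).inv_right.mul_right (twoPart_commute_self g)
  conv_lhs => rw [← mul_inv_cancel_left w g, hc.mul_pow]
  refine twoPart_mul (hc.pow_pow s s) ?_ ((odd_orderOf_twoPart_inv_mul g).of_dvd_nat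
    (orderOf_pow_dvd s))
  obtain ⟨k, hk⟩ := exists_orderOf_twoPart g
  obtain ⟨j, -, hj⟩ := (Nat.dvd_prime_pow Nat.prime_two).1
    (hk ▸ (orderOf_pow_dvd s : orderOf (w ^ s) ∣ orderOf w))
  exact ⟨j, hj⟩

theorem F_pow {s : ℕ} (hs : s.Coprime (Nat.card G)) (hs5 : (s : ZMod 5) = 2) (i : Fin 6) (g : G) :
    F D i (g ^ s) = F D (sigma i) g := by
  have hinj : ∀ w : G, w ^ s = 1 → w = 1 := fun w hw =>
    (powCoprime hs.symm).injective (by simpa using hw)
  by_cases h1 : twoPart g = 1
  · rw [F, F, Sec_of_twoPart_one D _ _ h1,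
      Sec_of_twoPart_one D _ _ (by rw [twoPart_pow_coprime, h1, one_pow])]
  by_cases h2 : twoPart g * twoPart g = 1
  · obtain ⟨a, ha⟩ := exists_conj_z D h2 h1
    have hodd : Odd s := by
      rw [← Nat.not_even_iff_odd]
      intro he
      refine h1 (hinj _ ?_)
      obtain ⟨j, rfl⟩ := he
      rw [← two_mul, pow_mul, pow_two, h2, one_pow]
    have ha' : a * twoPart (g ^ s) * a⁻¹ = D.z := by
      rw [twoPart_pow_coprime, ← conj_pow, ha]
      obtain ⟨j, rfl⟩ := hodd
      rw [pow_succ, pow_mul, pow_two, invol_mul_self D.hz, one_pow, one_mul]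
    rw [F, F, Sec_eq D _ _ ha, Sec_eq D _ _ ha',
      show (⟨a * g ^ s * a⁻¹, mem_H_of_twoPart D ha'⟩ : H D) =
        ⟨a * g * a⁻¹, mem_H_of_twoPart D ha⟩ ^ s from Subtype.ext (by
          rw [SubmonoidClass.coe_pow, conj_pow]), map_pow, fFun_pow hs5]
  · rw [F, F, Sec_of_four D _ _ h2, Sec_of_four D, eFun_sigma]
    intro h
    rw [twoPart_pow_coprime, ← ((Commute.refl (twoPart g)).mul_pow s)] at h
    exact h2 (hinj _ h)

theorem coef_gal {s t : ℕ} (hs : s.Coprime (Nat.card G)) (hs5 : (s : ZMod 5) = 2)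
    (ht : t.Coprime (Nat.card G)) (hst : ∀ g : G, (g ^ s) ^ t = g) (χ : IrrCharacter G) :
    coef D (CfsgLib.BlockB.galIrr ht χ) = galShift (coef D χ) := by
  funext i
  rw [galShift_eq]
  have h := coef_spec D (CfsgLib.BlockB.galIrr ht χ) i
  rw [← CfsgLib.BlockA.classInner_comp_pow hs,
    show (fun g => F D i (g ^ s)) = F D (sigma i) from funext fun g => F_pow D hs hs5 i g,
    show (fun g => ((CfsgLib.BlockB.galIrr ht χ : IrrCharacter G) : G → ℂ) (g ^ s)) = (χ : G → ℂ) from
      funext fun g => congrArg (χ : G → ℂ) (hst g), coef_spec] at h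
  exact_mod_cast h.symm

theorem fsInd_gal {t : ℕ} (ht : t.Coprime (Nat.card G))
    (χ : IrrCharacter G) :
    CfsgLib.BlockB.fsInd (CfsgLib.BlockB.galIrr ht χ) = CfsgLib.BlockB.fsInd χ := by
  unfold CfsgLib.BlockB.fsInd
  congr 1
  refine Fintype.sum_equiv (powCoprime ht.symm) _ _ fun g => ?_
  show (χ : G → ℂ) ((g * g) ^ t) = _
  rw [(Commute.refl g).mul_pow]
  rfl

/-- Complex conjugation. -/
noncomputable def conjChar (χ : IrrCharacter G) : IrrCharacter G :=
  ⟨fun g => conj ((χ : G → ℂ) g), CfsgLib.Char.isIrrCharacter_conj χ.2⟩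

theorem conjChar_conjChar (χ : IrrCharacter G) : conjChar (conjChar χ) = χ :=
  Subtype.ext (funext fun g => Complex.conj_conj _)

theorem conj_fFun (i : Fin 6) (c : Multiplicative (ZMod 5)) :
    conj (fFun i c) = fFun (sigma (sigma i)) c := by
  have h20 : conj (open Classical in if c = 1 then (20 : ℂ) else 0) =
      (open Classical in if c = 1 then (20 : ℂ) else 0) := by
    split_ifs <;> first | exact map_ofNat _ _ | exact map_zero _
  fin_cases i <;>
    simp +decide [fFun, sigma, conj_chr, map_sub, map_mul, map_ofNat, h20] <;> rfl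

theorem coef_conj (χ : IrrCharacter G) :
    coef D (conjChar χ) = galShift (galShift (coef D χ)) := by
  funext i
  rw [galShift_eq, galShift_eq]
  have h := congrArg (starRingEnd ℂ) (coef_spec D (conjChar χ) i)
  rw [CfsgLib.Char.classInner_def, map_intCast, map_mul, map_inv₀, Complex.conj_natCast, map_sum] at h
  have h2 : ∀ g, conj (F D i g) = F D (sigma (sigma i)) g := fun g => by
    have he : eFun (sigma (sigma i)) = eFun i := by rw [eFun_sigma, eFun_sigma]
    by_cases h1 : twoPart g = 1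
    · rw [F, F, Sec_of_twoPart_one D _ _ h1, Sec_of_twoPart_one D _ _ h1, map_zero]
    by_cases h2 : twoPart g * twoPart g = 1
    · obtain ⟨a, ha⟩ := exists_conj_z D h2 h1
      rw [F, F, Sec_eq D _ _ ha, Sec_eq D _ _ ha, conj_fFun]
    · rw [F, F, Sec_of_four D _ _ h2, Sec_of_four D _ _ h2, he]
      simp only [eFun]
      split_ifs <;> exact map_ofNat _ _
  rw [Finset.sum_congr rfl (g := fun g => F D (sigma (sigma i)) g * conj ((χ : G → ℂ) g))
    (fun g _ => by rw [map_mul, h2]; congr 1; exact Complex.conj_conj _),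
    ← CfsgLib.Char.classInner_def, coef_spec] at h
  exact_mod_cast h.symm

theorem fsInd_conj (χ : IrrCharacter G) :
    CfsgLib.BlockB.fsInd (conjChar χ) = CfsgLib.BlockB.fsInd χ := by
  obtain ⟨e, he, -, -⟩ := CfsgLib.BlockA.fsInd_int χ
  rw [he]
  have h := congrArg (starRingEnd ℂ) he
  rw [map_intCast, CfsgLib.BlockB.fsInd, map_mul, map_inv₀, Complex.conj_natCast, map_sum] at h
  exact h

/-! ### The conditions on one row -/

variable {M : Ideal AlgInt} (hM : IsPModular 2 M) {χ : IrrCharacter G}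

include hM in
theorem row_cong (hne : coef D χ ≠ 0) {d : ℕ} (hd : (χ : G → ℂ) 1 = d) :
    (64 : ℤ) ∣ d + 3 * zval (coef D χ) + 60 * coef D χ 5 := by
  classical
  have hχ := mem_principal_of_coef D hM hne
  have hcl := CfsgLib.Char.irr_isClassFunction χ.2
  have := Fintype.ofFinite (D.S : Subgroup G)
  set Zs : Subgroup (D.S : Subgroup G) := D.Z.subgroupOf (D.S : Subgroup G)
  have hcard : (Finset.univ.filter fun x : (D.S : Subgroup G) => x ∈ Zs).card = 4 := by
    rw [← Fintype.card_subtype, ← Nat.card_eq_fintype_card,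
      Nat.card_congr (Subgroup.subgroupOfEquivOfLe D.shape.le).toEquiv, D.shape.cardZ]
  set a : ℂ := (zval (coef D χ) : ℂ)
  set c : ℂ := (coef D χ 5 : ℂ)
  have hval : ∀ x : (D.S : Subgroup G), (χ : G → ℂ) x =
      c + ((if x ∈ Zs then a - c else 0) + if x = 1 then (d : ℂ) - a else 0) := by
    intro x
    by_cases hx1 : x = 1
    · subst hx1
      simp only [OneMemClass.coe_one, hd, one_mem, if_true]
      ring
    by_cases hxZ : (x : G) ∈ D.Z
    · have hco := isConj_iff.1 (D.conj_invol (x : G) (invol_of_mul_self ((mem_Z_iff D x.2).2 hxZ)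
        fun h => hx1 (Subtype.ext h)))
      obtain ⟨b, hb⟩ := hco
      rw [← hb, hcl, coef_zval D hM hχ, if_pos (show x ∈ Zs from hxZ), if_neg hx1]
      ring
    · obtain ⟨b, hb⟩ := isConj_iff.1
        (D.conj_four _ (x0_mem D) _ x.2 (x0_not_mem D) hxZ)
      rw [← hb, hcl, coef_five D hM hχ, if_neg (show x ∉ Zs from hxZ), if_neg hx1]
      ring
  obtain ⟨n, hn⟩ := CfsgLib.Char.classInner_isCharacter_nat
    (CfsgLib.Char.isCharacter_restrict (CfsgLib.Char.irr_isCharacter χ.2) (D.S : Subgroup G))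
    (CfsgLib.Char.isCharacter_one (G := (D.S : Subgroup G)))
  rw [CfsgLib.Char.classInner_def, D.shape.cardS] at hn
  simp only [map_one, mul_one] at hn
  rw [Finset.sum_congr rfl (fun x _ => hval x), Finset.sum_add_distrib, Finset.sum_add_distrib,
    Finset.sum_const, Finset.card_univ, ← Nat.card_eq_fintype_card, D.shape.cardS,
    ← Finset.sum_filter, Finset.sum_const, hcard, Finset.sum_ite_eq',
    if_pos (Finset.mem_univ _)] at hn
  refine ⟨n, ?_⟩
  have h : ((d + 3 * zval (coef D χ) + 60 * coef D χ 5 : ℤ) : ℂ) = ((64 * (n : ℤ) : ℤ) : ℂ) := by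
    push_cast at hn ⊢
    simp only [nsmul_eq_mul] at hn
    push_cast at hn
    linear_combination 64 * hn
  exact_mod_cast h

include hM in
theorem row_ge (hne : coef D χ ≠ 0) {d : ℕ} (hd : (χ : G → ℂ) 1 = d) :
    0 ≤ (d : ℤ) + 3 * zval (coef D χ) := by
  classical
  have hχ := mem_principal_of_coef D hM hne
  have hcl := CfsgLib.Char.irr_isClassFunction χ.2
  have := Fintype.ofFinite D.Z
  obtain ⟨n, hn⟩ := CfsgLib.Char.classInner_isCharacter_nat
    (CfsgLib.Char.isCharacter_restrict (CfsgLib.Char.irr_isCharacter χ.2) D.Z)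
    (CfsgLib.Char.isCharacter_one (G := D.Z))
  rw [CfsgLib.Char.classInner_def, D.shape.cardZ] at hn
  simp only [map_one, mul_one] at hn
  rw [Finset.sum_congr rfl (g := fun x : D.Z => (zval (coef D χ) : ℂ) +
      if x = 1 then (d : ℂ) - (zval (coef D χ) : ℂ) else 0) (fun x _ => by
        by_cases hx1 : x = 1
        · subst hx1
          rw [OneMemClass.coe_one, hd, if_pos rfl]
          ring
        · obtain ⟨b, hb⟩ := isConj_iff.1 (D.conj_invol (x : G) (invol_of_mul_self
            ((mem_Z_iff D (D.shape.le x.2)).2 x.2) fun h => hx1 (Subtype.ext h)))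
          rw [← hb, hcl, coef_zval D hM hχ, if_neg hx1, add_zero]),
    Finset.sum_add_distrib, Finset.sum_const, Finset.card_univ, ← Nat.card_eq_fintype_card,
    D.shape.cardZ, Finset.sum_ite_eq', if_pos (Finset.mem_univ _)] at hn
  have h : (((d : ℤ) + 3 * zval (coef D χ) : ℤ) : ℂ) = ((4 * (n : ℤ) : ℤ) : ℂ) := by
    push_cast at hn ⊢
    simp only [nsmul_eq_mul] at hn
    push_cast at hn
    linear_combination 4 * hn
  have h' : (d : ℤ) + 3 * zval (coef D χ) = 4 * (n : ℤ) := by exact_mod_cast h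
  omega

include hM in
theorem row_lt (hne : coef D χ ≠ 0) (hnt : χ ≠ CfsgLib.Block.trivIrr) {d : ℕ}
    (hd : (χ : G → ℂ) 1 = d) : zval (coef D χ) < d := by
  have hχ := mem_principal_of_coef D hM hne
  refine lt_of_le_of_ne ?_ fun he => hnt ?_
  · have h := CfsgLib.Block.norm_char_le_degree (CfsgLib.Char.irr_isCharacter χ.2) D.z
    rw [coef_zval D hM hχ, Complex.norm_intCast] at h
    have hdeg : (charDegree (χ : G → ℂ) : ℂ) = (d : ℂ) :=
      (CfsgLib.BlockB.irr_degree_cast χ).trans hd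
    rw [show charDegree (χ : G → ℂ) = d from by exact_mod_cast hdeg] at h
    have h' : (zval (coef D χ) : ℝ) ≤ (d : ℝ) := (le_abs_self _).trans h
    exact_mod_cast h'
  have hz : D.z ∈ CfsgLib.Block.kerIrr χ := by
    rw [CfsgLib.Block.mem_kerIrr, coef_zval D hM hχ, hd, he, Int.cast_natCast]
  have htop := D.normal_top _ (CfsgLib.Block.kerIrr_normal χ) hz
  have hconst : ∀ g, (χ : G → ℂ) g = d := fun g => by
    have hg : g ∈ CfsgLib.Block.kerIrr χ := htop ▸ Subgroup.mem_top g
    rw [CfsgLib.Block.mem_kerIrr.1 hg, hd]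
  have h := CfsgLib.Char.irr_classInner_self χ.2
  rw [CfsgLib.Char.classInner_def] at h
  simp only [hconst, Complex.conj_natCast, Finset.sum_const, Finset.card_univ, nsmul_eq_mul,
    ← Nat.card_eq_fintype_card] at h
  rw [← mul_assoc, inv_mul_cancel₀ CfsgLib.Char.natCard_ne_zero, one_mul] at h
  have hd1 : d = 1 := Nat.eq_one_of_mul_eq_one_left (by exact_mod_cast h : d * d = 1)
  exact Subtype.ext (funext fun g => by rw [hconst, hd1, Nat.cast_one]; rfl)

include hM in
theorem row_ne (hne : coef D χ ≠ 0) : zval (coef D χ) ≠ 0 := by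
  intro h0
  have := CfsgLib.Block.isPrime_of_pmodular hM
  have hχ := mem_principal_of_coef D hM hne
  have h := (hχ : SameBlock M (fun _ : G => (1 : ℂ)) (χ : G → ℂ)) D.z
  simp only [centralChar, coef_zval D hM hχ, h0, Int.cast_zero, mul_zero, zero_div, sub_zero,
    mul_one, div_one] at h
  rw [CfsgLib.Block.memLocalIdeal_natCast_iff hM] at h
  have h1 : ¬ 2 ∣ (D.S : Subgroup G).index := by
    have : Fact (Nat.Prime 2) := ⟨Nat.prime_two⟩
    exact D.S.not_dvd_index
  exact h1 (h.trans (Subgroup.index_dvd_of_le D.le_cent))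

end CfsgLib.Invol.UThreeFour.Chars
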