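import Cfsg.Agent.Lib.Invol.UThreeFour.CharsInner
import Cfsg.Agent.Lib.BlockB.SqrtCount
import Cfsg.Agent.Lib.BlockB.ClassMul

/-!
The coefficients of the irreducible characters in the six functions: vanishing outside the
principal block, the square root count and the class multiplication.
-/

set_option autoImplicit false
set_option linter.unusedSectionVars false
set_option maxHeartbeats 1000000

namespace CfsgLib.Invol.UThreeFour.Chars

open Cfsg
open scoped ComplexConjugate

universe u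

variable {G : Type u} [Group G] [Fintype G] (D : Loc G)

theorem exists_coef (χ : IrrCharacter G) (i : Fin 6) :
    ∃ k : ℤ, classInner (F D i) (χ : G → ℂ) = k :=
  CfsgLib.Char.classInner_isGeneralized_int (F_gen D i)
    (CfsgLib.Char.isGeneralized_of_isCharacter (CfsgLib.Char.irr_isCharacter χ.2))

/-- The coefficient vector. -/
noncomputable def coef (χ : IrrCharacter G) (i : Fin 6) : ℤ := (exists_coef D χ i).choose

theorem coef_spec (χ : IrrCharacter G) (i : Fin 6) :
    classInner (F D i) (χ : G → ℂ) = coef D χ i := (exists_coef D χ i).choose_spec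

theorem coef_gram [Fintype (IrrCharacter G)] (i j : Fin 6) :
    ∑ χ, coef D χ i * coef D χ j = gramMat i j := by
  have h := CfsgLib.Char.classInner_eq_sum_mul (F_class D i) (F D j)
  simp only [coef_spec, map_intCast, F_inner_F] at h
  exact_mod_cast h.symm

theorem coef_triv (i : Fin 6) :
    coef D CfsgLib.Block.trivIrr i = (![1, 0, 0, 0, 0, 1] : Fin 6 → ℤ) i := by
  have h := coef_spec D CfsgLib.Block.trivIrr i
  rw [show ((CfsgLib.Block.trivIrr : IrrCharacter G) : G → ℂ) = fun _ => 1 from rfl,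
    F_inner_one] at h
  exact_mod_cast h.symm

theorem coef_deg [Fintype (IrrCharacter G)] (i : Fin 6) :
    ∑ χ : IrrCharacter G, (coef D χ i : ℂ) * (χ : G → ℂ) 1 = 0 := by
  have h := CfsgLib.Char.classFunction_apply_eq_sum (F_class D i) (1 : G)
  simp only [coef_spec] at h
  rw [← h]
  exact Sec_one D _ _

variable {M : Ideal AlgInt} (hM : IsPModular 2 M)

include hM in
theorem coef_five {χ : IrrCharacter G} (hχ : χ ∈ principalBlock M G) :
    (χ : G → ℂ) (x0 D) = (coef D χ 5 : ℂ) := by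
  have h := congrArg (starRingEnd ℂ) (inner_five D hM hχ)
  rw [Complex.conj_conj, coef_spec, map_intCast] at h
  exact h.symm

include hM in
theorem coef_zval {χ : IrrCharacter G} (hχ : χ ∈ principalBlock M G) :
    (χ : G → ℂ) D.z = (zval (coef D χ) : ℂ) := by
  have h := congrArg (starRingEnd ℂ) (inner_sum D hM hχ)
  simp only [coef_spec, map_mul, map_sub, map_add, map_ofNat, map_intCast, Complex.conj_conj,
    coef_five D hM hχ] at h
  simp only [zval]
  push_cast
  linear_combination h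

include hM in
theorem mem_principal_of_coef {χ : IrrCharacter G} (hne : coef D χ ≠ 0) :
    χ ∈ principalBlock M G := by
  classical
  by_contra hχ
  have := Fintype.ofFinite (H D)
  have := Fintype.ofFinite (K D)
  have := Fintype.ofFinite (IrrCharacter G)
  have := Fact.mk Nat.prime_two
  -- the function on the elements of order four
  have hgram := coef_gram D 5 5
  have hsec := (CfsgLib.Block.principal_section hM (x0_two D) (cent_four_complement D).1).2
  rw [(cent_four_complement D).2,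
    finsum_mem_eq_finite_toFinset_sum _ (Set.toFinite (principalBlock M G))] at hsec
  set B := (Set.toFinite (principalBlock M G)).toFinset
  have hB : ∑ ψ ∈ B, coef D ψ 5 * coef D ψ 5 = 16 := by
    rw [Finset.sum_congr rfl (g := fun ψ => ((coef D ψ 5 * coef D ψ 5 : ℤ) : ℂ)) (fun ψ hψ => by
      rw [coef_five D hM ((Set.Finite.mem_toFinset _).1 hψ), map_intCast]; push_cast; rfl)] at hsec
    exact_mod_cast hsec
  have hrest : ∑ ψ ∈ Finset.univ \ B, coef D ψ 5 * coef D ψ 5 = 0 := by
    have h := Finset.sum_sdiff (f := fun ψ => coef D ψ 5 * coef D ψ 5) (Finset.subset_univ B)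
    rw [hB, hgram, show gramMat 5 5 = 16 from rfl] at h
    omega
  have h5 : coef D χ 5 = 0 := mul_self_eq_zero.1
    ((Finset.sum_eq_zero_iff_of_nonneg fun ψ _ => mul_self_nonneg _).1 hrest χ
      (Finset.mem_sdiff.2 ⟨Finset.mem_univ _, fun h => hχ ((Set.Finite.mem_toFinset _).1 h)⟩))
  have hcl := CfsgLib.Char.irr_isClassFunction χ.2
  have hS4 : S4 (χ : G → ℂ) = 0 := by
    have h := coef_spec D χ 5
    rw [h5, F, Sec_inner D _ _ hcl] at h
    simpa [fFun, eFun] using h
  refine hne (funext fun i => ?_)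
  have h := coef_spec D χ i
  rw [F, Sec_inner D _ _ hcl, hS4, mul_zero, add_zero] at h
  have h0 : ∑ x ∈ fib D, fFun i (D.psi x) * conj ((χ : G → ℂ) x) = 0 := by
    have h1 := sum_fib_eq_zero D hM hχ (fun x => conj (fFun i (D.psi x))) fun x v hv => by
      rw [map_mul, psi_of_mem_K D hv, mul_one]
    rw [← map_zero (starRingEnd ℂ), ← h1, map_sum]
    simp [map_mul]
  rw [h0, mul_zero] at h
  exact_mod_cast h.symm

/-! ### The square root count -/

theorem twoPart_sq {A : Type u} [Group A] [Finite A] (s : A) :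
    twoPart (s * s) = twoPart s * twoPart s := by
  set w := twoPart s
  set v := w⁻¹ * s
  have hc : Commute w v := (Commute.refl w).inv_right.mul_right (twoPart_commute_self s)
  have e : s * s = (w * w) * (v * v) := by
    rw [hc.mul_mul_mul_comm, mul_inv_cancel_left]
  rw [e]
  refine twoPart_mul ((hc.mul_right hc).mul_left (hc.mul_right hc)) ?_ ?_
  · obtain ⟨k, hk⟩ := exists_orderOf_twoPart s
    obtain ⟨i, -, hi⟩ := (Nat.dvd_prime_pow Nat.prime_two).1
      (hk ▸ (pow_two w ▸ orderOf_pow_dvd 2 : orderOf (w * w) ∣ orderOf w))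
    exact ⟨i, hi⟩
  · exact (odd_orderOf_twoPart_inv_mul s).of_dvd_nat (pow_two v ▸ orderOf_pow_dvd 2)

include D in
theorem sqrt_four {g : G} (h : twoPart g * twoPart g ≠ 1) :
    CfsgLib.BlockB.sqrtCount g = 0 := by
  classical
  rw [CfsgLib.BlockB.sqrtCount, Finset.filter_eq_empty_iff.2, Finset.card_empty, Nat.cast_zero]
  intro s _ hs
  refine h ?_
  rw [← hs, twoPart_sq]
  obtain ⟨a, ha⟩ := exists_conj_S D (exists_orderOf_twoPart s)
  have h1 := (mem_Z_iff D (mul_mem ha ha)).2 (D.shape.sq_mem _ ha)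
  rwa [show a * twoPart s * a⁻¹ * (a * twoPart s * a⁻¹) * (a * twoPart s * a⁻¹ *
    (a * twoPart s * a⁻¹)) = a * (twoPart s * twoPart s * (twoPart s * twoPart s)) * a⁻¹ by group,
    conj_eq_one_iff] at h1

theorem psi_eq_one_of_sq {s : H D} (h : twoPart s * twoPart s = zH D) : D.psi s = 1 := by
  by_contra hne
  rw [twoPart_sq_of_psi D hne] at h
  exact invol_ne_one D.hz (congrArg Subtype.val h).symm

theorem inner_sqrt (i : Fin 6) :
    classInner (F D i) (CfsgLib.BlockB.sqrtCount (G := G)) = fFun i 1 / 16 := by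
  classical
  have := Fintype.ofFinite (H D)
  have hcl := CfsgLib.BlockB.sqrtCount_isClassFunction (G := G)
  have hS4 : S4 (CfsgLib.BlockB.sqrtCount (G := G)) = 0 := by
    rw [S4_const D hcl (c := 0) (fun g hg => sqrt_four D ?_), map_zero, zero_div]
    rw [hg]
    exact fun h => x0_not_mem D ((mem_Z_iff D (x0_mem D)).1 h)
  rw [F, Sec_inner D _ _ hcl, hS4, mul_zero, add_zero]
  set T := Finset.univ.filter fun s : H D => twoPart s * twoPart s = zH D
  have hN : ∀ x ∈ fib D, conj (CfsgLib.BlockB.sqrtCount (x : G)) =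
      ((T.filter fun s => s * s = x).card : ℂ) := by
    intro x hx
    rw [CfsgLib.BlockB.sqrtCount, Complex.conj_natCast, Nat.cast_inj]
    symm
    refine Finset.card_bij (fun s _ => (s : G)) (fun s hs => ?_) (fun a _ b _ h => Subtype.ext h)
      (fun g hg => ?_)
    · simp only [Finset.mem_filter, Finset.mem_univ, true_and] at hs ⊢
      exact congrArg Subtype.val hs.2
    · simp only [Finset.mem_filter, Finset.mem_univ, true_and] at hg
      have hgH : g ∈ H D := by
        rw [Subgroup.mem_centralizer_singleton_iff]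
        have hz : twoPart (x : G) = D.z := by rw [twoPart_coe, (mem_fib D).1 hx]
        have hc := twoPart_commute (g := (x : G)) (a := g) (hg ▸ (Commute.refl g).mul_left
          (Commute.refl g))
        rw [hz] at hc
        exact hc.symm.eq
      refine ⟨⟨g, hgH⟩, ?_, rfl⟩
      simp only [T, Finset.mem_filter, Finset.mem_univ, true_and]
      have hsq : (⟨g, hgH⟩ : H D) * ⟨g, hgH⟩ = x := Subtype.ext hg
      refine ⟨?_, hsq⟩
      rw [← twoPart_sq, hsq, (mem_fib D).1 hx]
  rw [Finset.sum_congr rfl (g := fun x => fFun i 1 * ((T.filter fun s => s * s = x).card : ℂ))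
    (fun x hx => by
      rw [hN x hx]
      by_cases h0 : (T.filter fun s => s * s = x).card = 0
      · simp [h0]
      · obtain ⟨s, hs⟩ := Finset.card_pos.1 (Nat.pos_of_ne_zero h0)
        obtain ⟨hsT, rfl⟩ := Finset.mem_filter.1 hs
        rw [map_mul, psi_eq_one_of_sq D (Finset.mem_filter.1 hsT).2, mul_one]),
    ← Finset.mul_sum, ← Nat.cast_sum,
    ← Finset.card_eq_sum_card_fiberwise (fun s hs => (mem_fib D).2 (by
      rw [twoPart_sq]; exact (Finset.mem_filter.1 hs).2)),
    show T.card = 20 * Nat.card (K D) by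
      rw [← card_sq_fib D, Nat.card_eq_fintype_card, Fintype.card_subtype], card_H]
  have h1 : (Nat.card (K D) : ℂ) ≠ 0 := CfsgLib.Char.natCard_ne_zero
  push_cast
  field_simp
  ring

theorem coef_nu [Fintype (IrrCharacter G)] (i : Fin 6) :
    ∑ χ : IrrCharacter G, (coef D χ i : ℂ) * conj (CfsgLib.BlockB.fsInd χ) =
      ((![-1, -1, -1, -1, -1, 0] : Fin 6 → ℤ) i : ℂ) := by
  have h := CfsgLib.Char.classInner_eq_sum_mul (F_class D i) (CfsgLib.BlockB.sqrtCount (G := G))
  simp only [coef_spec, CfsgLib.BlockB.classInner_sqrtCount, inner_sqrt] at h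
  rw [← h]
  fin_cases i <;> simp +decide [fFun, chr_one] <;> norm_num

/-! ### The class multiplication -/

include D in
theorem not_inverted_four {w u : G} (hw : ∃ k : ℕ, orderOf w = 2 ^ k) (hww : w * w ≠ 1)
    (hu : u * u = 1) (hinv : u * w * u⁻¹ = w⁻¹) : False := by
  obtain ⟨a, ha⟩ := isConj_iff.1 (isConj_x0 D hw hww).symm
  set v := a * u * a⁻¹
  have hv : v * x0 D * v⁻¹ = (x0 D)⁻¹ := by
    rw [← ha, show a * u * a⁻¹ * (a * w * a⁻¹) * (a * u * a⁻¹)⁻¹ = a * (u * w * u⁻¹) * a⁻¹ by group,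
      hinv]
    group
  have hvv : v * v = 1 := by
    rw [show a * u * a⁻¹ * (a * u * a⁻¹) = a * (u * u) * a⁻¹ by group, hu]; group
  have hvH : v ∈ H D := by
    rw [Subgroup.mem_centralizer_singleton_iff]
    refine mul_inv_eq_iff_eq_mul.1 ?_
    rw [← x0_sq D, show v * (x0 D * x0 D) * v⁻¹ = (v * x0 D * v⁻¹) * (v * x0 D * v⁻¹) by group, hv,
      ← mul_inv_rev, x0_sq, invol_inv D.hz]
  set vH : H D := ⟨v, hvH⟩
  set xH : H D := ⟨x0 D, D.le_cent (x0_mem D)⟩
  have hv2 : D.psi vH = 1 := by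
    by_cases h1 : vH = 1
    · rw [h1, map_one]
    · exact psi_of_two D ⟨1, by
        rw [pow_one]; exact invol_of_mul_self (Subtype.ext hvv) h1⟩
  obtain ⟨t, ht, hte⟩ := (psib_eq_one_iff D _).1 ((psib_q D vH).trans hv2)
  have htt : t * t = 1 := q_injOn D (mul_mem ht ht) (one_mem _) (by
    rw [map_mul, hte, ← map_mul, show vH * vH = 1 from Subtype.ext hvv])
  have hc := Zb_central D (ζ := q D vH)
    ⟨t, (mem_Z_iff D ht).1 (congrArg Subtype.val htt), hte⟩ (q D xH)
  have h2 : q D xH = q D xH⁻¹ := by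
    rw [← show vH * xH * vH⁻¹ = xH⁻¹ from Subtype.ext hv, map_mul, map_mul, map_inv, hc.eq,
      mul_inv_cancel_right]
  have h3 := congrArg Subtype.val (q_injOn D (a := xH) (b := xH⁻¹) (x0_mem D) (inv_mem (x0_mem D)) h2)
  exact x0_not_mem D ((mem_Z_iff D (x0_mem D)).1 (eq_inv_iff_mul_eq_one.1 h3))

theorem psi_eq_one_of_inverted {v h : H D} (hinv : v * h * v⁻¹ = h⁻¹) : D.psi h = 1 := by
  have h1 := congrArg D.psi hinv
  rw [psi_conjugate, map_inv] at h1
  have h2 : (D.psi h) ^ 2 = 1 := by rw [pow_two]; exact eq_inv_iff_mul_eq_one.1 h1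
  have h5 := pow_five (D.psi h)
  calc D.psi h = (D.psi h) ^ 5 * ((D.psi h) ^ 2)⁻¹ * ((D.psi h) ^ 2)⁻¹ := by group
    _ = 1 := by rw [h5, h2]; group

open scoped Classical in
/-- The number of translates giving a section of the involution. -/
noncomputable def mCount : ℕ :=
  (Finset.univ.filter fun t : G => IsConj D.z (twoPart (D.z * (t * D.z * t⁻¹)))).card

theorem mCount_pos : 0 < mCount D := by
  classical
  obtain ⟨t, ht, ht1, htz⟩ := exists_t D
  obtain ⟨k, -, hkz⟩ := D.conj_Z t ht ht1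
  refine Finset.card_pos.2 ⟨k, Finset.mem_filter.2 ⟨Finset.mem_univ _, ?_⟩⟩
  have hm : D.z * t ∈ D.Z := mul_mem D.hzZ ht
  have h1 : D.z * t ≠ 1 := fun h => htz (by rw [← inv_eq_of_mul_eq_one_right h, invol_inv D.hz])
  rw [hkz]
  have ho : orderOf (D.z * t) = 2 :=
    invol_of_mul_self ((mem_Z_iff D (D.shape.le hm)).2 hm) h1
  rw [twoPart_self ⟨1, by rw [ho, pow_one]⟩]
  exact D.conj_invol _ ho

theorem inverted_facts {g w u : G} (hw : twoPart g = w)
    (hinv : u * g * u⁻¹ = g⁻¹) : u * w * u⁻¹ = w⁻¹ := by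
  subst hw
  rw [← twoPart_conj, hinv]
  set s := twoPart g
  have hc : Commute s ((s⁻¹ * g)) := (Commute.refl s).inv_right.mul_right (twoPart_commute_self g)
  obtain ⟨k, hk⟩ := exists_orderOf_twoPart g
  conv_lhs => rw [show g⁻¹ = s⁻¹ * (s⁻¹ * g)⁻¹ by
    rw [← mul_inv_rev, ← hc.eq, mul_inv_cancel_left]]
  exact twoPart_mul hc.inv_inv ⟨k, by rw [orderOf_inv, hk]⟩
    (by rw [orderOf_inv]; exact odd_orderOf_twoPart_inv_mul g)

theorem Sec_inverted (f : Multiplicative (ZMod 5) → ℂ) (e : ℂ) {g u : G} (hu : u * u = 1)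
    (hinv : u * g * u⁻¹ = g⁻¹) :
    Sec D f e g = open Classical in if IsConj D.z (twoPart g) then f 1 else 0 := by
  classical
  have hw := inverted_facts rfl hinv
  by_cases h1 : twoPart g = 1
  · rw [Sec_of_twoPart_one D f e h1, if_neg fun h => ?_]
    obtain ⟨a, ha⟩ := isConj_iff.1 h
    exact not_conj_z_of_one D h1 ⟨a⁻¹, by rw [← ha]; group⟩
  by_cases h2 : twoPart g * twoPart g = 1
  swap
  · exact absurd hw fun h => not_inverted_four D (exists_orderOf_twoPart g) h2 hu h
  obtain ⟨a, ha⟩ := exists_conj_z D h2 h1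
  rw [if_pos (isConj_iff.2 ⟨a⁻¹, by rw [← ha]; group⟩), Sec_eq D f e ha]
  congr 1
  have hvH : a * u * a⁻¹ ∈ H D := by
    rw [Subgroup.mem_centralizer_singleton_iff]
    refine mul_inv_eq_iff_eq_mul.1 ?_
    rw [← ha, show a * u * a⁻¹ * (a * twoPart g * a⁻¹) * (a * u * a⁻¹)⁻¹ =
      a * (u * twoPart g * u⁻¹) * a⁻¹ by group, hw, inv_eq_of_mul_eq_one_left h2]
  refine psi_eq_one_of_inverted D (v := ⟨_, hvH⟩) (Subtype.ext ?_)
  show a * u * a⁻¹ * (a * g * a⁻¹) * (a * u * a⁻¹)⁻¹ = (a * g * a⁻¹)⁻¹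
  rw [show a * u * a⁻¹ * (a * g * a⁻¹) * (a * u * a⁻¹)⁻¹ = a * (u * g * u⁻¹) * a⁻¹ by group, hinv]
  group

include hM in
theorem coef_quot [Fintype (IrrCharacter G)] (i : Fin 6) :
    ∑ χ : IrrCharacter G, (coef D χ i : ℂ) * (zval (coef D χ) : ℂ) ^ 2 / (χ : G → ℂ) 1 =
      fFun i 1 * (mCount D : ℂ) / (Nat.card G : ℂ) := by
  classical
  have h := CfsgLib.BlockB.sum_classFun_mul_conj (F_class D i) D.z D.z
  have hl : ∀ t : G, F D i (D.z * (t * D.z * t⁻¹)) =
      if IsConj D.z (twoPart (D.z * (t * D.z * t⁻¹))) then fFun i 1 else 0 := fun t =>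
    Sec_inverted D _ _ (invol_mul_self D.hz) (by
      rw [mul_inv_rev D.z (t * D.z * t⁻¹), show (t * D.z * t⁻¹)⁻¹ = t * D.z⁻¹ * t⁻¹ by group,
        invol_inv D.hz, ← mul_assoc D.z D.z, invol_mul_self D.hz, one_mul])
  rw [Finset.sum_congr rfl (fun t _ => hl t), ← Finset.sum_filter, Finset.sum_const, nsmul_eq_mul]
    at h
  rw [eq_div_iff CfsgLib.Char.natCard_ne_zero, mul_comm _ (Nat.card G : ℂ),
    mul_comm (fFun i 1) _, mCount]
  refine (Eq.trans ?_ h.symm)
  congr 1
  refine Finset.sum_congr rfl fun χ _ => ?_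
  rw [coef_spec]
  by_cases h0 : coef D χ i = 0
  · simp [h0]
  · rw [coef_zval D hM (mem_principal_of_coef D hM fun h => h0 (congrFun h i))]
    ring

end CfsgLib.Invol.UThreeFour.Chars
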