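import Cfsg.Agent.Lib.Invol.UThreeFour.CharsRows
import Cfsg.Agent.Lib.Invol.UThreeFour.CharsFS

/-!
The degree system attached to the local data, and the two consequences of its solution.
-/

set_option autoImplicit false
set_option linter.unusedSectionVars false
set_option maxHeartbeats 1000000

namespace CfsgLib.Invol.UThreeFour.Chars

open Cfsg
open scoped ComplexConjugate

universe u

variable {G : Type u} [Group G] [Fintype G] (D : Loc G)

/-- The rows: characters with a nonzero coefficient. -/
abbrev Row : Type u := {χ : IrrCharacter G // coef D χ ≠ 0}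

theorem galShift_ne_zero {v : Fin 6 → ℤ} (h : v ≠ 0) : galShift v ≠ 0 := by
  intro h0
  refine h (funext fun i => ?_)
  have e : ∀ j, v (sigma j) = 0 := fun j => (galShift_eq v j).symm.trans (congrFun h0 j)
  fin_cases i
  · exact e 0
  · exact e 3
  · exact e 1
  · exact e 4
  · exact e 2
  · exact e 5

open scoped Classical in
theorem sum_row {A : Type*} [AddCommMonoid A] [Fintype (IrrCharacter G)] [Fintype (Row D)]
    (f : IrrCharacter G → A) (hf : ∀ χ, coef D χ = 0 → f χ = 0) :
    ∑ r : Row D, f r.1 = ∑ χ, f χ := by
  rw [← Finset.sum_filter_of_ne (s := Finset.univ) (p := fun χ => coef D χ ≠ 0)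
    fun χ _ hne h0 => hne (hf χ h0), ← Finset.sum_subtype]
  intro χ
  simp

/-- The two consequences of the solution of the degree system. -/
theorem facts_of_solved
    (hsol : ∀ {ι : Type u} [Fintype ι] (C : Sys ι), C.Solved) :
    (-16 * (mCount D : ℚ) / (Nat.card G : ℚ) = -32 / 195) ∧
      ∃ χ : IrrCharacter G, coef D χ ≠ 0 ∧ (χ : G → ℂ) 1 = 12 ∧ zval (coef D χ) = -4 := by
  classical
  obtain ⟨M, hM⟩ := CfsgLib.BlockB.exists_isPModular Nat.prime_two
  have := Fintype.ofFinite (IrrCharacter G)
  choose d hd using fun χ : IrrCharacter G =>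
    CfsgLib.Char.char_apply_one_eq_nat (CfsgLib.Char.irr_isCharacter χ.2)
  choose nu hnu using fun χ : IrrCharacter G => CfsgLib.BlockA.fsInd_int χ
  obtain ⟨s, t, hs, ht, hs5, hst⟩ := exists_exponents D
  let g : Row D → Row D := fun r => ⟨CfsgLib.BlockB.galIrr ht r.1, by
    rw [coef_gal D hs hs5 ht hst]; exact galShift_ne_zero r.2⟩
  have hg : Function.Bijective g := Finite.injective_iff_bijective.1 fun a b h =>
    Subtype.ext (CfsgLib.BlockB.galIrr_injective ht (congrArg Subtype.val h))
  let cj : Row D → Row D := fun r => ⟨conjChar r.1, by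
    rw [coef_conj]; exact galShift_ne_zero (galShift_ne_zero r.2)⟩
  have hcj : ∀ r, cj (cj r) = r := fun r => Subtype.ext (conjChar_conjChar r.1)
  have htriv : coef D CfsgLib.Block.trivIrr ≠ 0 := fun h => by
    have h1 := coef_triv D 0
    rw [h] at h1
    simp at h1
  let C : Sys (Row D) :=
    { v := fun r => coef D r.1
      d := fun r => d r.1
      nu := fun r => nu r.1
      triv := ⟨CfsgLib.Block.trivIrr, htriv⟩
      sym := Equiv.ofBijective g hg
      «conj» := ⟨cj, cj, hcj, hcj⟩
      Q := -16 * (mCount D : ℚ) / (Nat.card G : ℚ)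
      v_ne := fun r => r.2
      d_pos := fun r => by
        have h : 0 < d r.1 := Nat.pos_of_ne_zero fun h0 =>
          CfsgLib.Char.irr_apply_one_ne_zero r.1.2 (by rw [hd, h0, Nat.cast_zero])
        exact_mod_cast h
      v_triv := funext (coef_triv D)
      d_triv := by
        have h : (1 : ℂ) = (d (CfsgLib.Block.trivIrr (G := G)) : ℂ) := hd CfsgLib.Block.trivIrr
        have h' : d (CfsgLib.Block.trivIrr (G := G)) = 1 := by exact_mod_cast h.symm
        show ((d (CfsgLib.Block.trivIrr (G := G)) : ℕ) : ℤ) = 1
        rw [h']; rfl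
      nu_triv := by
        have h := (hnu (CfsgLib.Block.trivIrr (G := G))).1
        rw [show (CfsgLib.Block.trivIrr : IrrCharacter G) =
          ⟨fun _ => 1, CfsgLib.Char.isIrrCharacter_one⟩ from rfl, CfsgLib.BlockA.fsInd_one] at h
        exact_mod_cast h.symm
      v_sym := fun r => coef_gal D hs hs5 ht hst r.1
      d_sym := fun r => by
        have h : (d (CfsgLib.BlockB.galIrr ht r.1) : ℂ) = (d r.1 : ℂ) := by
          rw [← hd, ← hd]
          exact congrArg (r.1 : G → ℂ) (one_pow t)
        have h' : d (CfsgLib.BlockB.galIrr ht r.1) = d r.1 := by exact_mod_cast h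
        show ((d (CfsgLib.BlockB.galIrr ht r.1) : ℕ) : ℤ) = (d r.1 : ℤ)
        rw [h']
      nu_sym := fun r => by
        have h := fsInd_gal ht r.1
        rw [(hnu _).1, (hnu _).1] at h
        exact_mod_cast h
      conj_conj := hcj
      v_conj := fun r => coef_conj D r.1
      d_conj := fun r => by
        have h : (d (conjChar r.1) : ℂ) = (d r.1 : ℂ) := by
          rw [← hd]
          show conj ((r.1 : G → ℂ) 1) = _
          rw [hd, Complex.conj_natCast]
        have h' : d (conjChar r.1) = d r.1 := by exact_mod_cast h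
        show ((d (conjChar r.1) : ℕ) : ℤ) = (d r.1 : ℤ)
        rw [h']
      nu_conj := fun r => by
        have h := fsInd_conj r.1
        rw [(hnu _).1, (hnu _).1] at h
        exact_mod_cast h
      nu_cases := fun r => by rcases (hnu r.1).2.1 with h | h | h <;> omega
      nu_zero_iff := fun r => by
        rw [(hnu r.1).2.2]
        refine not_congr ⟨fun h => Subtype.ext (Subtype.ext (funext fun x => ?_)), fun h x => ?_⟩
        · exact Complex.conj_eq_iff_im.2 (h x)
        · exact Complex.conj_eq_iff_im.1
            (congrFun (congrArg (fun w : Row D => (w.1 : G → ℂ)) h) x)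
      nu_neg := fun r h => by
        have hf : CfsgLib.BlockB.fsInd r.1 = -1 := by rw [(hnu r.1).1, h]; norm_num
        exact (Int.even_coe_nat _).2 (even_degree_of_fsInd_neg r.1 hf (hd r.1))
      gram := fun k l => by
        rw [sum_row D (fun χ => coef D χ k * coef D χ l) fun χ h => by simp [h]]
        exact coef_gram D k l
      sum_deg := fun k => by
        rw [sum_row D (fun χ => coef D χ k * (d χ : ℤ)) fun χ h => by simp [h]]
        have h := coef_deg D k
        simp only [hd] at h
        exact_mod_cast h
      sum_nu := fun k => by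
        rw [sum_row D (fun χ => coef D χ k * nu χ) fun χ h => by simp [h]]
        have h := coef_nu D k
        simp only [(hnu _).1, map_intCast] at h
        exact_mod_cast h
      cong := fun r => row_cong D hM r.2 (hd r.1)
      zval_ne := fun r => row_ne D hM r.2
      zval_ge := fun r => row_ge D hM r.2 (hd r.1)
      zval_lt := fun r hr => row_lt D hM r.2 (fun h => hr (Subtype.ext h)) (hd r.1)
      Q_neg := by
        have h1 : (0 : ℚ) < mCount D := by exact_mod_cast mCount_pos D
        have h2 : (0 : ℚ) < Nat.card G := by exact_mod_cast Nat.card_pos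
        exact div_neg_of_neg_of_pos (by linarith) h2
      sum_quot := fun k => by
        rw [sum_row D (fun χ => (coef D χ k : ℚ) * (zval (coef D χ) : ℚ) ^ 2 / ((d χ : ℤ) : ℚ))
          fun χ h => by simp [h]]
        have h := coef_quot D hM k
        simp only [hd] at h
        apply Rat.cast_injective (α := ℂ)
        push_cast
        rw [h]
        fin_cases k <;> simp +decide [fFun, chr_one] <;> norm_num }
  obtain ⟨hQ, r, hr12, hr4⟩ := hsol C
  refine ⟨hQ, r.1, r.2, ?_, hr4⟩
  have h12 : (d r.1 : ℤ) = 12 := hr12
  rw [hd r.1]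
  exact_mod_cast h12

end CfsgLib.Invol.UThreeFour.Chars
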