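import Cfsg.Agent.Lib.Invol.UThreeFour.Defs

/-!
The reduced degree system: orbits of coefficient vectors under `galShift`, normalised in sign, and
the twenty configurations of orbits. See notes/u34_route_helper12.md.
-/

set_option autoImplicit false

namespace CfsgLib.Invol.UThreeFour

/-- An orbit of rows: the value at the involution, the sums over the orbit of the coordinates
`0, 1, 5`, the residue modulo 64 of the signed degree, and the length of the orbit. -/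
structure Item where
  a : ℤ
  c0 : ℤ
  c1 : ℤ
  c2 : ℤ
  res : ℤ
  size : ℤ
deriving DecidableEq

/-- The linear combination of the three sums. -/
def Item.wt (t : Item) (x y z : ℤ) : ℤ := x * t.c0 + y * t.c1 + z * t.c2

/-- The orbits that occur. -/
def it : ℕ → Item
  | 0 => ⟨-15, 1, 1, 1, 49, 1⟩
  | 1 => ⟨-10, 1, 1, 2, 38, 1⟩
  | 2 => ⟨-9, 1, 0, -1, 23, 1⟩
  | 3 => ⟨-8, 0, 1, 0, 24, 2⟩
  | 4 => ⟨-7, 2, 1, 2, 25, 2⟩
  | 5 => ⟨-6, 0, 1, 2, 26, 1⟩
  | 6 => ⟨-5, 1, 1, 3, 27, 1⟩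
  | 7 => ⟨-4, 0, 1, 0, 12, 4⟩
  | 8 => ⟨-4, 1, 0, 0, 12, 1⟩
  | 9 => ⟨-3, 0, 1, 2, 13, 2⟩
  | 10 => ⟨-3, 0, 2, 4, 13, 4⟩
  | 11 => ⟨-2, 2, 1, 4, 14, 2⟩
  | 12 => ⟨1, 0, 1, 4, 1, 4⟩
  | 13 => ⟨1, 1, 0, 1, 1, 1⟩
  | 14 => ⟨5, 0, 0, 1, 53, 1⟩
  | 15 => ⟨5, 0, 0, 4, 53, 4⟩
  | 16 => ⟨6, 1, 0, 2, 54, 1⟩
  | _ => ⟨10, 0, 0, 2, 42, 1⟩

/-- The configurations. -/
def configs : List (List Item) := [
  [it 1, it 8, it 8, it 10, it 13, it 14, it 14, it 14, it 14, it 14, it 14],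
  [it 4, it 7, it 8, it 10, it 12, it 13, it 14, it 14, it 14, it 14],
  [it 1, it 2, it 10, it 13, it 13, it 14, it 14, it 14, it 14],
  [it 1, it 8, it 8, it 10, it 13, it 14, it 14, it 17],
  [it 6, it 7, it 7, it 7, it 8, it 8, it 8, it 12, it 14, it 14],
  [it 1, it 7, it 7, it 8, it 8, it 12, it 12, it 13, it 14, it 14],
  [it 2, it 7, it 7, it 8, it 10, it 11, it 14, it 14],
  [it 1, it 2, it 8, it 10, it 14, it 14, it 16],
  [it 1, it 8, it 8, it 10, it 13, it 14, it 14, it 15],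
  [it 1, it 8, it 8, it 9, it 9, it 13, it 14, it 14, it 15],
  [it 4, it 5, it 8, it 9, it 13, it 14, it 14, it 15],
  [it 4, it 7, it 8, it 10, it 12, it 13, it 17],
  [it 1, it 2, it 10, it 13, it 13, it 17],
  [it 2, it 6, it 7, it 7, it 7, it 8, it 12, it 13],
  [it 1, it 2, it 7, it 7, it 12, it 12, it 13, it 13],
  [it 0, it 7, it 8, it 12, it 12, it 12, it 13, it 13],
  [it 2, it 4, it 7, it 10, it 12, it 16],
  [it 1, it 2, it 10, it 13, it 13, it 15],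
  [it 3, it 6, it 8, it 8, it 8, it 9, it 15],
  [it 1, it 2, it 9, it 9, it 13, it 13, it 15]]

/-- The orbit of a coefficient vector. -/
def orb (v : Fin 6 → ℤ) : List (Fin 6 → ℤ) :=
  [v, galShift v, galShift (galShift v), galShift (galShift (galShift v))].dedup

/-- A sum over the orbit of a coefficient vector. -/
def osum (f : (Fin 6 → ℤ) → ℤ) (v : Fin 6 → ℤ) : ℤ := ((orb v).map f).sum

/-- The three sums over the orbit, and the sign making the first nonzero one positive. -/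
def orbSign (v : Fin 6 → ℤ) : ℤ :=
  if osum (fun w => w 0) v ≠ 0 then (if 0 < osum (fun w => w 0) v then 1 else -1)
  else if osum (fun w => w 1) v ≠ 0 then (if 0 < osum (fun w => w 1) v then 1 else -1)
  else (if 0 ≤ osum (fun w => w 5) v then 1 else -1)

/-- The normalised orbit of a coefficient vector. -/
def itemOf (v : Fin 6 → ℤ) : Item where
  a := orbSign v * zval v
  c0 := orbSign v * osum (fun w => w 0) v
  c1 := orbSign v * osum (fun w => w 1) v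
  c2 := orbSign v * osum (fun w => w 5) v
  res := (orbSign v * (-3 * zval v - 60 * v 5)) % 64
  size := (orb v).length

/-- The reduced system: a list of orbits with signed degree `D` and signed indicator `e`. -/
structure Red (Q : ℚ) (l : List (Item × ℤ × ℤ)) : Prop where
  shape : ∃ c ∈ configs, (l.map Prod.fst).Perm c
  adm : ∀ p ∈ l, |p.1.a| < |p.2.1| ∧ (p.2.1 - p.1.res) % 64 = 0 ∧
    0 ≤ |p.2.1| + 3 * (if 0 < p.2.1 then p.1.a else -p.1.a)
  ind : ∀ p ∈ l, (p.2.2 = 1 ∨ p.2.2 = 0 ∨ p.2.2 = -1) ∧ (p.1.size = 4 → p.2.2 = 0) ∧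
    (Odd p.1.a → p.2.2 ≠ 0 → 0 < p.2.2 * p.2.1)
  pairs : ∀ (t : Item) (D : ℤ), t.size ≠ 4 → Even (l.count (t, D, 0))
  fs : ∀ x y z : ℤ, (l.map fun p => p.2.2 * p.1.wt x y z).sum = -2 * x - y - z
  lin : ∀ x y z : ℤ, (l.map fun p => p.2.1 * p.1.wt x y z).sum + (x + z) = 0
  quot : ∀ x y z : ℤ, (l.map fun p => ((p.1.wt x y z * (p.1.a * p.1.a) : ℤ) : ℚ) / p.2.1).sum +
    ((x + z : ℤ) : ℚ) = ((x + y : ℤ) : ℚ) * Q

end CfsgLib.Invol.UThreeFour
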