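import Cfsg.Prelude.Def_Local
import Cfsg.Prelude.Def_Solvable
import Mathlib

/-!
Frozen interface between the local analysis and the characters for a Sylow 2-subgroup of type
PSU(3,4): the local data of a finite group with one class of involutions in the case where the
centralizer of an involution is `O(C(z)) * (S : 5)`. See notes/u34_route_helper12.md.
-/

set_option autoImplicit false

namespace CfsgLib.Invol.UThreeFour

open Subgroup

universe u

/-- The properties of the Sylow 2-subgroup of PSU(3,4) and of its centre that are used. -/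
structure UShape {G : Type u} [Group G] (S Z : Subgroup G) : Prop where
  cardS : Nat.card S = 64
  cardZ : Nat.card Z = 4
  le : Z ≤ S
  cen : ∀ z ∈ Z, ∀ s ∈ S, z * s = s * z
  sq_mem : ∀ s ∈ S, s * s ∈ Z
  invol : ∀ s ∈ S, s * s = 1 ↔ s ∈ Z
  cent16 : ∀ x ∈ S, x ∉ Z → Nat.card ↥(S ⊓ centralizer ({x} : Set G)) = 16
  fib : ∀ z ∈ Z, z ≠ 1 → Nat.card {x : G // x ∈ S ∧ x * x = z} = 20

/-- The local data in the case `C(z)/O(C(z)) = S:5`. -/
structure Loc (G : Type u) [Group G] [Finite G] where
  S : Sylow 2 G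
  Z : Subgroup G
  z : G
  shape : UShape (S : Subgroup G) Z
  oddCore_eq : Cfsg.oddCore G = ⊥
  hzZ : z ∈ Z
  hz : orderOf z = 2
  /-- a normal subgroup containing an involution is everything -/
  normal_top : ∀ M : Subgroup G, M.Normal → z ∈ M → M = ⊤
  /-- the involutions of `Z` are conjugate in the normalizer of `S` -/
  conj_Z : ∀ t ∈ Z, t ≠ 1 → ∃ k ∈ normalizer ((S : Subgroup G) : Set G), k * z * k⁻¹ = t
  /-- all involutions are conjugate -/
  conj_invol : ∀ t : G, orderOf t = 2 → IsConj z t
  /-- all elements of order four are conjugate -/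
  conj_four : ∀ x ∈ (S : Subgroup G), ∀ y ∈ (S : Subgroup G), x ∉ Z → y ∉ Z → IsConj x y
  le_cent : (S : Subgroup G) ≤ centralizer ({z} : Set G)
  psi : ↥(centralizer ({z} : Set G)) →* Multiplicative (ZMod 5)
  psi_surj : Function.Surjective psi
  /-- the kernel is `O(C(z)) * S` -/
  psi_ker : ∀ g : ↥(centralizer ({z} : Set G)),
    psi g = 1 ↔ (g : G) ∈ Cfsg.centralizerPPrimeCore 2 z ⊔ (S : Subgroup G)
  core_normal_card : Nat.card ↥(centralizer ({z} : Set G)) =
    320 * Nat.card ↥(Cfsg.centralizerPPrimeCore 2 z)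
  /-- centralizers of elements of order four in `S` lie in `O(C(z)) * S` up to conjugation -/
  cent_four : ∀ x ∈ (S : Subgroup G), x * x = z →
    centralizer ({x} : Set G) ≤ Cfsg.centralizerPPrimeCore 2 z ⊔ (S : Subgroup G)
  /-- `C(z) = O(C(z)) * N(S)` -/
  cent_le : centralizer ({z} : Set G) ≤ Cfsg.centralizerPPrimeCore 2 z ⊔
    (normalizer ((S : Subgroup G) : Set G) ⊓ centralizer ({z} : Set G))
  /-- the normalizer of `S` acts trivially on the quotient of order five -/
  psi_conj : ∀ k ∈ normalizer ((S : Subgroup G) : Set G),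
    ∀ v v' : ↥(centralizer ({z} : Set G)), (∀ t ∈ Z, (v : G) * t = t * v) →
      (v' : G) = k * v * k⁻¹ → psi v' = psi v

end CfsgLib.Invol.UThreeFour
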