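import Cfsg.Agent.Lib.Invol.UThreeFour.Centralizer

/-!
The local structure of a finite group with a Sylow 2-subgroup of type PSU(3,4) that is not normal.
-/

set_option autoImplicit false
set_option linter.unusedSectionVars false
set_option linter.style.haveILetI false

namespace CfsgLib.Invol.UThreeFour

open Subgroup CfsgLib.Invol

universe u

/-- The local data in the case `C(z) = O(C(z)) * S`. -/
structure LocOne (G : Type u) [Group G] [Finite G] where
  S : Sylow 2 G
  Z : Subgroup G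
  z : G
  shape : UShape (S : Subgroup G) Z
  oddCore_eq : Cfsg.oddCore G = ⊥
  hzZ : z ∈ Z
  hz : orderOf z = 2
  /-- a normal subgroup containing an involution is everything -/
  normal_top : ∀ M : Subgroup G, M.Normal → z ∈ M → M = ⊤
  /-- all involutions are conjugate -/
  conj_invol : ∀ t : G, orderOf t = 2 → IsConj z t
  le_cent : (S : Subgroup G) ≤ centralizer ({z} : Set G)
  cent_core : centralizer ({z} : Set G) ≤ Cfsg.centralizerPPrimeCore 2 z ⊔ (S : Subgroup G)
  /-- the elements of order four in `S` with square `z` are fused only within their cosets of `Z` -/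
  not_fused : ∀ x ∈ (S : Subgroup G), ∀ y ∈ (S : Subgroup G), x * x = z → y * y = z → IsConj x y →
    x⁻¹ * y ∈ Z
  k : G
  k_mem : k ∈ normalizer ((S : Subgroup G) : Set G)
  k_conj : k * z * k⁻¹ ≠ z
  k_fpf : ∀ x ∈ (S : Subgroup G), x ∉ Z → x⁻¹ * (k * x * k⁻¹) ∉ Z
  k_sum : ∀ x ∈ (S : Subgroup G), x * (k * x * k⁻¹) * (k * (k * x * k⁻¹) * k⁻¹) ∈ Z

namespace UShape

variable {G : Type u} [Group G] [Finite G] {P : Sylow 2 G} {Z : Subgroup G}
  (h : UShape (P : Subgroup G) Z)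
include h

/-- Balance between the cores of two commuting central involutions. -/
theorem core_balance {a b : G} (ha : a ∈ Z) (hb : b ∈ Z) (hb1 : b ≠ 1) {o : G}
    (ho : o ∈ Cfsg.centralizerPPrimeCore 2 a) (hob : o * b = b * o) :
    o ∈ Cfsg.centralizerPPrimeCore 2 b :=
  CfsgLib.SylL34.bal_of_solvable (h.mem_sq ha) (h.cen a ha b (h.le hb))
    (h.centralizer_spec hb hb1).1 ⟨ho, mem_centralizer_singleton_iff.2 hob⟩

/-- The odd core of the centralizer of `Z` is normalized by the normalizer of `S`. -/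
theorem core_conj_mem {z k o : G} (hz : z ∈ Z) (hz1 : z ≠ 1)
    (hk : k ∈ normalizer ((P : Subgroup G) : Set G))
    (ho : o ∈ Cfsg.centralizerPPrimeCore 2 z) (hoZ : ∀ t ∈ Z, o * t = t * o) :
    k * o * k⁻¹ ∈ Cfsg.centralizerPPrimeCore 2 z ∧ ∀ t ∈ Z, k * o * k⁻¹ * t = t * (k * o * k⁻¹) := by
  set t := k⁻¹ * z * k
  have ht : t ∈ Z := by
    have := h.normalizer_Z (inv_mem hk) hz
    simpa [t] using this
  have ht1 : t ≠ 1 := fun e => hz1 (by
    have : k * t * k⁻¹ = 1 := by rw [e]; group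
    simpa [t, mul_assoc] using this)
  have h1 := h.core_balance hz ht ht1 ho (hoZ t ht)
  have h2 : k * o * k⁻¹ ∈ Cfsg.centralizerPPrimeCore 2 (k * t * k⁻¹) :=
    CfsgLib.Comp.FunctorTriv.map_centralizerPPrimeCore_conj_le k t ⟨o, h1, rfl⟩
  rw [show k * t * k⁻¹ = z by simp only [t]; group] at h2
  refine ⟨h2, fun s hs => ?_⟩
  have hs' : k⁻¹ * s * k ∈ Z := by
    have := h.normalizer_Z (inv_mem hk) hs
    simpa using this
  calc k * o * k⁻¹ * s = k * (o * (k⁻¹ * s * k)) * k⁻¹ := by group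
    _ = k * ((k⁻¹ * s * k) * o) * k⁻¹ := by rw [hoZ _ hs']
    _ = s * (k * o * k⁻¹) := by group

/-- Decomposition inside the centralizer of `Z`. -/
theorem cent_Z_decomp {z v : G} (hz : z ∈ Z) (hz1 : z ≠ 1) (hv : ∀ t ∈ Z, v * t = t * v) :
    ∃ o ∈ Cfsg.centralizerPPrimeCore 2 z, ∃ n ∈ normalizer ((P : Subgroup G) : Set G),
      v = o * n ∧ (∀ t ∈ Z, o * t = t * o) ∧ ∀ t ∈ Z, n * t = t * n := by
  obtain ⟨o, ho, n, hn, rfl⟩ :=
    (h.centralizer_spec hz hz1).2.1 v (mem_centralizer_singleton_iff.2 (hv z hz))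
  have hnZ := h.normalizer_fix_Z hn.1 hz hz1 (mem_centralizer_singleton_iff.1 hn.2)
  refine ⟨o, ho, n, hn.1, rfl, fun t ht => ?_, hnZ⟩
  have := hv t ht
  rw [mul_assoc, hnZ t ht, ← mul_assoc, ← mul_assoc] at this
  exact mul_right_cancel this

omit h in
theorem exists_invol_Z {S : Subgroup G} (h : UShape S Z) : ∃ z ∈ Z, orderOf z = 2 := by
  by_contra hc
  push Not at hc
  have := Subgroup.card_le_of_le (show Z ≤ ⊥ from fun x hx => mem_bot.2 (by
    by_contra h1
    exact hc x hx (invol_of_mul_self (h.mem_sq hx) h1)))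
  rw [h.cardZ, Subgroup.card_bot] at this
  omega

/-- The three involutions of `Z` under an element of odd order moving one of them. -/
theorem cycle {e z : G} (he : e ∈ normalizer ((P : Subgroup G) : Set G)) (hodd : Odd (orderOf e))
    (hz : z ∈ Z) (hz1 : z ≠ 1) (hmov : e * z * e⁻¹ ≠ z) :
    e * (e * z * e⁻¹) * e⁻¹ = z * (e * z * e⁻¹) ∧
      e * (e * (e * z * e⁻¹) * e⁻¹) * e⁻¹ = z := by
  set a := e * z * e⁻¹ with ha
  have haZ : a ∈ Z := h.normalizer_Z he hz
  have ha1 : a ≠ 1 := fun e' => hz1 (conj_eq_one_iff.1 e')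
  have key : e * a * e⁻¹ = z * a := by
    rcases h.four_elts hz hz1 haZ ha1 hmov (h.normalizer_Z he haZ) with e' | e' | e' | e'
    · exact absurd (conj_eq_one_iff.1 e') ha1
    · exfalso
      have h2 : e ^ 2 * z * (e ^ 2)⁻¹ = z := by
        rw [pow_two, mul_inv_rev, show e * e * z * (e⁻¹ * e⁻¹) = e * (e * z * e⁻¹) * e⁻¹ by group]
        exact e'
      obtain ⟨j, hj⟩ := hodd
      have h3 := (show Commute (e ^ 2) z from mul_inv_eq_iff_eq_mul.1 h2).pow_left (j + 1)
      rw [← pow_mul, show 2 * (j + 1) = orderOf e + 1 by omega, pow_succ, pow_orderOf_eq_one,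
        one_mul] at h3
      exact hmov (by rw [ha, h3.eq, mul_inv_cancel_right])
    · exact absurd (mul_left_cancel (mul_right_cancel (e'.trans ha))) hmov
    · exact e'
  refine ⟨key, ?_⟩
  rw [key, show e * (z * a) * e⁻¹ = (e * z * e⁻¹) * (e * a * e⁻¹) by group, key, ← ha,
    h.cen z hz a (h.le haZ), ← mul_assoc, h.mem_sq haZ, one_mul]

/-- An element of `N(S)` moving an involution of `Z` is fixed-point-free on `S/Z`. -/
theorem fpf {e z : G} (he : e ∈ normalizer ((P : Subgroup G) : Set G)) (hodd : Odd (orderOf e))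
    (hz : z ∈ Z) (hmov : e * z * e⁻¹ ≠ z) {x : G} (hx : x ∈ (P : Subgroup G)) (hxZ : x ∉ Z) :
    x⁻¹ * (e * x * e⁻¹) ∉ Z := by
  intro hc
  have h1 : e * (x * x) * e⁻¹ = x * x := by
    rw [show e * (x * x) * e⁻¹ = (x * (x⁻¹ * (e * x * e⁻¹))) * (x * (x⁻¹ * (e * x * e⁻¹))) by group]
    exact h.sq_mul_Z hx hc
  have h2 := h.fix_Z (fun _ => h.normalizer_Z he) hodd (h.sq_mem x hx)
    (fun e' => hxZ ((h.invol x hx).1 e')) (mul_inv_eq_iff_eq_mul.1 h1) z hz
  exact hmov (by rw [h2, mul_inv_cancel_right])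

/-- In a group with trivial odd core and no odd quotient either `S` is the whole group or some
element of odd order of `N(S)` moves a given involution of `Z`. -/
theorem exists_moving (hO : Cfsg.oddCore G = ⊥)
    (hO' : ∀ N : Subgroup G, N.Normal → Odd N.index → N = ⊤) (hne : (P : Subgroup G) ≠ ⊤)
    {z : G} (hz : z ∈ Z) (hz1 : z ≠ 1) :
    ∃ e ∈ normalizer ((P : Subgroup G) : Set G), Odd (orderOf e) ∧ e * z * e⁻¹ ≠ z := by
  by_contra hc
  push Not at hc
  have hN : ∀ n ∈ normalizer ((P : Subgroup G) : Set G), ∀ y ∈ Z, n * y = y * n := by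
    intro n hn
    refine h.normalizer_fix_Z hn hz hz1 ?_
    obtain ⟨s, hs, e, -, hen, hodd, rfl⟩ := CfsgLib.SylL34.exists_odd_part P hn
    rw [mul_assoc, mul_inv_eq_iff_eq_mul.1 (hc e hen hodd), ← mul_assoc, ← h.cen z hz s hs,
      mul_assoc]
  haveI : Fact (Nat.Prime 2) := ⟨Nat.prime_two⟩
  refine hne (hO' _ (h.normal_of_central hO (h.central_of_isolated hO hN)) ?_)
  haveI := h.normal_of_central hO (h.central_of_isolated hO hN)
  rw [← Nat.not_even_iff_odd, even_iff_two_dvd]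
  exact P.not_dvd_index

/-- A normal subgroup containing an involution of `Z` is the whole group. -/
theorem normal_eq_top (hO' : ∀ N : Subgroup G, N.Normal → Odd N.index → N = ⊤)
    {e z : G} (he : e ∈ normalizer ((P : Subgroup G) : Set G)) (hodd : Odd (orderOf e))
    (hz : z ∈ Z) (hz1 : z ≠ 1) (hmov : e * z * e⁻¹ ≠ z)
    {M : Subgroup G} (hM : M.Normal) (hzM : z ∈ M) : M = ⊤ := by
  classical
  haveI : Fact (Nat.Prime 2) := ⟨Nat.prime_two⟩
  haveI := hM
  set a := e * z * e⁻¹ with ha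
  have haZ : a ∈ Z := h.normalizer_Z he hz
  have ha1 : a ≠ 1 := fun e' => hz1 (conj_eq_one_iff.1 e')
  obtain ⟨hc1, hc2⟩ := h.cycle he hodd hz hz1 hmov
  have hZM : Z ≤ M := by
    intro t ht
    rcases h.four_elts hz hz1 haZ ha1 hmov ht with e' | e' | e' | e'
    · exact e' ▸ one_mem _
    · exact e' ▸ hzM
    · exact e' ▸ hM.conj_mem z hzM e
    · exact e' ▸ mul_mem hzM (hM.conj_mem z hzM e)
  -- the part of the core of `C(z)` centralizing `Z`
  let Y : Subgroup G := Cfsg.centralizerPPrimeCore 2 z ⊓ centralizer (Z : Set G)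
  have hY : ∀ {o : G}, o ∈ Y → o ∈ Cfsg.centralizerPPrimeCore 2 z ∧ ∀ t ∈ Z, o * t = t * o :=
    fun {o} ho => ⟨ho.1, fun t ht => (mem_centralizer_iff.1 ho.2 t ht).symm⟩
  have hY' : ∀ {o : G}, o ∈ Cfsg.centralizerPPrimeCore 2 z → (∀ t ∈ Z, o * t = t * o) → o ∈ Y :=
    fun h1 h2 => ⟨h1, mem_centralizer_iff.2 fun t ht => (h2 t ht).symm⟩
  have hNY : ∀ n ∈ normalizer ((P : Subgroup G) : Set G), ∀ o ∈ Y, n * o * n⁻¹ ∈ Y := fun n hn o ho =>
    hY' (h.core_conj_mem hz hz1 hn (hY ho).1 (hY ho).2).1 (h.core_conj_mem hz hz1 hn (hY ho).1 (hY ho).2).2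
  -- the normalizer of the Sylow subgroup of `M`
  have hdecomp : ∀ g : G, ∃ m ∈ M, ∃ n ∈ normalizer ((P : Subgroup G) : Set G), ∃ y ∈ Y,
      g = m * n * y := by
    haveI : ((P : Subgroup G).subgroupOf (normalizer ((P : Subgroup G) : Set G))).Normal :=
      inferInstance
    obtain ⟨T, hT⟩ : ∃ T : Sylow 2 M, (T : Subgroup M) = (P : Subgroup G).subgroupOf M := by
      obtain ⟨T, hT⟩ := (show IsPGroup 2 ((P : Subgroup G).subgroupOf M) from
        IsPGroup.comap_subtype P.2).exists_le_sylow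
      refine ⟨T, le_antisymm ?_ hT⟩
      have h1 : Nat.card ((P : Subgroup G).subgroupOf M) = 2 ^ (Nat.card M).factorization 2 := by
        refine Nat.dvd_antisymm ?_ ?_
        · rw [← T.card_eq_multiplicity]; exact Subgroup.card_dvd_of_le hT
        · have hidx : ((P : Subgroup G).relIndex M) ∣ (P : Subgroup G).index := by
            have e1 := Subgroup.relIndex_mul_relIndex ((P : Subgroup G) ⊓ M) M
              ((P : Subgroup G) ⊔ M) inf_le_right le_sup_right
            rw [← Subgroup.relIndex_mul_relIndex ((P : Subgroup G) ⊓ M) (P : Subgroup G)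
              ((P : Subgroup G) ⊔ M) inf_le_left le_sup_left, Subgroup.inf_relIndex_right,
              Subgroup.inf_relIndex_left, Subgroup.relIndex_sup_right (H := (P : Subgroup G)) (K := M),
              mul_comm] at e1
            have hne : M.relIndex (P : Subgroup G) ≠ 0 := Subgroup.index_ne_zero_of_finite
            rw [mul_left_cancel₀ hne e1]
            exact Subgroup.relIndex_dvd_index_of_le le_sup_left
          have hnd : ¬ 2 ∣ (P : Subgroup G).relIndex M := fun hd => P.not_dvd_index (hd.trans hidx)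
          have hmul := ((P : Subgroup G).subgroupOf M).card_mul_index
          have hd : 2 ^ (Nat.card M).factorization 2 ∣
              Nat.card ((P : Subgroup G).subgroupOf M) * ((P : Subgroup G).subgroupOf M).index := by
            rw [hmul]; exact Nat.ordProj_dvd _ _
          exact (Nat.Coprime.pow_left _ (Nat.prime_two.coprime_iff_not_dvd.2 hnd)).dvd_of_dvd_mul_right hd
      exact (Subgroup.eq_of_le_of_card_ge hT (by rw [T.card_eq_multiplicity, h1])).ge
    intro g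
    obtain ⟨m, hm, n, hn, rfl⟩ : ∃ m ∈ M, ∃ n ∈ normalizer (((T : Subgroup M).map M.subtype : Subgroup G) : Set G),
        g = m * n := by
      have htop := Sylow.normalizer_sup_eq_top T
      obtain ⟨n, hn, m, hm, e'⟩ := mem_sup_of_normal_right.1 (htop.symm ▸ mem_top g :
        g ∈ normalizer (((T : Subgroup M).map M.subtype : Subgroup G) : Set G) ⊔ M)
      exact ⟨n * m * n⁻¹, hM.conj_mem m hm n, n, hn, by rw [← e']; group⟩
    have hTP : ∀ x : G, x ∈ (T : Subgroup M).map M.subtype ↔ x ∈ (P : Subgroup G) ∧ x ∈ M := by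
      intro x
      rw [hT, Subgroup.subgroupOf_map_subtype, mem_inf]
    -- such an element normalizes `Z`
    have hnZ : ∀ t ∈ Z, n * t * n⁻¹ ∈ Z := fun t ht => by
      have h1 := ((hTP _).1 ((mem_normalizer_iff.1 hn t).1 ((hTP t).2 ⟨h.le ht, hZM ht⟩))).1
      refine (h.invol _ h1).1 ?_
      rw [show n * t * n⁻¹ * (n * t * n⁻¹) = n * (t * t) * n⁻¹ by group, h.mem_sq ht, mul_one,
        mul_inv_cancel]
    obtain ⟨k, hk, hkz⟩ := h.conj_normalizer hz (hnZ z hz)
    have hc : k⁻¹ * n ∈ centralizer ({z} : Set G) := mem_centralizer_singleton_iff.2 (by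
      have : n⁻¹ * (k * z * k⁻¹) * n = z := by rw [hkz]; group
      calc k⁻¹ * n * z = k⁻¹ * n * (n⁻¹ * (k * z * k⁻¹) * n) := by rw [this]
        _ = z * (k⁻¹ * n) := by group)
    obtain ⟨o, ho, n', hn', e'⟩ := (h.centralizer_spec hz hz1).2.1 _ hc
    have hn'Z := h.normalizer_fix_Z hn'.1 hz hz1 (mem_centralizer_singleton_iff.1 hn'.2)
    have hoZ : ∀ t ∈ Z, o * t = t * o := by
      have ho' : ∀ t ∈ Z, o * t * o⁻¹ ∈ Z := by
        intro t ht
        have h1 : k⁻¹ * (n * t * n⁻¹) * k ∈ Z := by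
          have := h.normalizer_Z (inv_mem hk) (hnZ t ht)
          simpa using this
        rw [show k⁻¹ * (n * t * n⁻¹) * k = (k⁻¹ * n) * t * (k⁻¹ * n)⁻¹ by group, e',
          show o * n' * t * (o * n')⁻¹ = o * (n' * t * n'⁻¹) * o⁻¹ by group, hn'Z t ht,
          mul_inv_cancel_right] at h1
        exact h1
      refine h.fix_Z ho' ((core_odd z).of_dvd_nat (orderOf_dvd_natCard _ ho)) hz hz1
        (mem_centralizer_singleton_iff.1 (core_le z ho))
    refine ⟨m, hm, k * n', mul_mem hk hn'.1, n'⁻¹ * o * (n'⁻¹)⁻¹,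
      hNY _ (inv_mem hn'.1) o (hY' ho hoZ), ?_⟩
    rw [show m * n = m * (k * (k⁻¹ * n)) by group, e']
    group
  set M' := M ⊔ Y
  have hM' : M'.Normal := by
    refine ⟨fun x hx g => ?_⟩
    obtain ⟨w, hw, y, hy, rfl⟩ := mem_sup_of_normal_left.1 hx
    obtain ⟨m, hm, n, hn, y', hy', rfl⟩ := hdecomp g
    rw [show m * n * y' * (w * y) * (m * n * y')⁻¹ =
      (m * n * y') * w * (m * n * y')⁻¹ * (m * (n * (y' * y * y'⁻¹) * n⁻¹) * m⁻¹) by group]
    refine mul_mem (mem_sup_left (hM.conj_mem w hw _)) (mul_mem (mul_mem (mem_sup_left hm)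
      (mem_sup_right (hNY n hn _ (mul_mem (mul_mem hy' hy) (inv_mem hy'))))) (inv_mem (mem_sup_left hm)))
  haveI := hM'
  have hdecomp' : ∀ g : G, ∃ w ∈ M', ∃ n ∈ normalizer ((P : Subgroup G) : Set G), g = w * n := by
    intro g
    obtain ⟨m, hm, n, hn, y, hy, rfl⟩ := hdecomp g
    exact ⟨m * (n * y * n⁻¹), mul_mem (mem_sup_left hm) (mem_sup_right (hNY n hn y hy)), n, hn,
      by group⟩
  have hS : M' ⊔ (P : Subgroup G) = ⊤ := by
    refine hO' _ ⟨fun x hx g => ?_⟩ ?_
    · obtain ⟨w, hw, s, hs, rfl⟩ := mem_sup_of_normal_left.1 hx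
      obtain ⟨w', hw', n, hn, rfl⟩ := hdecomp' g
      rw [show w' * n * (w * s) * (w' * n)⁻¹ =
        (w' * n) * w * (w' * n)⁻¹ * (w' * (n * s * n⁻¹) * w'⁻¹) by group]
      exact mul_mem (mem_sup_left (hM'.conj_mem w hw _)) (mul_mem (mul_mem (mem_sup_left hw')
        (mem_sup_right ((mem_normalizer_iff.1 hn s).1 hs))) (inv_mem (mem_sup_left hw')))
    · rw [← Nat.not_even_iff_odd, even_iff_two_dvd]
      exact fun hd => P.not_dvd_index (hd.trans (Subgroup.index_dvd_of_le le_sup_right))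
  -- the quotient by `M'` is abelian, so `S` lies in `M'`
  have hcomm : ∀ g x : G, x ∈ (P : Subgroup G) → x⁻¹ * (g * x * g⁻¹) ∈ M' := by
    intro g x hx
    obtain ⟨w, hw, s, hs, rfl⟩ := mem_sup_of_normal_left.1 (hS.symm ▸ mem_top g : g ∈ M' ⊔ (P : Subgroup G))
    have hc := h.conj_S hx hs
    rw [show x⁻¹ * (w * s * x * (w * s)⁻¹) =
      (x⁻¹ * w * x) * (x⁻¹ * (s * x * s⁻¹)) * w⁻¹ by group]
    refine mul_mem (mul_mem ?_ (mem_sup_left (hZM hc))) (inv_mem hw)
    simpa using hM'.conj_mem w hw x⁻¹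
  have hSM : (P : Subgroup G) ≤ M' := by
    set W := (P : Subgroup G) ⊓ M'
    let Zs := Z.subgroupOf (P : Subgroup G)
    let f : (P : Subgroup G) ⧸ Zs → W := fun q => ⟨(q.out : G)⁻¹ * (e * q.out * e⁻¹),
      mem_inf.2 ⟨mul_mem (inv_mem q.out.2) ((mem_normalizer_iff.1 he _).1 q.out.2), hcomm e _ q.out.2⟩⟩
    let Zw := Z.subgroupOf W
    let f' : (P : Subgroup G) ⧸ Zs → W ⧸ Zw := fun q => QuotientGroup.mk (f q)
    have hf : Function.Injective f' := by
      intro q q' heq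
      have h1 : ((f q : W) : G)⁻¹ * (f q' : G) ∈ Z :=
        mem_subgroupOf.1 (QuotientGroup.eq.1 (show (QuotientGroup.mk (f q) : W ⧸ Zw) = QuotientGroup.mk (f q') from heq))
      rw [← QuotientGroup.out_eq' q, ← QuotientGroup.out_eq' q', QuotientGroup.eq]
      show ((q.out : G))⁻¹ * (q'.out : G) ∈ Z
      set x := (q.out : G)
      set y := (q'.out : G)
      have hx : x ∈ (P : Subgroup G) := q.out.2
      have hy : y ∈ (P : Subgroup G) := q'.out.2
      by_contra hn
      refine h.fpf he hodd hz hmov (mul_mem (inv_mem hx) hy) hn ?_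
      have hex : e * x * e⁻¹ ∈ (P : Subgroup G) := (mem_normalizer_iff.1 he x).1 hx
      change (x⁻¹ * (e * x * e⁻¹))⁻¹ * (y⁻¹ * (e * y * e⁻¹)) ∈ Z at h1
      rw [show (x⁻¹ * y)⁻¹ * (e * (x⁻¹ * y) * e⁻¹) =
        y⁻¹ * ((x * (e * x * e⁻¹)⁻¹) * y * (x * (e * x * e⁻¹)⁻¹)⁻¹) *
          ((x⁻¹)⁻¹ * ((e * x * e⁻¹)⁻¹ * x⁻¹ * ((e * x * e⁻¹)⁻¹)⁻¹)) *
          ((x⁻¹ * (e * x * e⁻¹))⁻¹ * (y⁻¹ * (e * y * e⁻¹))) by group]
      exact mul_mem (mul_mem (h.conj_S hy (mul_mem hx (inv_mem hex)))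
        (h.conj_S (inv_mem hx) (inv_mem hex))) h1
    have h16 : Nat.card ((P : Subgroup G) ⧸ Zs) = 16 := by
      have := Subgroup.card_eq_card_quotient_mul_card_subgroup Zs
      rw [h.cardS, Nat.card_congr (subgroupOfEquivOfLe h.le).toEquiv, h.cardZ] at this
      omega
    have hW : 64 ≤ Nat.card W := by
      rw [Subgroup.card_eq_card_quotient_mul_card_subgroup Zw,
        Nat.card_congr (subgroupOfEquivOfLe (le_inf h.le (hZM.trans le_sup_left))).toEquiv, h.cardZ]
      have := Nat.card_le_card_of_injective f' hf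
      omega
    exact le_of_eq_of_le (Subgroup.eq_of_le_of_card_ge inf_le_left (by rw [h.cardS]; exact hW)).symm
      inf_le_right
  have hM'top : M' = ⊤ := by rw [← hS, sup_eq_left.2 hSM]
  refine hO' M hM ?_
  have hd : M.relIndex (M ⊔ Y) ∣ Nat.card Y := by
    rw [Subgroup.relIndex_sup_left]
    exact Subgroup.relIndex_dvd_card _ _
  rw [show M ⊔ Y = ⊤ from hM'top, Subgroup.relIndex_top_right] at hd
  exact ((core_odd z).of_dvd_nat (Subgroup.card_dvd_of_le inf_le_left)).of_dvd_nat hd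

end UShape

/-- The case distinction: the Sylow subgroup is everything, or one of the two local configurations. -/
theorem exists_local {G : Type u} [Group G] [Finite G] {P : Sylow 2 G} {Z : Subgroup G}
    (h : UShape (P : Subgroup G) Z) (hO : Cfsg.oddCore G = ⊥)
    (hO' : ∀ N : Subgroup G, N.Normal → Odd N.index → N = ⊤) :
    (P : Subgroup G) = ⊤ ∨ (∃ D : LocOne G, D.S = P) ∨ ∃ D : Loc G, D.S = P := by
  classical
  haveI : Fact (Nat.Prime 2) := ⟨Nat.prime_two⟩
  by_cases hne : (P : Subgroup G) = ⊤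
  · exact Or.inl hne
  refine Or.inr ?_
  obtain ⟨z, hz, hz2⟩ := h.exists_invol_Z
  have hz1 : z ≠ 1 := invol_ne_one hz2
  obtain ⟨e, he, hodd, hmov⟩ := h.exists_moving hO hO' hne hz hz1
  obtain ⟨hc1, hc2⟩ := h.cycle he hodd hz hz1 hmov
  set a := e * z * e⁻¹ with ha
  have haZ : a ∈ Z := h.normalizer_Z he hz
  have ha1 : a ≠ 1 := fun e' => hz1 (conj_eq_one_iff.1 e')
  have hconjZ : ∀ t ∈ Z, t ≠ 1 → ∃ k ∈ normalizer ((P : Subgroup G) : Set G), k * z * k⁻¹ = t := by
    intro t ht ht1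
    rcases h.four_elts hz hz1 haZ ha1 hmov ht with e' | e' | e' | e'
    · exact absurd e' ht1
    · exact ⟨1, one_mem _, by simp [e']⟩
    · exact ⟨e, he, by rw [e', ha]⟩
    · exact ⟨e * e, mul_mem he he, by
        rw [e', ← hc1, ha, mul_inv_rev]; group⟩
  have hinv : ∀ t : G, orderOf t = 2 → IsConj z t := by
    intro t ht
    obtain ⟨Q, hQ⟩ := (IsPGroup.of_card (p := 2) (n := 1) (G := zpowers t)
      (by rw [Nat.card_zpowers, ht, pow_one])).exists_le_sylow
    obtain ⟨g, hg⟩ := MulAction.exists_smul_eq G Q P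
    have hgt : g * t * g⁻¹ ∈ (P : Subgroup G) := by
      rw [← hg]
      exact ⟨t, hQ (mem_zpowers t), rfl⟩
    have hgZ : g * t * g⁻¹ ∈ Z := (h.invol _ hgt).1 (by
      rw [show g * t * g⁻¹ * (g * t * g⁻¹) = g * (t * t) * g⁻¹ by group, invol_mul_self ht, mul_one,
        mul_inv_cancel])
    obtain ⟨k, -, hk⟩ := hconjZ _ hgZ (fun e' => invol_ne_one ht (conj_eq_one_iff.1 e'))
    exact isConj_iff.2 ⟨g⁻¹ * k, by
      rw [show g⁻¹ * k * z * (g⁻¹ * k)⁻¹ = g⁻¹ * (k * z * k⁻¹) * g by group, hk]; group⟩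
  have hnt : ∀ M : Subgroup G, M.Normal → z ∈ M → M = ⊤ := fun M hM hzM =>
    h.normal_eq_top hO' he hodd hz hz1 hmov hM hzM
  have hlc := h.le_centralizer hz
  obtain ⟨-, hdec, hcs, hfour, hOS, hcase⟩ := h.centralizer_spec hz hz1
  have hfix3 : e * e * e * z * (e * e * e)⁻¹ = z := by
    rw [show e * e * e * z * (e * e * e)⁻¹ = e * (e * (e * z * e⁻¹) * e⁻¹) * e⁻¹ by group]
    exact hc2
  -- elements of `N(S) ∩ O S` are inner on `S` modulo centralizing elements
  have hinner : ∀ n ∈ normalizer ((P : Subgroup G) : Set G),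
      n ∈ Cfsg.centralizerPPrimeCore 2 z ⊔ (P : Subgroup G) →
      ∃ s ∈ (P : Subgroup G), ∀ x ∈ (P : Subgroup G), n * x * n⁻¹ = s * x * s⁻¹ := by
    intro n hn hnL
    obtain ⟨u, hu, s, hs, rfl⟩ := hOS n hnL
    refine ⟨s, hs, fun x hx => ?_⟩
    have huN : u ∈ normalizer ((P : Subgroup G) : Set G) := by
      simpa using mul_mem hn (inv_mem (le_normalizer hs))
    rw [show u * s * x * (u * s)⁻¹ = u * (s * x * s⁻¹) * u⁻¹ by group,
      h.core_centralizes hz hu huN (mul_mem (mul_mem hs hx) (inv_mem hs)), mul_inv_cancel_right]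
  have he3 : e * e * e ∈ normalizer ((P : Subgroup G) : Set G) ⊓ centralizer ({z} : Set G) :=
    ⟨mul_mem (mul_mem he he) he, mem_centralizer_singleton_iff.2 (mul_inv_eq_iff_eq_mul.1 hfix3)⟩
  rcases hcase with hone | ⟨⟨psi, hsurj, hker⟩, hcard, htrans⟩
  · left
    refine ⟨⟨P, Z, z, h, hO, hz, hz2, hnt, hinv, hlc, hone, ?_, e, he, hmov,
      fun x hx hxZ => h.fpf he hodd hz hmov hx hxZ, ?_⟩, rfl⟩
    · intro x hx y hy hxx hyy hc
      obtain ⟨g, hg⟩ := isConj_iff.1 hc
      have hgH : g ∈ centralizer ({z} : Set G) := mem_centralizer_singleton_iff.2 (by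
        have : g * z * g⁻¹ = z := by
          rw [← hxx, show g * (x * x) * g⁻¹ = g * x * g⁻¹ * (g * x * g⁻¹) by group, hg, hyy, hxx]
        exact mul_inv_eq_iff_eq_mul.1 this)
      obtain ⟨u, hu, s, hs, rfl⟩ := hOS g (hone hgH)
      set w := s * x * s⁻¹
      have hw : w ∈ (P : Subgroup G) := mul_mem (mul_mem hs hx) (inv_mem hs)
      have hy' : u * w * u⁻¹ = y := by rw [← hg]; simp only [w]; group
      have h1 : w⁻¹ * y = 1 := UShape.core_inter (z := z) (P := P) (by
        rw [← hy', show w⁻¹ * (u * w * u⁻¹) = (w⁻¹ * u * (w⁻¹)⁻¹) * u⁻¹ by group]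
        exact mul_mem (UShape.core_conj (inv_mem (hlc hw)) hu) (inv_mem hu))
        (mul_mem (inv_mem hw) hy)
      rw [← inv_mul_eq_one.1 h1]
      exact h.conj_S hx hs
    · intro x hx
      obtain ⟨s, hs, hs'⟩ := hinner _ he3.1 (hone he3.2)
      set b := e * x * e⁻¹
      set c := e * b * e⁻¹
      have hb : b ∈ (P : Subgroup G) := (mem_normalizer_iff.1 he x).1 hx
      have hc : c ∈ (P : Subgroup G) := (mem_normalizer_iff.1 he b).1 hb
      by_contra hw
      refine h.fpf he hodd hz hmov (mul_mem (mul_mem hx hb) hc) hw ?_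
      set d := e * c * e⁻¹
      have hd : x⁻¹ * d ∈ Z := by
        rw [show d = e * e * e * x * (e * e * e)⁻¹ by simp only [d, c, b]; group, hs' x hx]
        exact h.conj_S hx hs
      rw [show (x * b * c)⁻¹ * (e * (x * b * c) * e⁻¹) = ((b * c)⁻¹ * (x⁻¹ * ((b * c) * x * (b * c)⁻¹))
          * (b * c)) * (x⁻¹ * d) by simp only [d, c, b]; group]
      refine mul_mem ?_ hd
      rw [show (b * c)⁻¹ * (x⁻¹ * ((b * c) * x * (b * c)⁻¹)) * (b * c) =
        (b * c)⁻¹ * (x⁻¹ * ((b * c) * x * (b * c)⁻¹)) * ((b * c)⁻¹)⁻¹ by group,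
        h.conj_Z (inv_mem (mul_mem hb hc)) (h.conj_S hx (mul_mem hb hc))]
      exact h.conj_S hx (mul_mem hb hc)
  · right
    have hsqz : ∀ x ∈ (P : Subgroup G), x ∉ Z →
        ∃ x' ∈ (P : Subgroup G), x' * x' = z ∧ IsConj x x' := by
      intro x hx hxZ
      obtain ⟨k, hk, hkz⟩ := hconjZ _ (h.sq_mem x hx) (fun e' => hxZ ((h.invol x hx).1 e'))
      refine ⟨k⁻¹ * x * (k⁻¹)⁻¹, (mem_normalizer_iff.1 (inv_mem hk) x).1 hx, ?_,
        isConj_iff.2 ⟨k⁻¹, rfl⟩⟩
      rw [show k⁻¹ * x * (k⁻¹)⁻¹ * (k⁻¹ * x * (k⁻¹)⁻¹) = k⁻¹ * (x * x) * k by group, ← hkz]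
      group
    refine ⟨⟨P, Z, z, h, hO, hz, hz2, hnt, hconjZ, hinv, ?_, hlc, psi, hsurj, hker, hcard,
      hfour, ?_, ?_⟩, rfl⟩
    · intro x hx y hy hxZ hyZ
      obtain ⟨x', hx', hxx, hcx⟩ := hsqz x hx hxZ
      obtain ⟨y', hy', hyy, hcy⟩ := hsqz y hy hyZ
      obtain ⟨n, -, hn⟩ := htrans x' hx' y' hy' hxx hyy
      exact (hcx.trans (isConj_iff.2 ⟨n, hn⟩)).trans hcy.symm
    · intro g hg
      obtain ⟨o, ho, n, hn, rfl⟩ := hdec g hg
      exact mul_mem (mem_sup_left ho) (mem_sup_right hn)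
    · intro k hk v v' hvZ hv'
      -- the map induced on the quotient of order five is trivial
      let H := centralizer ({z} : Set G)
      have hN1 : ∀ n ∈ normalizer ((P : Subgroup G) : Set G), (∀ t ∈ Z, n * t = t * n) →
          ∀ t ∈ Z, k * n * k⁻¹ * t = t * (k * n * k⁻¹) := by
        intro n hn hnZ t ht
        have ht' : k⁻¹ * t * k ∈ Z := by
          have := h.normalizer_Z (inv_mem hk) ht
          simpa using this
        calc k * n * k⁻¹ * t = k * (n * (k⁻¹ * t * k)) * k⁻¹ := by group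
          _ = k * ((k⁻¹ * t * k) * n) * k⁻¹ := by rw [hnZ _ ht']
          _ = t * (k * n * k⁻¹) := by group
      let N1 : Subgroup G := normalizer ((P : Subgroup G) : Set G) ⊓ centralizer (Z : Set G)
      have hN1mem : ∀ n : G, n ∈ N1 ↔ n ∈ normalizer ((P : Subgroup G) : Set G) ∧
          ∀ t ∈ Z, n * t = t * n := fun n => by
        simp only [N1, mem_inf, mem_centralizer_iff, SetLike.mem_coe]
        exact and_congr_right fun _ => forall₂_congr fun t _ => eq_comm
      have hN1H : N1 ≤ H := fun n hn => mem_centralizer_singleton_iff.2 (((hN1mem n).1 hn).2 z hz)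
      have hconj : ∀ n ∈ N1, k * n * k⁻¹ ∈ N1 := fun n hn =>
        (hN1mem _).2 ⟨mul_mem (mul_mem hk ((hN1mem n).1 hn).1) (inv_mem hk),
          hN1 n ((hN1mem n).1 hn).1 ((hN1mem n).1 hn).2⟩
      -- the kernel is invariant
      have hkinv : ∀ (n : G) (hn : n ∈ N1), psi ⟨n, hN1H hn⟩ = 1 →
          psi ⟨k * n * k⁻¹, hN1H (hconj n hn)⟩ = 1 := by
        intro n hn h1
        obtain ⟨s, hs, hs'⟩ := hinner n ((hN1mem n).1 hn).1 ((hker _).1 h1)
        rw [hker]
        set s' := k * s * k⁻¹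
        have hsS : s' ∈ (P : Subgroup G) := (mem_normalizer_iff.1 hk s).1 hs
        have hcm : s'⁻¹ * (k * n * k⁻¹) ∈ Cfsg.centralizerPPrimeCore 2 z ⊔ (P : Subgroup G) := by
          refine hcs _ (mul_mem (inv_mem (hlc hsS)) (hN1H (hconj n hn))) fun x hx => ?_
          have hx' : k⁻¹ * x * k ∈ (P : Subgroup G) := by
            have := (mem_normalizer_iff.1 (inv_mem hk) x).1 hx
            simpa using this
          have h2 := hs' _ hx'
          calc s'⁻¹ * (k * n * k⁻¹) * x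
              = k * s⁻¹ * (n * (k⁻¹ * x * k) * n⁻¹) * (n * k⁻¹) := by simp only [s']; group
            _ = k * s⁻¹ * (s * (k⁻¹ * x * k) * s⁻¹) * (n * k⁻¹) := by rw [h2]
            _ = x * (s'⁻¹ * (k * n * k⁻¹)) := by simp only [s']; group
        show k * n * k⁻¹ ∈ _
        rw [show k * n * k⁻¹ = s' * (s'⁻¹ * (k * n * k⁻¹)) by group]
        exact mul_mem (mem_sup_right hsS) hcm
      let alpha : N1 →* Multiplicative (ZMod 5) := psi.comp (Subgroup.inclusion hN1H)
      let c : N1 →* N1 :=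
        { toFun := fun n => ⟨k * n * k⁻¹, hconj n n.2⟩
          map_one' := Subtype.ext (by simp)
          map_mul' := fun x y => Subtype.ext (by simp only [Subgroup.coe_mul]; group) }
      obtain ⟨v0, hv0⟩ := hsurj (Multiplicative.ofAdd (1 : ZMod 5))
      obtain ⟨o0, ho0, n0, hn0, e0⟩ := hdec v0 v0.2
      have hn0N : n0 ∈ N1 := (hN1mem n0).2
        ⟨hn0.1, h.normalizer_fix_Z hn0.1 hz hz1 (mem_centralizer_singleton_iff.1 hn0.2)⟩
      have hpsiO : ∀ (o : G) (ho : o ∈ Cfsg.centralizerPPrimeCore 2 z),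
          psi ⟨o, UShape.core_le z ho⟩ = 1 := fun o ho => (hker _).2 (mem_sup_left ho)
      have hgen : alpha ⟨n0, hn0N⟩ = Multiplicative.ofAdd (1 : ZMod 5) := by
        rw [← hv0, show v0 = ⟨o0, UShape.core_le z ho0⟩ * ⟨n0, hn0.2⟩ from Subtype.ext e0, map_mul,
          hpsiO o0 ho0, one_mul]
        rfl
      set i := Multiplicative.toAdd (alpha (c ⟨n0, hn0N⟩))
      have hlin : ∀ n : N1, Multiplicative.toAdd (alpha (c n)) = i * Multiplicative.toAdd (alpha n) := by
        intro n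
        set r := (Multiplicative.toAdd (alpha n)).val
        have e1 : alpha (n * (⟨n0, hn0N⟩ ^ r)⁻¹) = 1 := by
          rw [map_mul, map_inv, map_pow, hgen, mul_inv_eq_one]
          refine Multiplicative.toAdd.injective ?_
          rw [toAdd_pow, toAdd_ofAdd, nsmul_eq_mul, mul_one, ZMod.natCast_zmod_val]
        have e2 : alpha (c (n * (⟨n0, hn0N⟩ ^ r)⁻¹)) = 1 := hkinv _ (Subtype.prop _) e1
        rw [map_mul, map_mul, map_inv, map_inv, map_pow, map_pow, mul_inv_eq_one] at e2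
        rw [e2, toAdd_pow, nsmul_eq_mul, ZMod.natCast_zmod_val, mul_comm]
      have hk3 : k * k * k ∈ H := by
        obtain ⟨s, hs, f, -, hfn, hfodd, rfl⟩ := CfsgLib.SylL34.exists_odd_part P hk
        have hact : ∀ t ∈ Z, s * f * t * (s * f)⁻¹ = f * t * f⁻¹ := fun t ht => by
          rw [show s * f * t * (s * f)⁻¹ = s * (f * t * f⁻¹) * s⁻¹ by group,
            h.conj_Z hs (h.normalizer_Z hfn ht)]
        refine mem_centralizer_singleton_iff.2 (mul_inv_eq_iff_eq_mul.1 ?_)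
        rw [show s * f * (s * f) * (s * f) * z * (s * f * (s * f) * (s * f))⁻¹ =
          s * f * (s * f * (s * f * z * (s * f)⁻¹) * (s * f)⁻¹) * (s * f)⁻¹ by group,
          hact z hz, hact _ (h.normalizer_Z hfn hz), hact _ (h.normalizer_Z hfn (h.normalizer_Z hfn hz))]
        by_cases hm : f * z * f⁻¹ = z
        · rw [hm, hm, hm]
        · exact (h.cycle hfn hfodd hz hz1 hm).2
      have hi : i = 1 := by
        have e3 : alpha (c (c (c ⟨n0, hn0N⟩))) = alpha ⟨n0, hn0N⟩ := by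
          show psi _ = psi _
          rw [show Subgroup.inclusion hN1H (c (c (c ⟨n0, hn0N⟩))) =
            ⟨k * k * k, hk3⟩ * Subgroup.inclusion hN1H ⟨n0, hn0N⟩ * ⟨k * k * k, hk3⟩⁻¹ from
              Subtype.ext (by
                show k * (k * (k * n0 * k⁻¹) * k⁻¹) * k⁻¹ = k * k * k * n0 * (k * k * k)⁻¹
                group), map_mul, map_mul, map_inv, mul_comm (psi ⟨k * k * k, hk3⟩),
            mul_inv_cancel_right]
        have e4 := congrArg Multiplicative.toAdd e3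
        rw [hlin, hlin, hlin, hgen, toAdd_ofAdd, mul_one] at e4
        have key : ∀ i : ZMod 5, i * (i * i) = 1 → i = 1 := by decide
        exact key i e4
      obtain ⟨o, ho, n, hn, ev, hoZ, hnZ⟩ := h.cent_Z_decomp hz hz1 hvZ
      have hnN : n ∈ N1 := (hN1mem n).2 ⟨hn, hnZ⟩
      have hko := h.core_conj_mem hz hz1 hk ho hoZ
      rw [show v' = ⟨k * o * k⁻¹, UShape.core_le z hko.1⟩ * ⟨k * n * k⁻¹, hN1H (hconj n hnN)⟩ from
          Subtype.ext (by rw [hv', ev]; simp only [Subgroup.coe_mul]; group),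
        show v = ⟨o, UShape.core_le z ho⟩ * ⟨n, hN1H hnN⟩ from Subtype.ext ev, map_mul, map_mul,
        hpsiO _ hko.1, hpsiO o ho, one_mul, one_mul]
      have := hlin ⟨n, hnN⟩
      rw [hi, one_mul] at this
      exact Multiplicative.toAdd.injective this

end CfsgLib.Invol.UThreeFour
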