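import Cfsg.Agent.Lib.Invol.UThreeFour.Local
import Cfsg.Agent.Lib.Invol.Q8Char

/-!
The case `C(z) = O(C(z)) * S`: representatives of the classes of elements of order four and sums
over subgroups of `S`.
-/

set_option autoImplicit false
set_option linter.unusedSectionVars false
set_option linter.style.haveILetI false

namespace CfsgLib.Invol.UThreeFour.One

open Cfsg Subgroup

universe u

variable {G : Type u} [Group G] [Finite G] (D : LocOne G)

theorem z_ne_one : D.z ≠ 1 := invol_ne_one D.hz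

theorem k_sq : D.k * (D.k * D.z * D.k⁻¹) * D.k⁻¹ = D.z * (D.k * D.z * D.k⁻¹) := by
  obtain ⟨s, hs, e, -, hen, hodd, hk⟩ := CfsgLib.SylL34.exists_odd_part D.S D.k_mem
  have hact : ∀ t ∈ D.Z, D.k * t * D.k⁻¹ = e * t * e⁻¹ := fun t ht => by
    rw [hk, show s * e * t * (s * e)⁻¹ = s * (e * t * e⁻¹) * s⁻¹ by group,
      D.shape.conj_Z hs (D.shape.normalizer_Z hen ht)]
  have ha := hact _ D.hzZ
  rw [ha, hact _ (D.shape.normalizer_Z hen D.hzZ)]
  refine (D.shape.cycle hen hodd D.hzZ (z_ne_one D) ?_).1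
  rw [← ha]
  exact D.k_conj

theorem kpow_mem (m : ℕ) : D.k ^ m ∈ normalizer ((D.S : Subgroup G) : Set G) := pow_mem D.k_mem m

theorem kpow_Z (m : ℕ) {t : G} (ht : t ∈ D.Z) : D.k ^ m * t * (D.k ^ m)⁻¹ ∈ D.Z :=
  D.shape.normalizer_Z (kpow_mem D m) ht

theorem kpow_z_inj {m m' : Fin 3}
    (h : D.k ^ (m : ℕ) * D.z * (D.k ^ (m : ℕ))⁻¹ = D.k ^ (m' : ℕ) * D.z * (D.k ^ (m' : ℕ))⁻¹) :
    m = m' := by
  set a := D.k * D.z * D.k⁻¹ with ha
  have e2 : D.k ^ 2 * D.z * (D.k ^ 2)⁻¹ = D.z * a := by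
    rw [← k_sq D, sq]; group
  have haz : a ≠ D.z := D.k_conj
  have hza : D.z * a ≠ D.z := fun e => z_ne_one D (by
    have : a = 1 := mul_eq_left.1 e
    exact conj_eq_one_iff.1 this)
  have hza' : D.z * a ≠ a := fun e => z_ne_one D (mul_eq_right.1 e)
  fin_cases m <;> fin_cases m' <;>
    simp only [Fin.isValue, Fin.val_zero, Fin.val_one, Fin.val_two, pow_zero, one_mul, inv_one,
      mul_one, pow_one, e2, Fin.zero_eta, Fin.mk_one, Fin.reduceFinMk] at h ⊢
  all_goals first
    | rfl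
    | exact absurd h haz | exact absurd h.symm haz
    | exact absurd h hza | exact absurd h.symm hza
    | exact absurd h hza' | exact absurd h.symm hza'

/-- Representatives of the five cosets of elements with square `z`. -/
structure Reps where
  x : Fin 5 → G
  mem : ∀ j, x j ∈ (D.S : Subgroup G)
  sq : ∀ j, x j * x j = D.z
  coset : ∀ i j, (x i)⁻¹ * x j ∈ D.Z → i = j

theorem exists_reps : Nonempty (Reps D) := by
  classical
  haveI : Fintype G := Fintype.ofFinite G
  set A := Finset.univ.filter fun g : G => g ∈ (D.S : Subgroup G) ∧ g * g = D.z with hA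
  have hA20 : A.card = 20 := by
    rw [← D.shape.fib D.z D.hzZ (z_ne_one D), Nat.card_eq_fintype_card, Fintype.card_subtype]
  set I := A.image (fun g : G => (QuotientGroup.mk g : G ⧸ D.Z)) with hI
  have hle : A.card ≤ 4 * I.card := by
    refine Finset.card_le_mul_card_image A 4 fun q hq => ?_
    obtain ⟨g, -, rfl⟩ := Finset.mem_image.1 hq
    calc (A.filter fun b => (QuotientGroup.mk b : G ⧸ D.Z) = QuotientGroup.mk g).card
        ≤ ((Finset.univ.filter fun t : G => t ∈ D.Z).image fun t => g * t).card := by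
          refine Finset.card_le_card fun b hb => ?_
          refine Finset.mem_image.2 ⟨g⁻¹ * b, Finset.mem_filter.2 ⟨Finset.mem_univ _, ?_⟩,
            mul_inv_cancel_left _ _⟩
          exact QuotientGroup.eq.1 (Finset.mem_filter.1 hb).2.symm
      _ ≤ (Finset.univ.filter fun t : G => t ∈ D.Z).card := Finset.card_image_le
      _ = 4 := by rw [← Fintype.card_subtype, ← Nat.card_eq_fintype_card]; exact D.shape.cardZ
  obtain ⟨e⟩ : Nonempty (Fin 5 ↪ I) := Function.Embedding.nonempty_of_card_le (by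
    rw [Fintype.card_fin, Fintype.card_coe]; omega)
  choose x hx hq using fun j => Finset.mem_image.1 (e j).2
  refine ⟨⟨x, fun j => (Finset.mem_filter.1 (hx j)).2.1, fun j => (Finset.mem_filter.1 (hx j)).2.2,
    fun i j hij => e.injective (Subtype.ext ?_)⟩⟩
  rw [← hq i, ← hq j]
  exact QuotientGroup.eq.2 hij

variable {D} (R : Reps D)

theorem x_not_Z (j : Fin 5) : R.x j ∉ D.Z := fun h => z_ne_one D (by
  rw [← R.sq j, D.shape.mem_sq h])

/-- The translates under the normalizing element. -/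
def rep (j : Fin 5) (m : Fin 3) : G := D.k ^ (m : ℕ) * R.x j * (D.k ^ (m : ℕ))⁻¹

theorem rep_mem (j : Fin 5) (m : Fin 3) : rep R j m ∈ (D.S : Subgroup G) :=
  (mem_normalizer_iff.1 (kpow_mem D m) _).1 (R.mem j)

theorem rep_sq (j : Fin 5) (m : Fin 3) :
    rep R j m * rep R j m = D.k ^ (m : ℕ) * D.z * (D.k ^ (m : ℕ))⁻¹ := by
  rw [← R.sq j, rep]; group

theorem rep_not_Z (j : Fin 5) (m : Fin 3) : rep R j m ∉ D.Z := fun h => z_ne_one D (by
  have e := D.shape.mem_sq h
  rw [rep_sq] at e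
  exact conj_eq_one_iff.1 e)

theorem rep_inj {j j' : Fin 5} {m m' : Fin 3} {t t' : G} (ht : t ∈ D.Z) (ht' : t' ∈ D.Z)
    (h : rep R j m * t = rep R j' m' * t') : j = j' ∧ m = m' ∧ t = t' := by
  have hm : m = m' := by
    have e := congrArg (fun y => y * y) h
    simp only [D.shape.sq_mul_Z (rep_mem R j m) ht, D.shape.sq_mul_Z (rep_mem R j' m') ht', rep_sq] at e
    exact kpow_z_inj D e
  subst hm
  have hz : (rep R j m)⁻¹ * rep R j' m ∈ D.Z := by
    rw [show (rep R j m)⁻¹ * rep R j' m = t * t'⁻¹ by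
      rw [← mul_right_inj (rep R j m), mul_inv_cancel_left, ← mul_assoc, h, mul_inv_cancel_right]]
    exact mul_mem ht (inv_mem ht')
  have hj : j = j' := by
    refine R.coset j j' ?_
    have := D.shape.normalizer_Z (inv_mem (kpow_mem D m)) hz
    rw [rep, rep, show (D.k ^ (m : ℕ))⁻¹ *
      ((D.k ^ (m : ℕ) * R.x j * (D.k ^ (m : ℕ))⁻¹)⁻¹ * (D.k ^ (m : ℕ) * R.x j' * (D.k ^ (m : ℕ))⁻¹)) *
      (D.k ^ (m : ℕ))⁻¹⁻¹ = (R.x j)⁻¹ * R.x j' by group] at this
    exact this
  subst hj
  exact ⟨rfl, rfl, mul_left_cancel h⟩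

/-- Sums of a class function over subgroups between `Z` and `S`. -/
theorem sum_sub {φ : G → ℂ} (hφ : IsClassFunction G φ) {H : Subgroup G} [Fintype H]
    (hZH : D.Z ≤ H) (hHS : H ≤ (D.S : Subgroup G)) [∀ j, DecidablePred fun m => rep R j m ∈ H] :
    ∑ s : H, φ s = φ 1 + 3 * φ D.z +
      4 * ∑ j, ((Finset.univ.filter fun m => rep R j m ∈ H).card : ℂ) * φ (R.x j) := by
  classical
  haveI : Fintype G := Fintype.ofFinite G
  set Zf := Finset.univ.filter fun t : G => t ∈ D.Z with hZf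
  have hZ4 : Zf.card = 4 := by
    rw [hZf, ← Fintype.card_subtype, ← Nat.card_eq_fintype_card]; exact D.shape.cardZ
  have hall : ((Finset.univ : Finset (Fin 5 × Fin 3)) ×ˢ Zf).card = 60 := by
    rw [Finset.card_product, hZ4]; rfl
  set Sf := Finset.univ.filter fun s : G => s ∈ (D.S : Subgroup G) ∧ s ∉ D.Z with hSf
  have hmaps : ∀ p ∈ (Finset.univ : Finset (Fin 5 × Fin 3)) ×ˢ Zf, rep R p.1.1 p.1.2 * p.2 ∈ Sf := by
    rintro ⟨⟨j, m⟩, t⟩ hp
    simp only [hZf, Finset.mem_product, Finset.mem_filter, Finset.mem_univ, true_and] at hp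
    simp only [hSf, Finset.mem_filter, Finset.mem_univ, true_and]
    exact ⟨mul_mem (rep_mem R j m) (D.shape.le hp), fun h => rep_not_Z R j m (by
      simpa using mul_mem h (inv_mem hp))⟩
  have hinj : Set.InjOn (fun p : (Fin 5 × Fin 3) × G => rep R p.1.1 p.1.2 * p.2)
      ((Finset.univ : Finset (Fin 5 × Fin 3)) ×ˢ Zf : Finset _) := by
    rintro ⟨⟨j, m⟩, t⟩ hp ⟨⟨j', m'⟩, t'⟩ hp' e
    simp only [hZf, Finset.coe_product, Set.mem_prod, Finset.coe_filter, Finset.mem_univ, true_and,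
      Set.mem_setOf_eq, Finset.coe_univ, Set.mem_univ] at hp hp'
    obtain ⟨rfl, rfl, rfl⟩ := rep_inj R hp hp' e
    rfl
  have himg : ((Finset.univ : Finset (Fin 5 × Fin 3)) ×ˢ Zf).image
      (fun p => rep R p.1.1 p.1.2 * p.2) = Sf := by
    refine Finset.eq_of_subset_of_card_le (fun s hs => ?_) ?_
    · obtain ⟨p, hp, rfl⟩ := Finset.mem_image.1 hs; exact hmaps p hp
    · rw [Finset.card_image_of_injOn hinj, hall, hSf, show (Finset.univ.filter fun s : G =>
          s ∈ (D.S : Subgroup G) ∧ s ∉ D.Z) = (Finset.univ.filter fun s : G => s ∈ (D.S : Subgroup G)) \ Zf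
        by ext s; simp [hZf], Finset.card_sdiff_of_subset (fun s hs => by
          simp only [hZf, Finset.mem_filter, Finset.mem_univ, true_and] at hs ⊢
          exact D.shape.le hs), hZ4, ← Fintype.card_subtype, ← Nat.card_eq_fintype_card]
      exact le_of_eq (by rw [show Nat.card {s : G // s ∈ (D.S : Subgroup G)} = 64 from D.shape.cardS])
  rw [← Finset.sum_subtype (Finset.univ.filter fun s : G => s ∈ H) (fun s => by simp) φ,
    ← Finset.sum_filter_add_sum_filter_not _ (fun s : G => s ∈ D.Z)]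
  congr 1
  · have e : (Finset.univ.filter fun s : G => s ∈ H).filter (fun s => s ∈ D.Z) = Zf := by
      ext s; simp only [hZf, Finset.mem_filter, Finset.mem_univ, true_and]
      exact ⟨fun h => h.2, fun h => ⟨hZH h, h⟩⟩
    have h1 : (1 : G) ∈ Zf := by simp [hZf]
    rw [e, ← Finset.add_sum_erase _ _ h1, Finset.sum_congr rfl (g := fun _ => φ D.z) fun t ht => by
      obtain ⟨ht1, ht⟩ := Finset.mem_erase.1 ht
      have htZ : t ∈ D.Z := (Finset.mem_filter.1 ht).2
      obtain ⟨g, hg⟩ := isConj_iff.1 (D.conj_invol t (orderOf_eq_prime (by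
        rw [sq, D.shape.mem_sq htZ]) ht1))
      show φ t = φ D.z
      rw [← hg, hφ D.z g], Finset.sum_const, Finset.card_erase_of_mem h1, hZ4, nsmul_eq_mul]
    norm_num
  · have e : (Finset.univ.filter fun s : G => s ∈ H).filter (fun s => ¬ s ∈ D.Z) =
        Sf.filter fun s => s ∈ H := by
      ext s; simp only [hSf, Finset.mem_filter, Finset.mem_univ, true_and]
      exact ⟨fun h => ⟨⟨hHS h.1, h.2⟩, h.1⟩, fun h => ⟨h.2, h.1.2⟩⟩
    rw [e, Finset.sum_filter, ← himg, Finset.sum_image hinj, Finset.sum_product, Fintype.sum_prod_type,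
      Finset.mul_sum]
    refine Finset.sum_congr rfl fun j _ => ?_
    have hterm : ∀ m, ∑ t ∈ Zf, (if rep R j m * t ∈ H then φ (rep R j m * t) else 0) =
        if rep R j m ∈ H then 4 * φ (R.x j) else 0 := by
      intro m
      have hv : ∀ t ∈ Zf, φ (rep R j m * t) = φ (R.x j) := fun t ht => by
        obtain ⟨y, -, hy⟩ := D.shape.exists_conj_mul (rep_mem R j m) (rep_not_Z R j m)
          (Finset.mem_filter.1 ht).2
        rw [← hy, hφ (rep R j m) y]
        exact hφ (R.x j) (D.k ^ (m : ℕ))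
      by_cases hm : rep R j m ∈ H
      · rw [if_pos hm, Finset.sum_congr rfl fun t ht => by
          rw [if_pos (mul_mem hm (hZH (Finset.mem_filter.1 ht).2)), hv t ht],
          Finset.sum_const, hZ4, nsmul_eq_mul]
        norm_num
      · rw [if_neg hm]
        refine Finset.sum_eq_zero fun t ht => if_neg fun h => hm ?_
        simpa using mul_mem h (inv_mem (hZH (Finset.mem_filter.1 ht).2))
    rw [Finset.sum_congr rfl fun m _ => hterm m, ← Finset.sum_filter, Finset.sum_const, nsmul_eq_mul]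
    ring

theorem count_S (j : Fin 5) [DecidablePred fun m => rep R j m ∈ (D.S : Subgroup G)] :
    (Finset.univ.filter fun m => rep R j m ∈ (D.S : Subgroup G)).card = 3 := by
  rw [Finset.filter_true_of_mem fun m _ => rep_mem R j m]; rfl

/-- A subgroup of order 32 containing a whole line. -/
theorem exists_line (j : Fin 5) [∀ (l : Fin 5) (H : Subgroup G), DecidablePred fun m => rep R l m ∈ H] :
    ∃ H : Subgroup G, D.Z ≤ H ∧ H ≤ (D.S : Subgroup G) ∧ Nat.card H = 32 ∧
      (Finset.univ.filter fun m => rep R j m ∈ H).card = 3 ∧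
      ∀ l, l ≠ j → (Finset.univ.filter fun m => rep R l m ∈ H).card = 1 := by
  classical
  haveI : Fact (Nat.Prime 2) := ⟨Nat.prime_two⟩
  set S := (D.S : Subgroup G)
  set Zs := D.Z.subgroupOf S with hZs
  haveI hn : Zs.Normal := ⟨fun t ht g => by
    show (g : G) * (t : G) * (g : G)⁻¹ ∈ D.Z
    have ht' : (t : G) ∈ D.Z := ht
    rw [D.shape.conj_Z g.2 ht']; exact ht'⟩
  set π := QuotientGroup.mk' Zs
  have hsq : ∀ q : S ⧸ Zs, q * q = 1 := by
    intro q
    obtain ⟨g, rfl⟩ := QuotientGroup.mk'_surjective Zs q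
    rw [← map_mul]
    exact (QuotientGroup.eq_one_iff _).2 (D.shape.sq_mem _ g.2)
  have hinv : ∀ q : S ⧸ Zs, q⁻¹ = q := fun q => inv_eq_of_mul_eq_one_right (hsq q)
  have hcomm : ∀ a b : S ⧸ Zs, a * b = b * a := fun a b => by
    rw [← hinv (a * b), mul_inv_rev, hinv, hinv]
  have hQ : Nat.card (S ⧸ Zs) = 16 := by
    have := Subgroup.card_eq_card_quotient_mul_card_subgroup Zs
    rw [show Nat.card S = 64 from D.shape.cardS,
      show Nat.card Zs = 4 from (Nat.card_congr (subgroupOfEquivOfLe D.shape.le).toEquiv).trans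
        D.shape.cardZ] at this
    omega
  let r : Fin 5 → Fin 3 → S ⧸ Zs := fun l m => π ⟨rep R l m, rep_mem R l m⟩
  have hline : ∀ l, r l 0 * r l 1 * r l 2 = 1 := by
    intro l
    simp only [r, ← map_mul]
    refine (QuotientGroup.eq_one_iff _).2 ?_
    show rep R l 0 * rep R l 1 * rep R l 2 ∈ D.Z
    have := D.k_sum _ (R.mem l)
    rwa [show rep R l 0 * rep R l 1 * rep R l 2 =
      R.x l * (D.k * R.x l * D.k⁻¹) * (D.k * (D.k * R.x l * D.k⁻¹) * D.k⁻¹) by
        simp only [rep, Fin.val_zero, Fin.val_one, Fin.val_two]; rw [sq]; group]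
  set A := zpowers (r j 0)
  set B := zpowers (r j 1)
  have h2 : ∀ q : S ⧸ Zs, Nat.card (zpowers q) ∣ 2 := fun q => by
    rw [Nat.card_zpowers]; exact orderOf_dvd_of_pow_eq_one (by rw [sq]; exact hsq q)
  haveI : B.Normal := ⟨fun b hb g => by rw [hcomm g b, mul_inv_cancel_right]; exact hb⟩
  have hAB : Nat.card (A ⊔ B : Subgroup (S ⧸ Zs)) ≤ 4 := by
    have h := ((B.subgroupOf (A ⊔ B))).card_mul_index
    rw [Nat.card_congr (subgroupOfEquivOfLe le_sup_right).toEquiv,
      show (B.subgroupOf (A ⊔ B)).index = B.relIndex (A ⊔ B) from rfl, Subgroup.relIndex_sup_right] at h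
    rw [← h]
    exact Nat.mul_le_mul (Nat.le_of_dvd two_pos (h2 _))
      ((Nat.le_of_dvd Nat.card_pos (Subgroup.relIndex_dvd_card _ _)).trans (Nat.le_of_dvd two_pos (h2 _)))
  have hp : IsPGroup 2 (S ⧸ Zs) := IsPGroup.of_card (n := 4) (by rw [hQ]; norm_num)
  obtain ⟨n, hn'⟩ := IsPGroup.iff_card.1 (hp.to_subgroup (A ⊔ B))
  have hn3 : n ≤ 3 := by
    by_contra hc
    have := Nat.pow_le_pow_right two_pos (show 4 ≤ n by omega)
    omega
  obtain ⟨K, hK8, hK⟩ := Sylow.exists_subgroup_card_pow_prime_le (p := 2) (n := n) (m := 3)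
    (by rw [hQ]; norm_num) (A ⊔ B) hn' hn3
  have hKidx : K.index = 2 := by
    have := K.card_mul_index
    rw [hK8, hQ] at this
    omega
  set H := (K.comap π).map S.subtype with hH
  have hmem : ∀ g : S, (g : G) ∈ H ↔ π g ∈ K := fun g =>
    Subgroup.mem_map_iff_mem S.subtype_injective
  have hHS : H ≤ S := map_subtype_le _
  have hZH : D.Z ≤ H := fun t ht => (hmem ⟨t, D.shape.le ht⟩).2 (by
    rw [show π ⟨t, D.shape.le ht⟩ = 1 from (QuotientGroup.eq_one_iff _).2 ht]; exact one_mem _)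
  have hHc : Nat.card H = 32 := by
    rw [hH, Nat.card_congr ((K.comap π).equivMapOfInjective S.subtype S.subtype_injective).toEquiv.symm]
    have h := (K.comap π).card_mul_index
    rw [Subgroup.index_comap_of_surjective _ (QuotientGroup.mk'_surjective Zs), hKidx, D.shape.cardS] at h
    omega
  have hcnt : ∀ l, (Finset.univ.filter fun m => rep R l m ∈ H) =
      Finset.univ.filter fun m => r l m ∈ K := fun l => Finset.filter_congr fun m _ =>
    hmem ⟨rep R l m, rep_mem R l m⟩
  have h2mem : ∀ l, r l 2 ∈ K ↔ (r l 0 * r l 1 ∈ K) := fun l => by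
    have : r l 2 = r l 0 * r l 1 := by rw [← hinv (r l 0 * r l 1)]; exact (inv_eq_of_mul_eq_one_right (hline l)).symm
    rw [this]
  have hnum : ∀ l, (Finset.univ.filter fun m => r l m ∈ K).card = 1 ∨
      (Finset.univ.filter fun m => r l m ∈ K).card = 3 := by
    intro l
    rw [Finset.card_filter, Fin.sum_univ_three]
    by_cases h0 : r l 0 ∈ K <;> by_cases h1 : r l 1 ∈ K
    all_goals
      have h2' := (h2mem l).trans (Subgroup.mul_mem_iff_of_index_two hKidx)
      simp [h0, h1, h2']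
  have hj3 : (Finset.univ.filter fun m => r j m ∈ K).card = 3 := by
    have h0 : r j 0 ∈ K := hK (mem_sup_left (mem_zpowers _))
    have h1 : r j 1 ∈ K := hK (mem_sup_right (mem_zpowers _))
    rw [Finset.filter_true_of_mem fun m _ => ?_]; · rfl
    fin_cases m
    exacts [h0, h1, (h2mem j).2 (mul_mem h0 h1)]
  refine ⟨H, hZH, hHS, hHc, by rw [hcnt]; exact hj3, fun l hl => ?_⟩
  haveI : Fintype H := Fintype.ofFinite H
  have hsum := sum_sub R (φ := fun _ => (1 : ℂ)) (fun _ _ => rfl) hZH hHS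
  simp only [Finset.sum_const, Finset.card_univ, nsmul_eq_mul, mul_one] at hsum
  rw [← Nat.card_eq_fintype_card, hHc] at hsum
  have h28 : 32 = 4 + 4 * ∑ i, (Finset.univ.filter fun m => rep R i m ∈ H).card := by
    have : ((32 : ℕ) : ℂ) = ((4 + 4 * ∑ i, (Finset.univ.filter fun m => rep R i m ∈ H).card : ℕ) : ℂ) := by
      push_cast at hsum ⊢; rw [hsum]; norm_num
    exact_mod_cast this
  simp only [hcnt] at h28 ⊢
  rw [← Finset.add_sum_erase _ _ (Finset.mem_univ j), hj3] at h28
  have hge : ∀ i ∈ (Finset.univ.erase j).erase l, 1 ≤ (Finset.univ.filter fun m => r i m ∈ K).card :=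
    fun i _ => by rcases hnum i with h | h <;> omega
  have hrest := Finset.sum_le_sum hge
  rw [← Finset.add_sum_erase _ _ (Finset.mem_erase.2 ⟨hl, Finset.mem_univ l⟩)] at h28
  simp only [Finset.sum_const, smul_eq_mul, mul_one, Finset.card_erase_of_mem
    (Finset.mem_erase.2 ⟨hl, Finset.mem_univ l⟩), Finset.card_erase_of_mem (Finset.mem_univ j),
    Finset.card_univ, Fintype.card_fin] at hrest
  rcases hnum l with h | h <;> omega

end CfsgLib.Invol.UThreeFour.One
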