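import Cfsg.Agent.Lib.Invol.UThreeFour.Items

/-!
From the degree system to the reduced system of Galois orbits.
-/

set_option autoImplicit false
set_option linter.unusedSectionVars false

namespace CfsgLib.Invol.UThreeFour

universe u

theorem galShift_four (v : Fin 6 → ℤ) : galShift (galShift (galShift (galShift v))) = v := by
  funext k; fin_cases k <;> rfl

theorem galShift_inj {v w : Fin 6 → ℤ} (h : galShift v = galShift w) : v = w := by
  rw [← galShift_four v, ← galShift_four w, h]

theorem mem_orb {v w : Fin 6 → ℤ} :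
    w ∈ orb v ↔ w = v ∨ w = galShift v ∨ w = galShift (galShift v) ∨
      w = galShift (galShift (galShift v)) := by
  simp [orb]

theorem self_mem_orb (v : Fin 6 → ℤ) : v ∈ orb v := mem_orb.2 (Or.inl rfl)

theorem mem_orb_galShift (v w : Fin 6 → ℤ) : w ∈ orb (galShift v) ↔ w ∈ orb v := by
  rw [mem_orb, mem_orb, galShift_four]
  tauto

theorem orb_eq_of_mem {v w : Fin 6 → ℤ} (h : w ∈ orb v) (u : Fin 6 → ℤ) :
    u ∈ orb w ↔ u ∈ orb v := by
  rcases mem_orb.1 h with rfl | rfl | rfl | rfl <;> simp only [mem_orb_galShift]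

theorem mem_orb_iterate {v w : Fin 6 → ℤ} (h : w ∈ orb v) : ∃ n, galShift^[n] v = w := by
  rcases mem_orb.1 h with rfl | rfl | rfl | rfl
  exacts [⟨0, rfl⟩, ⟨1, rfl⟩, ⟨2, rfl⟩, ⟨3, rfl⟩]

theorem orb_length_of_ne {v : Fin 6 → ℤ} (h : galShift (galShift v) ≠ v) : (orb v).length = 4 := by
  have h1 : galShift v ≠ v := fun e => h (by rw [e, e])
  have h3 : galShift (galShift (galShift v)) ≠ v := fun e => h1 (by
    have := congrArg galShift e
    rw [galShift_four] at this
    exact this.symm)
  rw [orb, List.Nodup.dedup]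
  · rfl
  · simp only [List.nodup_cons, List.mem_cons, List.not_mem_nil, or_false, not_or, List.nodup_nil,
      and_true, not_false_eq_true]
    exact ⟨⟨h1.symm, h.symm, h3.symm⟩, ⟨fun e => h1 (galShift_inj e.symm),
      fun e => h (galShift_inj e.symm)⟩, fun e => h1 (galShift_inj (galShift_inj e.symm))⟩

theorem galShift_sq_ne {v : Fin 6 → ℤ} (h : (orb v).length = 4) : galShift (galShift v) ≠ v := by
  intro e
  have hsub : (orb v).toFinset ⊆ ({v, galShift v} : Finset (Fin 6 → ℤ)) := by
    intro w hw
    rw [List.mem_toFinset, mem_orb, e] at hw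
    simp only [Finset.mem_insert, Finset.mem_singleton]
    tauto
  have h2 := (Finset.card_le_card hsub).trans Finset.card_le_two
  have hnd : (orb v).Nodup := List.nodup_dedup _
  rw [List.toFinset_card_of_nodup hnd] at h2
  omega

theorem osum_eq_sum (f : (Fin 6 → ℤ) → ℤ) (v : Fin 6 → ℤ) : osum f v = ∑ w ∈ (orb v).toFinset, f w :=
  (List.sum_toFinset f (List.nodup_dedup _)).symm

theorem orbSign_cases (v : Fin 6 → ℤ) : orbSign v = 1 ∨ orbSign v = -1 := by
  unfold orbSign; split_ifs <;> simp

theorem zval_galShift (v : Fin 6 → ℤ) : zval (galShift v) = zval v := by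
  simp [zval, galShift]; ring

namespace Orbits

/-- The chosen element of an orbit. -/
noncomputable def canon (v : Fin 6 → ℤ) : Fin 6 → ℤ := Classical.epsilon fun w => w ∈ orb v

theorem canon_mem (v : Fin 6 → ℤ) : canon v ∈ orb v :=
  Classical.epsilon_spec (p := fun w => w ∈ orb v) ⟨v, self_mem_orb v⟩

theorem canon_eq {v w : Fin 6 → ℤ} (h : w ∈ orb v) : canon w = canon v := by
  unfold canon
  congr 1
  funext u
  exact propext (orb_eq_of_mem h u)

theorem canon_canon (v : Fin 6 → ℤ) : canon (canon v) = canon v := canon_eq (canon_mem v)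

theorem mem_orb_canon (v : Fin 6 → ℤ) : v ∈ orb (canon v) :=
  (orb_eq_of_mem (canon_mem v) v).2 (self_mem_orb v)

/-- The number of shifts leading to a given element of the orbit. -/
noncomputable def steps (c w : Fin 6 → ℤ) : ℕ :=
  Classical.epsilon fun n => galShift^[n] c = w

theorem steps_spec {c w : Fin 6 → ℤ} (h : w ∈ orb c) : galShift^[steps c w] c = w :=
  Classical.epsilon_spec (p := fun n => galShift^[n] c = w) (mem_orb_iterate h)

variable {ι : Type u} [Fintype ι] (C : Sys ι)

theorem v_iterate (n : ℕ) (i : ι) : C.v (C.sym^[n] i) = galShift^[n] (C.v i) :=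
  Function.Semiconj.iterate_right (f := C.v) (fun i => C.v_sym i) n i

theorem dnu_iterate (n : ℕ) (i : ι) : C.d (C.sym^[n] i) = C.d i ∧ C.nu (C.sym^[n] i) = C.nu i := by
  induction n with
  | zero => exact ⟨rfl, rfl⟩
  | succ n ih => rw [Function.iterate_succ_apply', C.d_sym, C.nu_sym]; exact ih

theorem eq_triv {i : ι} (hv : C.v i = C.v C.triv) (hd : C.d i = C.d C.triv) : i = C.triv := by
  by_contra h
  have := C.zval_lt i h
  rw [hv, hd, C.v_triv, C.d_triv] at this
  simp [zval] at this

theorem sym_triv : C.sym C.triv = C.triv :=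
  eq_triv C (by rw [C.v_sym, C.v_triv]; funext k; fin_cases k <;> rfl) (C.d_sym _)

theorem conj_triv : C.conj C.triv = C.triv :=
  eq_triv C (by rw [C.v_conj, C.v_triv]; funext k; fin_cases k <;> rfl) (C.d_conj _)

open Classical in
/-- The rows carrying the chosen vector of their orbit. -/
noncomputable def heads : Finset ι :=
  (Finset.univ.erase C.triv).filter fun i => canon (C.v i) = C.v i

theorem mem_heads {i : ι} : i ∈ heads C ↔ i ≠ C.triv ∧ canon (C.v i) = C.v i := by
  simp [heads]

/-- A sum over all rows as a sum over orbits. -/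
theorem sum_rows {R : Type} [AddCommMonoid R] (g : (Fin 6 → ℤ) → ℤ → ℤ → R) :
    ∑ i, g (C.v i) (C.d i) (C.nu i) = g (C.v C.triv) (C.d C.triv) (C.nu C.triv) +
      ∑ h ∈ heads C, ∑ w ∈ (orb (C.v h)).toFinset, g w (C.d h) (C.nu h) := by
  classical
  rw [← Finset.add_sum_erase _ _ (Finset.mem_univ C.triv)]
  congr 1
  rw [Finset.sum_sigma']
  refine Finset.sum_bij'
    (fun i _ => ⟨C.sym.symm^[steps (canon (C.v i)) (C.v i)] i, C.v i⟩)
    (fun p _ => C.sym^[steps (C.v p.1) p.2] p.1) ?_ ?_ ?_ ?_ ?_
  · intro i hi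
    have hm := mem_orb_canon (C.v i)
    set n := steps (canon (C.v i)) (C.v i) with hn
    set h := C.sym.symm^[n] i with hh
    have hi' : C.sym^[n] h = i := (Function.LeftInverse.iterate C.sym.apply_symm_apply n) i
    have hv : C.v h = canon (C.v i) := by
      have e := v_iterate C n h
      rw [hi'] at e
      exact (Function.Injective.iterate (fun _ _ => galShift_inj) n)
        (e.symm.trans (steps_spec hm).symm)
    simp only [Finset.mem_sigma, mem_heads, List.mem_toFinset, hv]
    refine ⟨⟨fun e => Finset.ne_of_mem_erase hi ?_, canon_canon _⟩, hm⟩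
    rw [← hi', e]
    exact Function.iterate_fixed (sym_triv C) n
  · rintro ⟨h, w⟩ hp
    simp only [Finset.mem_sigma, mem_heads, List.mem_toFinset] at hp
    refine Finset.mem_erase.2 ⟨fun e => hp.1.1 ?_, Finset.mem_univ _⟩
    exact (C.sym.injective.iterate _) (e.trans (Function.iterate_fixed (sym_triv C) _).symm)
  · intro i _
    have hm := mem_orb_canon (C.v i)
    set n := steps (canon (C.v i)) (C.v i) with hn
    set h := C.sym.symm^[n] i with hh
    have hi' : C.sym^[n] h = i := (Function.LeftInverse.iterate C.sym.apply_symm_apply n) i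
    have hv : C.v h = canon (C.v i) := by
      have e := v_iterate C n h
      rw [hi'] at e
      exact (Function.Injective.iterate (fun _ _ => galShift_inj) n)
        (e.symm.trans (steps_spec hm).symm)
    show C.sym^[steps (C.v h) (C.v i)] h = i
    rw [hv, ← hn, hi']
  · rintro ⟨h, w⟩ hp
    simp only [Finset.mem_sigma, mem_heads, List.mem_toFinset] at hp
    have hv : C.v (C.sym^[steps (C.v h) w] h) = w := by rw [v_iterate, steps_spec hp.2]
    simp only [hv, canon_eq hp.2, hp.1.2]
    rw [(Function.LeftInverse.iterate C.sym.symm_apply_apply _) h]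
  · intro i _
    have hm := mem_orb_canon (C.v i)
    set n := steps (canon (C.v i)) (C.v i) with hn
    have hi' : C.sym^[n] (C.sym.symm^[n] i) = i :=
      (Function.LeftInverse.iterate C.sym.apply_symm_apply n) i
    obtain ⟨hd, hnu⟩ := dnu_iterate C n (C.sym.symm^[n] i)
    rw [hi'] at hd hnu
    simp only [← hd, ← hnu]

/-- The orbit data of a row. -/
def entry (i : ι) : Item × ℤ × ℤ :=
  (itemOf (C.v i), orbSign (C.v i) * C.d i, orbSign (C.v i) * C.nu i)

theorem wt_itemOf (v : Fin 6 → ℤ) (x y z : ℤ) :
    (itemOf v).wt x y z =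
      orbSign v * ∑ w ∈ (orb v).toFinset, (x * w 0 + y * w 1 + z * w 5) := by
  simp only [Item.wt, itemOf, osum_eq_sum, Finset.sum_add_distrib, ← Finset.mul_sum]
  ring

theorem zval_of_mem {v w : Fin 6 → ℤ} (h : w ∈ orb v) : zval w = zval v := by
  rcases mem_orb.1 h with rfl | rfl | rfl | rfl <;> simp only [zval_galShift]

/-- The reduced system of a degree system, with the configurations as input. -/
theorem exists_red_of
    (hcc : ∀ hs : List (Fin 6 → ℤ), (∀ v ∈ hs, zval v ≠ 0) →
      (∀ k l, (hs.map fun v => osum (fun w => w k * w l) v).sum +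
        ![1, 0, 0, 0, 0, 1] k * ![1, 0, 0, 0, 0, 1] l = gramMat k l) →
      ∃ c ∈ configs, (hs.map itemOf).Perm c) :
    ∃ l, Red C.Q l ∧
      ∀ p ∈ l, p.1.a = -4 → p.2.1 = 12 → ∃ i, C.d i = 12 ∧ zval (C.v i) = -4 := by
  classical
  have hls : ∀ {R : Type} [AddCommMonoid R] (f : Item × ℤ × ℤ → R),
      (((heads C).toList.map (entry C)).map f).sum = ∑ h ∈ heads C, f (entry C h) := fun f => by
    rw [List.map_map, Finset.sum_map_toList]; rfl
  refine ⟨(heads C).toList.map (entry C), ⟨?_, ?_, ?_, ?_, ?_, ?_, ?_⟩, ?_⟩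
  · obtain ⟨c, hc, hp⟩ := hcc ((heads C).toList.map C.v)
      (fun v hv => by obtain ⟨i, -, rfl⟩ := List.mem_map.1 hv; exact C.zval_ne i)
      (fun k l => by
        have h := sum_rows C (fun w _ _ => w k * w l)
        rw [C.gram, C.v_triv] at h
        rw [List.map_map, Finset.sum_map_toList, h, add_comm]
        simp only [Function.comp_apply, osum_eq_sum])
    refine ⟨c, hc, ?_⟩
    rw [List.map_map] at hp ⊢
    exact hp
  · intro p hp
    obtain ⟨i, hi, rfl⟩ := List.mem_map.1 hp
    have hne := (mem_heads C).1 (Finset.mem_toList.1 hi)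
    have h1 := C.zval_lt i hne.1
    have h2 := C.zval_ge i
    have h3 := C.d_pos i
    have h4 := C.cong i
    rcases orbSign_cases (C.v i) with e | e
    · simp only [entry, itemOf, e, one_mul]
      refine ⟨?_, ?_, ?_⟩
      · rw [abs_of_pos h3, abs_lt]; omega
      · omega
      · rw [if_pos h3, abs_of_pos h3]; omega
    · simp only [entry, itemOf, e, neg_one_mul]
      refine ⟨?_, ?_, ?_⟩
      · rw [abs_neg, abs_neg, abs_of_pos h3, abs_lt]; omega
      · omega
      · rw [if_neg (by omega), abs_neg, neg_neg, abs_of_pos h3]; omega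
  · intro p hp
    obtain ⟨i, -, rfl⟩ := List.mem_map.1 hp
    refine ⟨?_, fun hsize => ?_, fun hodd hne => ?_⟩
    · rcases C.nu_cases i with e | e | e <;> rcases orbSign_cases (C.v i) with e' | e' <;>
        simp [entry, e, e']
    · have hlen : (orb (C.v i)).length = 4 := by
        have : ((orb (C.v i)).length : ℤ) = 4 := hsize
        omega
      have : C.nu i = 0 := (C.nu_zero_iff i).2 fun e => galShift_sq_ne hlen (by
        rw [← C.v_conj, e])
      simp [entry, this]
    · have h1 : C.nu i = 1 := by
        rcases C.nu_cases i with e | e | e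
        · exact e
        · exact absurd (by simp [entry, e]) hne
        · exfalso
          obtain ⟨m, hm⟩ := C.nu_neg i e
          obtain ⟨r, hr⟩ := hodd
          have h4 := C.cong i
          simp only [entry, itemOf] at hr
          rcases orbSign_cases (C.v i) with e' | e' <;> rw [e'] at hr <;> omega
      simp only [entry, h1, mul_one]
      rw [← mul_assoc]
      rcases orbSign_cases (C.v i) with e | e <;> rw [e] <;> simpa using C.d_pos i
  · intro t D ht
    have hcount : ((heads C).toList.map (entry C)).count (t, D, 0) =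
        ((heads C).filter fun i => (t, D, (0 : ℤ)) = entry C i).card := by
      rw [List.count_eq_countP, List.countP_map, List.countP_eq_length_filter,
        ← List.toFinset_card_of_nodup ((Finset.nodup_toList _).filter _)]
      congr 1
      ext i
      simp only [List.mem_toFinset, List.mem_filter, Finset.mem_toList, Finset.mem_filter,
        Function.comp_apply, beq_iff_eq]
      exact and_congr_right fun _ => eq_comm
    rw [hcount, ← ZMod.natCast_eq_zero_iff_even, Finset.card_eq_sum_ones, Nat.cast_sum]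
    have hv : ∀ i ∈ (heads C).filter fun i => (t, D, (0 : ℤ)) = entry C i,
        C.v (C.conj i) = C.v i ∧ C.nu i = 0 := by
      intro i hi
      have he := (Finset.mem_filter.1 hi).2
      have h1 : t = itemOf (C.v i) := congrArg Prod.fst he
      have h2 : (0 : ℤ) = orbSign (C.v i) * C.nu i := congrArg (fun p => p.2.2) he
      refine ⟨?_, ?_⟩
      · rw [C.v_conj]
        by_contra hne
        refine ht ?_
        rw [h1]
        simp [itemOf, orb_length_of_ne hne]
      · rcases orbSign_cases (C.v i) with e | e <;> rw [e] at h2 <;> omega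
    refine Finset.sum_involution (fun i _ => C.conj i) (fun i _ => by decide)
      (fun i hi _ => (C.nu_zero_iff i).1 (hv i hi).2) (fun i hi => ?_) (fun i _ => C.conj_conj i)
    have hm := mem_heads C |>.1 (Finset.mem_filter.1 hi).1
    refine Finset.mem_filter.2 ⟨(mem_heads C).2 ⟨fun e => hm.1 ?_, ?_⟩, ?_⟩
    · rw [← C.conj_conj i, e, conj_triv]
    · rw [(hv i hi).1]; exact hm.2
    · rw [(Finset.mem_filter.1 hi).2]
      simp only [entry, (hv i hi).1, C.d_conj, C.nu_conj]
  · intro x y z
    have h := sum_rows C (fun w _ e => (x * w 0 + y * w 1 + z * w 5) * e)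
    simp only [add_mul, mul_assoc, Finset.sum_add_distrib, ← Finset.mul_sum, C.sum_nu, C.v_triv,
      C.nu_triv] at h
    rw [hls, Finset.sum_congr rfl (g := fun i => C.nu i * ∑ w ∈ (orb (C.v i)).toFinset,
      (x * w 0 + y * w 1 + z * w 5)) fun i _ => ?_]
    · simp only [Finset.mul_sum, Finset.sum_add_distrib, mul_add]
      simp at h
      simp only [mul_comm (C.nu _), ← Finset.mul_sum, mul_assoc]
      linear_combination -h
    · rw [entry, wt_itemOf]
      rcases orbSign_cases (C.v i) with e | e <;> rw [e] <;> ring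
  · intro x y z
    have h := sum_rows C (fun w d _ => (x * w 0 + y * w 1 + z * w 5) * d)
    have hL : ∑ i, (x * C.v i 0 + y * C.v i 1 + z * C.v i 5) * C.d i = 0 := by
      simp only [add_mul, mul_assoc, Finset.sum_add_distrib, ← Finset.mul_sum, C.sum_deg, mul_zero,
        add_zero]
    rw [hL, C.v_triv, C.d_triv] at h
    rw [hls, Finset.sum_congr rfl (g := fun i => ∑ w ∈ (orb (C.v i)).toFinset,
      (x * w 0 + y * w 1 + z * w 5) * C.d i) fun i _ => ?_]
    · simp at h
      rw [add_comm]
      exact h.symm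
    · rw [entry, wt_itemOf, ← Finset.sum_mul]
      rcases orbSign_cases (C.v i) with e | e <;> rw [e] <;> ring
  · intro x y z
    have h := sum_rows C (fun w d _ =>
      ((x * w 0 + y * w 1 + z * w 5 : ℤ) : ℚ) * (zval w : ℚ) ^ 2 / (d : ℚ))
    have hL : ∑ i, ((x * C.v i 0 + y * C.v i 1 + z * C.v i 5 : ℤ) : ℚ) * (zval (C.v i) : ℚ) ^ 2 /
        (C.d i : ℚ) = ((x + y : ℤ) : ℚ) * C.Q := by
      push_cast
      simp only [add_mul, add_div, mul_assoc, mul_div_assoc, Finset.sum_add_distrib, ← Finset.mul_sum]
      have := C.sum_quot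
      simp only [mul_div_assoc] at this
      rw [this 0, this 1, this 5]
      simp
    rw [hL, C.v_triv, C.d_triv] at h
    rw [hls, Finset.sum_congr rfl (g := fun i => ∑ w ∈ (orb (C.v i)).toFinset,
      ((x * w 0 + y * w 1 + z * w 5 : ℤ) : ℚ) * (zval w : ℚ) ^ 2 / (C.d i : ℚ)) fun i _ => ?_]
    · rw [h]
      simp [zval]
      ring
    · rw [entry, wt_itemOf, Finset.sum_congr rfl (g := fun w =>
        ((x * w 0 + y * w 1 + z * w 5 : ℤ) : ℚ) * ((zval (C.v i) : ℚ) ^ 2 / (C.d i : ℚ))) fun w hw => by
        rw [zval_of_mem (List.mem_toFinset.1 hw), mul_div_assoc], ← Finset.sum_mul]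
      simp only [itemOf]
      rcases orbSign_cases (C.v i) with e | e <;> rw [e] <;> push_cast <;> ring
  · intro p hp ha hd
    obtain ⟨i, -, rfl⟩ := List.mem_map.1 hp
    simp only [entry, itemOf] at ha hd
    have := C.d_pos i
    rcases orbSign_cases (C.v i) with e | e <;> rw [e] at ha hd
    · exact ⟨i, by omega, by omega⟩
    · omega

end Orbits

end CfsgLib.Invol.UThreeFour
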