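import Cfsg.Agent.Lib.Invol.UThreeFour.Items

/-!
The orbits of coefficient vectors allowed by the inner products form one of the twenty
configurations.

A vector is replaced by the key of its first five coordinates (the weights of its orbit in the five
relevant inner products, the length of the orbit and three linear sums), the sign being fixed. The
possible multisets of keys are found by a finite search, then the sixth coordinate is added.
-/

set_option autoImplicit false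

namespace CfsgLib.Invol.UThreeFour.Shapes

/-- The key of the first five coordinates of an orbit. -/
structure Key where
  w0 : ℤ
  w1 : ℤ
  w01 : ℤ
  w12 : ℤ
  w14 : ℤ
  n : ℤ
  c0 : ℤ
  c1 : ℤ
  s : ℤ
deriving DecidableEq

/-- The key of the zero vector. -/
def Key.zero : Key := ⟨0, 0, 0, 0, 0, 1, 0, 0, 0⟩

/-- The key of five coordinates. -/
def keyOf (a b c d e : ℤ) : Key :=
  if b = c ∧ c = d ∧ d = e then ⟨a * a, b * b, a * b, b * b, b * b, 1, a, b, a + 4 * b⟩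
  else if b = e ∧ c = d then
    ⟨2 * (a * a), b * b + c * c, a * (b + c), 2 * (b * c), b * b + c * c, 2, 2 * a, b + c,
      a + 2 * (b + c)⟩
  else ⟨4 * (a * a), b * b + c * c + d * d + e * e, a * (b + c + d + e),
    b * c + c * e + e * d + d * b, 2 * (b * e + c * d), 4, 4 * a, b + c + d + e, a + (b + c + d + e)⟩

/-- The sign of a key. -/
def Key.sg (p : Key) : ℤ := if p.c0 < 0 ∨ (p.c0 = 0 ∧ p.c1 < 0) then -1 else 1

/-- The key with the sign fixed. -/
def Key.norm (p : Key) : Key :=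
  ⟨p.w0, p.w1, p.w01, p.w12, p.w14, p.n, p.sg * p.c0, p.sg * p.c1, p.sg * p.s⟩

/-- The orbit of a key with sixth coordinate `m`. -/
def Key.item (p : Key) (m : ℤ) : Item :=
  let a := 5 * m - 4 * p.s
  let sg : ℤ := if p.c0 ≠ 0 then (if 0 < p.c0 then 1 else -1)
    else if p.c1 ≠ 0 then (if 0 < p.c1 then 1 else -1)
    else (if 0 ≤ p.n * m then 1 else -1)
  ⟨sg * a, sg * p.c0, sg * p.c1, sg * (p.n * m), (sg * (-3 * a - 60 * m)) % 64, p.n⟩

/-- The normalised keys within the bounds, the zero key omitted. -/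
def keys : List Key := [
  ⟨4, 5, 3, 2, 0, 4, 4, 3, 4⟩,
  ⟨4, 5, 3, 0, 4, 4, 4, 3, 4⟩,
  ⟨4, 5, 1, 0, -4, 4, 4, 1, 2⟩,
  ⟨4, 5, 1, -2, 0, 4, 4, 1, 2⟩,
  ⟨4, 5, -1, 0, -4, 4, 4, -1, 0⟩,
  ⟨4, 5, -1, -2, 0, 4, 4, -1, 0⟩,
  ⟨4, 5, -3, 2, 0, 4, 4, -3, -2⟩,
  ⟨4, 5, -3, 0, 4, 4, 4, -3, -2⟩,
  ⟨2, 5, 3, 4, 5, 2, 2, 3, 7⟩,
  ⟨2, 5, 1, -4, 5, 2, 2, 1, 3⟩,
  ⟨2, 5, -1, -4, 5, 2, 2, -1, -1⟩,
  ⟨2, 5, -3, 4, 5, 2, 2, -3, -5⟩,
  ⟨0, 5, 0, 4, 5, 2, 0, 3, 6⟩,
  ⟨0, 5, 0, 2, 0, 4, 0, 3, 3⟩,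
  ⟨0, 5, 0, 0, 4, 4, 0, 3, 3⟩,
  ⟨0, 5, 0, 0, -4, 4, 0, 1, 1⟩,
  ⟨0, 5, 0, -2, 0, 4, 0, 1, 1⟩,
  ⟨0, 5, 0, -4, 5, 2, 0, 1, 2⟩,
  ⟨4, 4, 4, 4, 4, 1, 2, 2, 10⟩,
  ⟨4, 4, 2, 0, 0, 4, 4, 2, 3⟩,
  ⟨4, 4, 0, 0, -4, 4, 4, 0, 1⟩,
  ⟨4, 4, -2, 0, 0, 4, 4, -2, -1⟩,
  ⟨4, 4, -4, 4, 4, 1, 2, -2, -6⟩,
  ⟨2, 4, 2, 0, 4, 2, 2, 2, 5⟩,
  ⟨2, 4, -2, 0, 4, 2, 2, -2, -3⟩,
  ⟨1, 4, 2, 4, 4, 1, 1, 2, 9⟩,
  ⟨1, 4, -2, 4, 4, 1, 1, -2, -7⟩,
  ⟨0, 4, 0, 4, 4, 1, 0, 2, 8⟩,
  ⟨0, 4, 0, 0, 4, 2, 0, 2, 4⟩,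
  ⟨0, 4, 0, 0, 0, 4, 0, 2, 2⟩,
  ⟨0, 4, 0, 0, -4, 4, 0, 0, 0⟩,
  ⟨4, 3, 3, 2, 2, 4, 4, 3, 4⟩,
  ⟨4, 3, 1, 0, -2, 4, 4, 1, 2⟩,
  ⟨4, 3, 1, -2, 2, 4, 4, 1, 2⟩,
  ⟨4, 3, -1, 0, -2, 4, 4, -1, 0⟩,
  ⟨4, 3, -1, -2, 2, 4, 4, -1, 0⟩,
  ⟨4, 3, -3, 2, 2, 4, 4, -3, -2⟩,
  ⟨0, 3, 0, 2, 2, 4, 0, 3, 3⟩,
  ⟨0, 3, 0, 0, -2, 4, 0, 1, 1⟩,
  ⟨0, 3, 0, -2, 2, 4, 0, 1, 1⟩,
  ⟨4, 2, 2, 1, 0, 4, 4, 2, 3⟩,
  ⟨4, 2, 0, 0, -2, 4, 4, 0, 1⟩,
  ⟨4, 2, 0, -1, 0, 4, 4, 0, 1⟩,
  ⟨4, 2, -2, 1, 0, 4, 4, -2, -1⟩,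
  ⟨2, 2, 0, -2, 2, 2, 2, 0, 1⟩,
  ⟨0, 2, 0, 1, 0, 4, 0, 2, 2⟩,
  ⟨0, 2, 0, 0, -2, 4, 0, 0, 0⟩,
  ⟨0, 2, 0, -1, 0, 4, 0, 0, 0⟩,
  ⟨0, 2, 0, -2, 2, 2, 0, 0, 0⟩,
  ⟨4, 1, 2, 1, 1, 1, 2, 1, 6⟩,
  ⟨4, 1, 1, 0, 0, 4, 4, 1, 2⟩,
  ⟨4, 1, -1, 0, 0, 4, 4, -1, 0⟩,
  ⟨4, 1, -2, 1, 1, 1, 2, -1, -2⟩,
  ⟨2, 1, 1, 0, 1, 2, 2, 1, 3⟩,
  ⟨2, 1, -1, 0, 1, 2, 2, -1, -1⟩,
  ⟨1, 1, 1, 1, 1, 1, 1, 1, 5⟩,
  ⟨1, 1, -1, 1, 1, 1, 1, -1, -3⟩,
  ⟨0, 1, 0, 1, 1, 1, 0, 1, 4⟩,
  ⟨0, 1, 0, 0, 1, 2, 0, 1, 2⟩,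
  ⟨0, 1, 0, 0, 0, 4, 0, 1, 1⟩,
  ⟨4, 0, 0, 0, 0, 1, 2, 0, 2⟩,
  ⟨1, 0, 0, 0, 0, 1, 1, 0, 1⟩]

/-- The multisets of keys with the five prescribed sums. -/
def search : List Key → ℤ → ℤ → ℤ → ℤ → ℤ → List (List Key)
  | [], a, b, x, y, z => if a = 0 ∧ b = 0 ∧ x = 0 ∧ y = 0 ∧ z = 0 then [[]] else []
  | p :: ps, a, b, x, y, z => (List.range 6).flatMap fun (k : ℕ) =>
      if (k : ℤ) * p.w0 ≤ a ∧ (k : ℤ) * p.w1 ≤ b then
        (search ps (a - k * p.w0) (b - k * p.w1) (x - k * p.w01) (y - k * p.w12)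
          (z - k * p.w14)).map (List.replicate k p ++ ·)
      else []

/-- The orbits with zero key and square sum `b`. -/
def tails (b : ℤ) : List (List Item) :=
  (List.range 16).flatMap fun (i : ℕ) => (List.range 4).flatMap fun (j : ℕ) =>
    (List.range 2).flatMap fun (k : ℕ) =>
    if (i : ℤ) + 4 * j + 9 * k = b then
      [List.replicate i (Key.zero.item 1) ++ List.replicate j (Key.zero.item 2) ++
        List.replicate k (Key.zero.item 3)] else []

/-- The ways to add the sixth coordinate. -/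
def extend : List Key → ℤ → ℤ → ℤ → List (List Item)
  | [], b, u, w => if u = 0 ∧ w = 0 then tails b else []
  | p :: ps, b, u, w => [-3, -2, -1, 0, 1, 2, 3].flatMap fun m : ℤ =>
      if p.n * (m * m) ≤ b ∧ 5 * m - 4 * p.s ≠ 0 then
        (extend ps (b - p.n * (m * m)) (u - p.c0 * m) (w - p.c1 * m)).map (p.item m :: ·)
      else []

theorem mem_search {T : List Key} (hT : ∀ p ∈ T, 0 ≤ p.w0 ∧ 0 ≤ p.w1 ∧ 0 < p.w0 + p.w1) :
    ∀ (L : List Key), (∀ p ∈ L, p ∈ T) → ∀ a b x y z : ℤ, a ≤ 4 → b ≤ 5 →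
      (L.map Key.w0).sum = a → (L.map Key.w1).sum = b → (L.map Key.w01).sum = x →
      (L.map Key.w12).sum = y → (L.map Key.w14).sum = z →
      ∃ c ∈ search T a b x y z, L.Perm c := by
  induction T with
  | nil =>
    intro L hL a b x y z _ _ h0 h1 h2 h3 h4
    obtain rfl : L = [] := List.eq_nil_iff_forall_not_mem.2 fun p hp => by simpa using hL p hp
    simp at h0 h1 h2 h3 h4
    exact ⟨[], by simp [search, ← h0, ← h1, ← h2, ← h3, ← h4], List.Perm.refl _⟩
  | cons p T ih =>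
    intro L hL a b x y z ha hb h0 h1 h2 h3 h4
    set k := L.count p with hk
    set R := L.filter (fun q => decide (q ≠ p)) with hR
    have hperm : L.Perm (List.replicate k p ++ R) := by
      rw [List.perm_iff_count]
      intro q
      rw [List.count_append, List.count_replicate, hR]
      by_cases hq : q = p
      · subst hq
        rw [List.count_eq_zero_of_not_mem (a := q) (l := L.filter _) (by simp)]
        simp [k]
      · rw [List.count_filter (by simpa using hq)]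
        simp [Ne.symm hq]
    have hR' : ∀ q ∈ R, q ∈ T := fun q hq => by
      rw [hR, List.mem_filter] at hq
      exact (List.mem_cons.1 (hL q hq.1)).resolve_left (by simpa using hq.2)
    have hsum : ∀ f : Key → ℤ, (L.map f).sum = k * f p + (R.map f).sum := fun f => by
      rw [(hperm.map f).sum_eq]
      simp
    have hRnn : 0 ≤ (R.map Key.w0).sum ∧ 0 ≤ (R.map Key.w1).sum := by
      constructor <;> refine List.sum_nonneg fun t ht => ?_ <;>
        obtain ⟨q, hq, rfl⟩ := List.mem_map.1 ht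
      exacts [(hT q (List.mem_cons_of_mem _ (hR' q hq))).1,
        (hT q (List.mem_cons_of_mem _ (hR' q hq))).2.1]
    obtain ⟨hp0, hp1, hp2⟩ := hT p (List.mem_cons_self)
    rw [hsum] at h0 h1 h2 h3 h4
    have hk6 : k < 6 := by
      by_contra hk6
      push Not at hk6
      have : (6 : ℤ) ≤ (k : ℤ) := by exact_mod_cast hk6
      rcases lt_or_eq_of_le hp0 with e | e <;> nlinarith
    obtain ⟨c, hc, hp⟩ := ih (fun q hq => hT q (List.mem_cons_of_mem _ hq)) R hR'
      (a - k * p.w0) (b - k * p.w1) (x - k * p.w01) (y - k * p.w12) (z - k * p.w14)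
      (by nlinarith) (by nlinarith) (by linarith) (by linarith) (by linarith) (by linarith)
      (by linarith)
    refine ⟨List.replicate k p ++ c, ?_, hperm.trans (hp.append_left _)⟩
    rw [search, List.mem_flatMap]
    refine ⟨k, List.mem_range.2 hk6, ?_⟩
    rw [if_pos ⟨by linarith [hRnn.1], by linarith [hRnn.2]⟩]
    exact List.mem_map.2 ⟨c, hc, rfl⟩

/-- The sixth coordinate of the zero keys, up to sign. -/
theorem tail_perm : ∀ L : List ℤ, (∀ m ∈ L, m = 1 ∨ m = 2 ∨ m = 3) →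
    ∃ i j k : ℕ, L.Perm (List.replicate i 1 ++ List.replicate j 2 ++ List.replicate k 3) := by
  intro L hL
  refine ⟨L.count 1, L.count 2, L.count 3, List.perm_iff_count.2 fun m => ?_⟩
  simp only [List.count_append, List.count_replicate]
  rcases eq_or_ne m 1 with rfl | h1
  · simp
  rcases eq_or_ne m 2 with rfl | h2
  · simp
  rcases eq_or_ne m 3 with rfl | h3
  · simp
  simp [Ne.symm h1, Ne.symm h2, Ne.symm h3, List.count_eq_zero_of_not_mem (a := m)
    (fun h => by rcases hL m h with e | e | e <;> contradiction)]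

theorem mem_tails (L : List ℤ) (hL : ∀ m ∈ L, m = 1 ∨ m = 2 ∨ m = 3) {b : ℤ} (hb : b ≤ 15)
    (hs : (L.map fun m => m * m).sum = b) :
    ∃ t ∈ tails b, (L.map Key.zero.item).Perm t := by
  obtain ⟨i, j, k, hp⟩ := tail_perm L hL
  have h := ((hp.map fun m => m * m).sum_eq).symm.trans hs
  simp only [List.map_append, List.map_replicate, List.sum_append, List.sum_replicate,
    nsmul_eq_mul, smul_eq_mul] at h
  norm_num at h
  refine ⟨List.replicate i (Key.zero.item 1) ++ List.replicate j (Key.zero.item 2) ++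
    List.replicate k (Key.zero.item 3), ?_, ?_⟩
  · simp only [tails, List.mem_flatMap]
    refine ⟨i, List.mem_range.2 (by omega), j, List.mem_range.2 (by omega), k,
      List.mem_range.2 (by omega), ?_⟩
    rw [if_pos (by omega)]
    exact List.mem_singleton.2 rfl
  · refine (hp.map _).trans (List.Perm.of_eq ?_)
    simp [List.map_replicate]

/-- The data of an orbit used in the second search. -/
structure Head where
  key : Key
  m : ℤ
  item : Item

theorem mem_extend : ∀ (c : List Key) (L : List Head) (b u w : ℤ), b ≤ 15 →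
    (L.map Head.key).Perm c →
    (∀ h ∈ L, h.item = h.key.item h.m ∧ 5 * h.m - 4 * h.key.s ≠ 0 ∧ 1 ≤ h.key.n) →
    ∀ Z : List Head, (∀ h ∈ Z, h.item = Key.zero.item h.m ∧ (h.m = 1 ∨ h.m = 2 ∨ h.m = 3)) →
    (L.map fun h => h.key.n * (h.m * h.m)).sum + (Z.map fun h => h.m * h.m).sum = b →
    (L.map fun h => h.key.c0 * h.m).sum = u → (L.map fun h => h.key.c1 * h.m).sum = w →
    ∃ r ∈ extend c b u w, ((L ++ Z).map Head.item).Perm r := by
  intro c
  induction c with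
  | nil =>
    intro L b u w hb hc _ Z hZ hs hu hw
    obtain rfl : L = [] := List.map_eq_nil_iff.1 hc.eq_nil
    simp only [List.map_nil, List.sum_nil, zero_add] at hs hu hw
    obtain ⟨t, ht, hp⟩ := mem_tails (Z.map Head.m) (fun m hm => by
      obtain ⟨h, hh, rfl⟩ := List.mem_map.1 hm
      exact (hZ h hh).2) hb (by rw [List.map_map]; exact hs)
    refine ⟨t, by rw [extend, if_pos ⟨hu.symm, hw.symm⟩]; exact ht, ?_⟩
    refine (List.Perm.of_eq ?_).trans hp
    rw [List.map_map, List.nil_append]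
    exact List.map_congr_left fun h hh => (hZ h hh).1
  | cons p c ih =>
    intro L b u w hb hc hL Z hZ hs hu hw
    obtain ⟨h, hh, hhp⟩ := List.mem_map.1 (hc.mem_iff.2 (List.mem_cons_self))
    obtain ⟨A, B, rfl⟩ := List.append_of_mem hh
    have hperm : (A ++ h :: B).Perm (h :: (A ++ B)) := List.perm_middle
    have hc' : ((A ++ B).map Head.key).Perm c := by
      have := (hperm.map Head.key).symm.trans hc
      rw [List.map_cons, hhp] at this
      exact this.cons_inv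
    have hsum : ∀ f : Head → ℤ, ((A ++ h :: B).map f).sum = f h + ((A ++ B).map f).sum := fun f => by
      rw [(hperm.map f).sum_eq, List.map_cons, List.sum_cons]
    rw [hsum] at hs hu hw
    obtain ⟨he, hne, hn⟩ := hL h hh
    rw [hhp] at he hne hn hs hu hw
    have hL' : ∀ g ∈ A ++ B,
        g.item = g.key.item g.m ∧ 5 * g.m - 4 * g.key.s ≠ 0 ∧ 1 ≤ g.key.n := fun g hg =>
      hL g (hperm.symm.subset (List.mem_cons_of_mem _ hg))
    have hnn : 0 ≤ ((A ++ B).map fun g => g.key.n * (g.m * g.m)).sum +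
        (Z.map fun g => g.m * g.m).sum := by
      refine add_nonneg (List.sum_nonneg fun t ht => ?_) (List.sum_nonneg fun t ht => ?_)
      · obtain ⟨g, hg, rfl⟩ := List.mem_map.1 ht
        nlinarith [(hL' g hg).2.2, mul_self_nonneg g.m]
      · obtain ⟨g, hg, rfl⟩ := List.mem_map.1 ht
        exact mul_self_nonneg g.m
    have hm : h.m ∈ [(-3 : ℤ), -2, -1, 0, 1, 2, 3] := by
      have h9 : h.m * h.m ≤ 15 := by nlinarith [mul_self_nonneg h.m]
      have h1 : h.m ≤ 3 := by nlinarith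
      have h2 : -3 ≤ h.m := by nlinarith
      simp only [List.mem_cons, List.not_mem_nil, or_false]
      omega
    obtain ⟨r, hr, hp⟩ := ih (A ++ B) (b - p.n * (h.m * h.m)) (u - p.c0 * h.m) (w - p.c1 * h.m)
      (by nlinarith [mul_self_nonneg h.m]) hc' hL' Z hZ (by linarith) (by linarith) (by linarith)
    refine ⟨p.item h.m :: r, ?_, ?_⟩
    · rw [extend, List.mem_flatMap]
      refine ⟨h.m, hm, ?_⟩
      rw [if_pos ⟨by linarith, hne⟩]
      exact List.mem_map.2 ⟨r, hr, rfl⟩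
    · refine ((hperm.append_right Z).map Head.item).trans ?_
      rw [List.cons_append, List.map_cons, he]
      exact hp.cons _

/-- All results of the two searches are configurations. -/
theorem searches_ok : ((search keys 4 5 1 1 1).all fun c => (extend c 15 3 4).all fun r =>
    configs.any fun d => r.isPerm d) = true := by
  decide +kernel

theorem keys_ok : (keys.all fun p => decide (0 ≤ p.w0 ∧ 0 ≤ p.w1 ∧ 0 < p.w0 + p.w1)) = true := by
  decide +kernel

/-- The keys in the box. -/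
theorem keys_complete : (([-2, -1, 0, 1, 2] : List ℤ).all fun a => ([-2, -1, 0, 1, 2] : List ℤ).all
    fun b => ([-2, -1, 0, 1, 2] : List ℤ).all fun c => ([-2, -1, 0, 1, 2] : List ℤ).all fun d =>
    ([-2, -1, 0, 1, 2] : List ℤ).all fun e =>
      let p := keyOf a b c d e
      decide (4 < p.w0) || decide (5 < p.w1) || decide (p.norm = Key.zero) ||
        decide (p.norm ∈ keys)) = true := by
  decide +kernel

theorem mem_keys {a b c d e : ℤ} (ha : a * a ≤ 4) (hb : b * b ≤ 5) (hc : c * c ≤ 5) (hd : d * d ≤ 5)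
    (he : e * e ≤ 5) (h0 : (keyOf a b c d e).w0 ≤ 4) (h1 : (keyOf a b c d e).w1 ≤ 5) :
    (keyOf a b c d e).norm = Key.zero ∨ (keyOf a b c d e).norm ∈ keys := by
  have hr : ∀ x : ℤ, x * x ≤ 5 → x ∈ ([-2, -1, 0, 1, 2] : List ℤ) := fun x hx => by
    have h1 : x ≤ 2 := by nlinarith
    have h2 : -2 ≤ x := by nlinarith
    simp only [List.mem_cons, List.not_mem_nil, or_false]
    omega
  have := keys_complete
  simp only [List.all_eq_true] at this
  have := this a (hr a (by linarith)) b (hr b hb) c (hr c hc) d (hr d hd) e (hr e he)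
  simp only [Bool.or_eq_true, decide_eq_true_eq] at this
  rcases this with ((h | h) | h) | h
  · omega
  · omega
  · exact Or.inl h
  · exact Or.inr h

theorem galShift_apply (v : Fin 6 → ℤ) :
    galShift v 0 = v 0 ∧ galShift v 1 = v 2 ∧ galShift v 2 = v 4 ∧ galShift v 3 = v 1 ∧
      galShift v 4 = v 3 ∧ galShift v 5 = v 5 :=
  ⟨rfl, rfl, rfl, rfl, rfl, rfl⟩

theorem ext_six {v w : Fin 6 → ℤ} (h0 : v 0 = w 0) (h1 : v 1 = w 1) (h2 : v 2 = w 2)
    (h3 : v 3 = w 3) (h4 : v 4 = w 4) (h5 : v 5 = w 5) : v = w := by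
  funext i
  fin_cases i <;> assumption

/-- The orbit of a vector has one, two or four elements. -/
theorem orb_cases (v : Fin 6 → ℤ) :
    (v 1 = v 2 ∧ v 2 = v 3 ∧ v 3 = v 4 ∧ orb v = [v]) ∨
    (¬ (v 1 = v 2 ∧ v 2 = v 3 ∧ v 3 = v 4) ∧ (v 1 = v 4 ∧ v 2 = v 3) ∧
      orb v = [v, galShift v]) ∨
    (¬ (v 1 = v 2 ∧ v 2 = v 3 ∧ v 3 = v 4) ∧ ¬ (v 1 = v 4 ∧ v 2 = v 3) ∧
      orb v = [v, galShift v, galShift (galShift v), galShift (galShift (galShift v))]) := by
  by_cases h1 : v 1 = v 2 ∧ v 2 = v 3 ∧ v 3 = v 4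
  · obtain ⟨e1, e2, e3⟩ := h1
    have hg : galShift v = v := ext_six rfl e1.symm (by show v 4 = v 2; omega)
      (by show v 1 = v 3; omega) (by show v 3 = v 4; omega) rfl
    refine Or.inl ⟨e1, e2, e3, ?_⟩
    simp [orb, hg]
  by_cases h2 : v 1 = v 4 ∧ v 2 = v 3
  · have hg2 : galShift (galShift v) = v := ext_six rfl h2.1.symm h2.2.symm h2.2 h2.1 rfl
    have hg : galShift v ≠ v := fun e => h1 (by
      have e1 : v 2 = v 1 := congrFun e 1
      have e2 : v 4 = v 2 := congrFun e 2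
      omega)
    refine Or.inr (Or.inl ⟨h1, h2, ?_⟩)
    simp [orb, hg2, List.dedup_cons_of_mem, List.dedup_cons_of_notMem, hg, Ne.symm hg]
  refine Or.inr (Or.inr ⟨h1, h2, ?_⟩)
  unfold orb
  rw [List.dedup_eq_self]
  have k1 : v ≠ galShift v := fun e => h1 (by
    have e1 : v 1 = v 2 := congrFun e 1
    have e2 : v 2 = v 4 := congrFun e 2
    have e3 : v 4 = v 3 := congrFun e 4
    omega)
  have k2 : v ≠ galShift (galShift v) := fun e => h2 ⟨congrFun e 1, congrFun e 2⟩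
  have k4 : ∀ w : Fin 6 → ℤ, galShift (galShift (galShift (galShift w))) = w := fun w =>
    ext_six rfl rfl rfl rfl rfl rfl
  have k3 : v ≠ galShift (galShift (galShift v)) := fun e => k1 (by
    have := congrArg galShift e
    rw [k4] at this
    exact this.symm)
  have kinj : Function.Injective galShift := fun x y e => by
    rw [← k4 x, ← k4 y, e]
  simp only [List.nodup_cons, List.mem_cons, List.not_mem_nil, or_false, not_or, not_false_iff,
    List.nodup_nil, and_true]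
  exact ⟨⟨k1, k2, k3⟩, ⟨kinj.ne k1, kinj.ne k2⟩, (kinj.comp kinj).ne k1⟩

/-- The sums over the orbit of a vector in terms of its key. -/
theorem orbit_sums (v : Fin 6 → ℤ) :
    let p := keyOf (v 0) (v 1) (v 2) (v 3) (v 4)
    osum (fun w => w 0 * w 0) v = p.w0 ∧ osum (fun w => w 1 * w 1) v = p.w1 ∧
    osum (fun w => w 0 * w 1) v = p.w01 ∧ osum (fun w => w 1 * w 2) v = p.w12 ∧
    osum (fun w => w 1 * w 4) v = p.w14 ∧ osum (fun w => w 5 * w 5) v = p.n * (v 5 * v 5) ∧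
    osum (fun w => w 0 * w 5) v = p.c0 * v 5 ∧ osum (fun w => w 1 * w 5) v = p.c1 * v 5 ∧
    osum (fun w => w 0) v = p.c0 ∧ osum (fun w => w 1) v = p.c1 ∧
    osum (fun w => w 5) v = p.n * v 5 ∧ ((orb v).length : ℤ) = p.n ∧
    zval v = 5 * v 5 - 4 * p.s ∧ 1 ≤ p.n ∧ (p.c0 = 0 → p.c1 = 0 → p.s = 0) := by
  simp only [osum, zval, keyOf]
  obtain ⟨g0, g1, g2, g3, g4, g5⟩ := galShift_apply v
  obtain ⟨l0, l1, l2, l3, l4, l5⟩ := galShift_apply (galShift v)
  obtain ⟨m0, m1, m2, m3, m4, m5⟩ := galShift_apply (galShift (galShift v))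
  rcases orb_cases v with ⟨e1, e2, e3, ho⟩ | ⟨h1, ⟨e1, e2⟩, ho⟩ | ⟨h1, h2, ho⟩
  · rw [if_pos ⟨e1, e2, e3⟩, ho]
    simp only [List.map_cons, List.map_nil, List.sum_cons, List.sum_nil, List.length_cons,
      List.length_nil, e1, e2, e3]
    refine ⟨?_, ?_, ?_, ?_, ?_, ?_, ?_, ?_, ?_, ?_, ?_, ?_, ?_, ?_, ?_⟩
    all_goals first | omega | ring | (intros; omega) | norm_num
  · rw [if_neg h1, if_pos ⟨e1, e2⟩, ho]
    simp only [List.map_cons, List.map_nil, List.sum_cons, List.sum_nil, List.length_cons,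
      List.length_nil, g0, g1, g2, g3, g4, g5, ← e1, ← e2]
    refine ⟨?_, ?_, ?_, ?_, ?_, ?_, ?_, ?_, ?_, ?_, ?_, ?_, ?_, ?_, ?_⟩
    all_goals first | omega | ring | (intros; omega) | norm_num
  · rw [if_neg h1, if_neg h2, ho]
    simp only [List.map_cons, List.map_nil, List.sum_cons, List.sum_nil, List.length_cons,
      List.length_nil, g0, g1, g2, g3, g4, g5, l0, l1, l2, l3, l4, l5, m0, m1, m2, m3, m4, m5]
    refine ⟨?_, ?_, ?_, ?_, ?_, ?_, ?_, ?_, ?_, ?_, ?_, ?_, ?_, ?_, ?_⟩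
    all_goals first | omega | ring | (intros; omega) | norm_num

/-- The normalised orbit is computed from the key and the sixth coordinate. -/
theorem item_eq (v : Fin 6 → ℤ) (hne : zval v ≠ 0) :
    let p := keyOf (v 0) (v 1) (v 2) (v 3) (v 4)
    itemOf v = p.norm.item (p.sg * v 5) := by
  obtain ⟨-, -, -, -, -, -, -, -, hc0, hc1, hc2, hn, hz, hn1, hs⟩ := orbit_sums v
  intro p
  have hp : keyOf (v 0) (v 1) (v 2) (v 3) (v 4) = p := rfl
  rw [hp] at hc0 hc1 hc2 hn hz hn1 hs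
  clear_value p
  simp only [itemOf, orbSign, Key.item, Key.norm, hc0, hc1, hc2, hn, hz]
  rw [hz] at hne
  have hsg : p.sg = 1 ∧ ¬ (p.c0 < 0 ∨ (p.c0 = 0 ∧ p.c1 < 0)) ∨
      p.sg = -1 ∧ (p.c0 < 0 ∨ (p.c0 = 0 ∧ p.c1 < 0)) := by
    unfold Key.sg
    split_ifs with h
    · exact Or.inr ⟨rfl, h⟩
    · exact Or.inl ⟨rfl, h⟩
  have hnm : 0 ≤ p.n * v 5 ↔ 0 ≤ v 5 := by
    constructor <;> intro h' <;> nlinarith
  have hnm' : p.n * v 5 ≤ 0 ↔ v 5 ≤ 0 := by
    constructor <;> intro h' <;> nlinarith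
  rcases hsg with ⟨e, h⟩ | ⟨e, h⟩ <;>
    simp only [e, one_mul, neg_mul, mul_neg, neg_eq_zero, ne_eq, Item.mk.injEq, neg_pos] <;>
    split_ifs <;> (try omega) <;> refine ⟨?_, ?_, ?_, ?_, ?_, trivial⟩ <;> (try ring) <;>
      (try omega) <;> (congr 1; ring)

/-- The normalised orbit of a vector with zero key. -/
theorem item_zero {m : ℤ} (hm : m ≠ 0) : Key.zero.item m = Key.zero.item |m| := by
  rcases lt_or_gt_of_ne hm with h | h
  · rw [abs_of_neg h]
    simp only [Key.item, Key.zero, Item.mk.injEq]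
    simp
    split_ifs <;> omega
  · rw [abs_of_pos h]

/-- The sixth coordinate with the sign of the key. -/
def coord (v : Fin 6 → ℤ) : ℤ := (keyOf (v 0) (v 1) (v 2) (v 3) (v 4)).sg * v 5

/-- The normalised key of a vector. -/
def vkey (v : Fin 6 → ℤ) : Key := (keyOf (v 0) (v 1) (v 2) (v 3) (v 4)).norm

/-- The weights of a vector. -/
theorem weights (v : Fin 6 → ℤ) :
    osum (fun w => w 0 * w 0) v = (vkey v).w0 ∧ osum (fun w => w 1 * w 1) v = (vkey v).w1 ∧
    osum (fun w => w 0 * w 1) v = (vkey v).w01 ∧ osum (fun w => w 1 * w 2) v = (vkey v).w12 ∧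
    osum (fun w => w 1 * w 4) v = (vkey v).w14 ∧
    osum (fun w => w 5 * w 5) v = (vkey v).n * (coord v * coord v) ∧
    osum (fun w => w 0 * w 5) v = (vkey v).c0 * coord v ∧
    osum (fun w => w 1 * w 5) v = (vkey v).c1 * coord v := by
  obtain ⟨h0, h1, h2, h3, h4, h5, h6, h7, -⟩ := orbit_sums v
  refine ⟨h0, h1, h2, h3, h4, ?_, ?_, ?_⟩ <;>
    simp only [vkey, coord, Key.norm] <;> rw [‹osum _ v = _›] <;>
    unfold Key.sg <;> split_ifs <;> ring

/-- The orbits of a system of coefficient vectors form one of the configurations. -/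
theorem _root_.CfsgLib.Invol.UThreeFour.configs_complete (hs : List (Fin 6 → ℤ))
    (hne : ∀ v ∈ hs, zval v ≠ 0)
    (hgram : ∀ k l, (hs.map fun v => osum (fun w => w k * w l) v).sum +
      ![1, 0, 0, 0, 0, 1] k * ![1, 0, 0, 0, 0, 1] l = gramMat k l) :
    ∃ c ∈ configs, (hs.map itemOf).Perm c := by
  classical
  have hbound : ∀ v ∈ hs, ∀ k, v k * v k ≤ (hs.map fun u => osum (fun w => w k * w k) u).sum := by
    intro v hv k
    refine le_trans ?_ (List.single_le_sum (fun t ht => ?_) _ (List.mem_map.2 ⟨v, hv, rfl⟩))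
    · refine List.single_le_sum (fun t ht => ?_) _ (List.mem_map.2 ⟨v, ?_, rfl⟩)
      · obtain ⟨w, -, rfl⟩ := List.mem_map.1 ht
        exact mul_self_nonneg _
      · simp [orb]
    · obtain ⟨u, -, rfl⟩ := List.mem_map.1 ht
      exact List.sum_nonneg fun t ht => by
        obtain ⟨w, -, rfl⟩ := List.mem_map.1 ht
        exact mul_self_nonneg _
  have g00 := hgram 0 0
  have g11 := hgram 1 1
  have g22 := hgram 2 2
  have g33 := hgram 3 3
  have g44 := hgram 4 4
  have g55 := hgram 5 5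
  have g01 := hgram 0 1
  have g12 := hgram 1 2
  have g14 := hgram 1 4
  have g05 := hgram 0 5
  have g15 := hgram 1 5
  simp [gramMat] at g00 g11 g22 g33 g44 g55 g01 g12 g14 g05 g15
  set L := hs.filter (fun v => decide (vkey v ≠ Key.zero)) with hLdef
  set Z := hs.filter (fun v => !decide (vkey v ≠ Key.zero)) with hZdef
  have hperm : (L ++ Z).Perm hs := List.filter_append_perm _ _
  have hsum : ∀ f : (Fin 6 → ℤ) → ℤ, (hs.map f).sum = (L.map f).sum + (Z.map f).sum := fun f => by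
    rw [← (hperm.map f).sum_eq, List.map_append, List.sum_append]
  have hZ : ∀ v ∈ Z, v ∈ hs ∧ vkey v = Key.zero := fun v hv => by
    simpa [hZdef] using hv
  have hz0 : ∀ f : Key → ℤ, f Key.zero = 0 → ((Z.map fun v => f (vkey v)).sum) = 0 := fun f hf =>
    List.sum_eq_zero fun t ht => by
      obtain ⟨v, hv, rfl⟩ := List.mem_map.1 ht
      rw [(hZ v hv).2, hf]
  have hrw : ∀ (f : (Fin 6 → ℤ) → ℤ) (F : (Fin 6 → ℤ) → ℤ), (∀ v, f v = F v) →
      (hs.map f).sum = (hs.map F).sum := fun f F h => by rw [funext h]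
  have hkeys : ∀ v ∈ L, vkey v ∈ keys := fun v hv => by
    rw [hLdef, List.mem_filter] at hv
    have b0 := hbound v hv.1 0
    have b1 := hbound v hv.1 1
    have b2 := hbound v hv.1 2
    have b3 := hbound v hv.1 3
    have b4 := hbound v hv.1 4
    have w0 : (vkey v).w0 ≤ (hs.map fun u => osum (fun w => w 0 * w 0) u).sum := by
      rw [← (weights v).1]
      refine List.single_le_sum (fun t ht => ?_) _ (List.mem_map.2 ⟨v, hv.1, rfl⟩)
      obtain ⟨u, -, rfl⟩ := List.mem_map.1 ht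
      exact List.sum_nonneg fun t ht => by
        obtain ⟨w, -, rfl⟩ := List.mem_map.1 ht
        exact mul_self_nonneg _
    have w1 : (vkey v).w1 ≤ (hs.map fun u => osum (fun w => w 1 * w 1) u).sum := by
      rw [← (weights v).2.1]
      refine List.single_le_sum (fun t ht => ?_) _ (List.mem_map.2 ⟨v, hv.1, rfl⟩)
      obtain ⟨u, -, rfl⟩ := List.mem_map.1 ht
      exact List.sum_nonneg fun t ht => by
        obtain ⟨w, -, rfl⟩ := List.mem_map.1 ht
        exact mul_self_nonneg _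
    rcases mem_keys (a := v 0) (b := v 1) (c := v 2) (d := v 3) (e := v 4) (by linarith)
      (by linarith) (by linarith) (by linarith) (by linarith)
      (show (vkey v).w0 ≤ 4 by linarith) (show (vkey v).w1 ≤ 5 by linarith) with h | h
    · exact absurd h (of_decide_eq_true hv.2)
    · exact h
  have hk := keys_ok
  simp only [List.all_eq_true, decide_eq_true_eq] at hk
  obtain ⟨c, hc, hcp⟩ := mem_search hk (L.map vkey) (fun p hp => by
      obtain ⟨v, hv, rfl⟩ := List.mem_map.1 hp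
      exact hkeys v hv) 4 5 1 1 1 le_rfl le_rfl
    (by rw [List.map_map]; linarith [hrw _ _ fun v => (weights v).1, hsum (fun v => (vkey v).w0),
      hz0 Key.w0 rfl, show (L.map (Key.w0 ∘ vkey)).sum = (L.map fun v => (vkey v).w0).sum from rfl])
    (by rw [List.map_map]; linarith [hrw _ _ fun v => (weights v).2.1, hsum (fun v => (vkey v).w1),
      hz0 Key.w1 rfl, show (L.map (Key.w1 ∘ vkey)).sum = (L.map fun v => (vkey v).w1).sum from rfl])
    (by rw [List.map_map]; linarith [hrw _ _ fun v => (weights v).2.2.1,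
      hsum (fun v => (vkey v).w01), hz0 Key.w01 rfl,
      show (L.map (Key.w01 ∘ vkey)).sum = (L.map fun v => (vkey v).w01).sum from rfl])
    (by rw [List.map_map]; linarith [hrw _ _ fun v => (weights v).2.2.2.1,
      hsum (fun v => (vkey v).w12), hz0 Key.w12 rfl,
      show (L.map (Key.w12 ∘ vkey)).sum = (L.map fun v => (vkey v).w12).sum from rfl])
    (by rw [List.map_map]; linarith [hrw _ _ fun v => (weights v).2.2.2.2.1,
      hsum (fun v => (vkey v).w14), hz0 Key.w14 rfl,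
      show (L.map (Key.w14 ∘ vkey)).sum = (L.map fun v => (vkey v).w14).sum from rfl])
  have hitem : ∀ v ∈ hs, itemOf v = (vkey v).item (coord v) := fun v hv => item_eq v (hne v hv)
  have hzm : ∀ v ∈ Z, coord v ≠ 0 ∧ |coord v| ≤ 3 := fun v hv => by
    obtain ⟨hvs, hk0⟩ := hZ v hv
    constructor
    · intro h0
      have hz := (orbit_sums v).2.2.2.2.2.2.2.2.2.2.2.2.1
      have hs0 : (vkey v).s = 0 := by rw [hk0]; rfl
      refine hne v hvs (hz.trans ?_)
      simp only [vkey, coord, Key.norm] at hs0 h0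
      unfold Key.sg at hs0 h0
      split_ifs at hs0 h0 <;> omega
    · have b5 := hbound v hvs 5
      have h5 : coord v * coord v = v 5 * v 5 := by
        unfold coord Key.sg; split_ifs <;> ring
      rw [abs_le]
      constructor <;> nlinarith
  obtain ⟨r, hr, hrp⟩ := mem_extend c (L.map fun v => ⟨vkey v, coord v, itemOf v⟩) 15 3 4 le_rfl
    (by simpa [Function.comp_def] using hcp) (fun h hh => by
      obtain ⟨v, hv, rfl⟩ := List.mem_map.1 hh
      have hvs : v ∈ hs := (List.mem_filter.1 hv).1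
      have hz := (orbit_sums v).2.2.2.2.2.2.2.2.2.2.2.2
      refine ⟨hitem v hvs, fun h0 => hne v hvs (hz.1.trans ?_), hz.2.1⟩
      simp only [vkey, coord, Key.norm] at h0
      unfold Key.sg at h0
      split_ifs at h0 <;> omega)
    (Z.map fun v => ⟨vkey v, |coord v|, itemOf v⟩) (fun h hh => by
      obtain ⟨v, hv, rfl⟩ := List.mem_map.1 hh
      obtain ⟨hm0, hm3⟩ := hzm v hv
      refine ⟨(hitem v (hZ v hv).1).trans ?_, ?_⟩
      · rw [(hZ v hv).2]; exact item_zero hm0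
      · show |coord v| = 1 ∨ |coord v| = 2 ∨ |coord v| = 3
        have := abs_pos.2 hm0
        omega)
    (by
      simp only [List.map_map, Function.comp_def, abs_mul_abs_self]
      have e1 := hrw _ _ fun v => (weights v).2.2.2.2.2.1
      have e2 := hsum (fun v => (vkey v).n * (coord v * coord v))
      have e3 : (Z.map fun v => (vkey v).n * (coord v * coord v)).sum =
          (Z.map fun v => coord v * coord v).sum := congrArg List.sum
        (List.map_congr_left fun v hv => by rw [(hZ v hv).2]; exact one_mul _)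
      linarith)
    (by
      simp only [List.map_map, Function.comp_def]
      have e1 := hrw _ _ fun v => (weights v).2.2.2.2.2.2.1
      have e2 := hsum (fun v => (vkey v).c0 * coord v)
      have e3 : (Z.map fun v => (vkey v).c0 * coord v).sum = 0 := List.sum_eq_zero fun t ht => by
        obtain ⟨v, hv, rfl⟩ := List.mem_map.1 ht
        rw [(hZ v hv).2]; exact zero_mul _
      linarith)
    (by
      simp only [List.map_map, Function.comp_def]
      have e1 := hrw _ _ fun v => (weights v).2.2.2.2.2.2.2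
      have e2 := hsum (fun v => (vkey v).c1 * coord v)
      have e3 : (Z.map fun v => (vkey v).c1 * coord v).sum = 0 := List.sum_eq_zero fun t ht => by
        obtain ⟨v, hv, rfl⟩ := List.mem_map.1 ht
        rw [(hZ v hv).2]; exact zero_mul _
      linarith)
  have hok := searches_ok
  simp only [List.all_eq_true, List.any_eq_true, List.isPerm_iff] at hok
  obtain ⟨d, hd, hdp⟩ := hok c hc r hr
  refine ⟨d, hd, ((hperm.map itemOf).symm.trans ?_).trans (hrp.trans hdp)⟩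
  refine List.Perm.of_eq ?_
  simp [Function.comp_def]

end CfsgLib.Invol.UThreeFour.Shapes
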