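import Cfsg.Agent.Lib.Invol.UThreeFour.Orbits
import Cfsg.Agent.Lib.Invol.UThreeFour.CasesSolved
import Cfsg.Agent.Lib.Invol.UThreeFour.Shapes

/-!
The degree system of the principal block has only the solution of PSU(3,4).
-/

set_option autoImplicit false

namespace CfsgLib.Invol.UThreeFour

universe u

/-- The degree system is solved. -/
theorem Sys.solved_by_orbits {ι : Type u} [Fintype ι] (C : Sys ι) : C.Solved := by
  obtain ⟨l, hl, ht⟩ := Orbits.exists_red_of C configs_complete
  obtain ⟨hQ, p, hp, ha, hD⟩ := red_solved hl C.Q_neg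
  exact ⟨hQ, ht p hp ha hD⟩

end CfsgLib.Invol.UThreeFour
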